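import Groth.Agent.CohDual.ExtShShift
import Groth.Agent.ModGroth.Tensor

/-!
# The Ext sheaves from an acyclic resolution in the first variable
-/

set_option autoImplicit false
set_option linter.style.haveILetI false

universe u

open CategoryTheory CategoryTheory.Limits

namespace Groth.Agent.CohDual

open Groth.Agent.ModGroth

section Abstract

universe v w

variable {A : Type w} [Category.{v} A] [Abelian A]

/-- Homology of a composable pair through a kernel and a cokernel. -/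
lemma nonempty_homology_iso {S : ShortComplex A} {K H : A} (i : K ⟶ S.X₂) (hw : i ≫ S.g = 0)
    (hi : (ShortComplex.mk i S.g hw).Exact) [Mono i] (f' : S.X₁ ⟶ K) (hf : f' ≫ i = S.f)
    (p : K ⟶ H) (hp : f' ≫ p = 0) (hpe : (ShortComplex.mk f' p hp).Exact) [Epi p] :
    Nonempty (S.homology ≅ H) := by
  have hK := hi.fIsKernel
  have hlift : hK.lift (KernelFork.ofι S.f S.zero) = f' := by
    rw [← cancel_mono i]
    exact (hK.fac _ WalkingParallelPair.zero).trans hf.symm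
  let h : S.LeftHomologyData :=
    { K := K, H := H, i := i, π := p, wi := hw, hi := hK
      wπ := by rw [hlift]; exact hp
      hπ := CokernelCofork.IsColimit.ofπ' p _ fun {T} k hk =>
        ⟨hpe.desc k ((congrArg (· ≫ k) hlift).symm.trans hk), hpe.g_desc _ _⟩ }
  exact ⟨h.homologyIso⟩

/-- The homology in degree zero of a left bounded complex through a kernel. -/
lemma nonempty_homology_zero_iso {S : ShortComplex A} (hf : S.f = 0) {K : A} (i : K ⟶ S.X₂) (hw : i ≫ S.g = 0)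
    (hi : (ShortComplex.mk i S.g hw).Exact) [Mono i] : Nonempty (S.homology ≅ K) :=
  nonempty_homology_iso i hw hi 0 (by rw [zero_comp, hf]) (𝟙 K) zero_comp
    ((ShortComplex.exact_iff_mono _ rfl).2 (inferInstanceAs (Mono (𝟙 K))))

/-- Composing with a monomorphism keeps exactness. -/
lemma exact_comp_mono {X₁ X₂ X₃ X₄ : A} {f : X₁ ⟶ X₂} {g : X₂ ⟶ X₃} {w : f ≫ g = 0}
    (h : (ShortComplex.mk f g w).Exact) (m : X₃ ⟶ X₄) [Mono m] {g' : X₂ ⟶ X₄} (hg : g ≫ m = g') :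
    ∃ w' : f ≫ g' = 0, (ShortComplex.mk f g' w').Exact := by
  subst hg
  refine ⟨by rw [reassoc_of% w, zero_comp], ?_⟩
  let φ : ShortComplex.mk f g w ⟶ ShortComplex.mk f (g ≫ m) (by rw [reassoc_of% w, zero_comp]) :=
    { τ₁ := 𝟙 _, τ₂ := 𝟙 _, τ₃ := m
      comm₁₂ := (Category.id_comp _).trans (Category.comp_id _).symm
      comm₂₃ := Category.id_comp _ }
  haveI : Epi φ.τ₁ := inferInstanceAs (Epi (𝟙 _))
  haveI : IsIso φ.τ₂ := inferInstanceAs (IsIso (𝟙 _))
  haveI : Mono φ.τ₃ := inferInstanceAs (Mono m)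
  exact (ShortComplex.exact_iff_of_epi_of_isIso_of_mono φ).1 h

/-- Degree zero homology of a complex isomorphic to one with known kernel. -/
lemma nonempty_complex_zero (C : CochainComplex A ℕ) {H₀ H₁ K : A} (e₀ : C.X 0 ≅ H₀) (e₁ : C.X 1 ≅ H₁)
    (g : H₀ ⟶ H₁) (hg : C.d 0 1 ≫ e₁.hom = e₀.hom ≫ g) (k : K ⟶ H₀) (w : k ≫ g = 0)
    (h : (ShortComplex.mk k g w).Exact) (hk : Mono k) : Nonempty (C.homology 0 ≅ K) := by
  haveI : Mono (k ≫ e₀.inv) := mono_comp _ _
  have hw : (k ≫ e₀.inv) ≫ C.d 0 1 = 0 := by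
    rw [← cancel_mono e₁.hom, Category.assoc, Category.assoc, hg, Iso.inv_hom_id_assoc, zero_comp, w]
  obtain ⟨ψ⟩ := nonempty_homology_zero_iso (S := C.sc' 0 0 1) (C.shape 0 0 (by simp)) (k ≫ e₀.inv) hw
    (ShortComplex.exact_of_iso (ShortComplex.isoMk (S₁ := ShortComplex.mk k g w)
      (S₂ := ShortComplex.mk (k ≫ e₀.inv) (C.d 0 1) hw) (Iso.refl K) e₀.symm e₁.symm (Category.id_comp _)
      (by change e₀.inv ≫ C.d 0 1 = g ≫ e₁.inv; rw [Iso.inv_comp_eq, ← Category.assoc, Iso.eq_comp_inv, hg])) h)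
  exact ⟨C.homologyIsoSc' 0 0 1 (by simp) (by simp) ≪≫ ψ⟩

/-- Positive degree homology of an isomorphic complex. -/
lemma nonempty_complex_succ (C : CochainComplex A ℕ) (i : ℕ) {H₀ H₁ H₂ T : A} (e₀ : C.X i ≅ H₀)
    (e₁ : C.X (i + 1) ≅ H₁) (e₂ : C.X (i + 1 + 1) ≅ H₂) (f : H₀ ⟶ H₁) (g : H₁ ⟶ H₂)
    (hf : C.d i (i + 1) ≫ e₁.hom = e₀.hom ≫ f) (hg : C.d (i + 1) (i + 1 + 1) ≫ e₂.hom = e₁.hom ≫ g)
    (w : f ≫ g = 0) (h : Nonempty ((ShortComplex.mk f g w).homology ≅ T)) :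
    Nonempty (C.homology (i + 1) ≅ T) := by
  obtain ⟨ψ⟩ := h
  exact ⟨C.homologyIsoSc' i (i + 1) (i + 1 + 1) (by simp) (by simp) ≪≫
    ShortComplex.homologyMapIso (ShortComplex.isoMk (S₁ := C.sc' i (i + 1) (i + 1 + 1))
      (S₂ := ShortComplex.mk f g w) e₀ e₁ e₂ hf.symm hg.symm) ≪≫ ψ⟩

end Abstract

variable {C : Type u} [SmallCategory C] {J : GrothendieckTopology C} {O : Sheaf J CommRingCat.{u}}
  [HasInjectiveResolutions (ModSite.Mod O)]
  (F G : ModSite.Mod O) (E : ℕ → ModSite.Mod O) (d : ∀ j, E (j + 1) ⟶ E j)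
  [∀ j, ModSite.HasSheafHom (E j)] [ModSite.HasSheafHom F]

omit [HasInjectiveResolutions (ModSite.Mod O)] [∀ j, ModSite.HasSheafHom (E j)] in
/-- The cokernels of an exact sequence form short exact sequences. -/
lemma shortExact_syzygy (hd : ∀ j, d (j + 1) ≫ d j = 0)
    (hex : ∀ j, (ShortComplex.mk _ _ (hd j)).Exact) (j : ℕ) {Z : ModSite.Mod O} (q : E j ⟶ Z) [Epi q]
    (hq : d j ≫ q = 0) (hqe : (ShortComplex.mk _ q hq).Exact) :
    (ShortComplex.mk (cokernel.desc (d (j + 1)) (d j) (hd j)) q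
      (by rw [← cancel_epi (cokernel.π (d (j + 1))), cokernel.π_desc_assoc, hq, comp_zero])).ShortExact := by
  refine { mono_f := ShortComplex.Exact.mono_cokernelDesc (hex j), exact := ?_ }
  let φ : ShortComplex.mk _ q hq ⟶ ShortComplex.mk (cokernel.desc (d (j + 1)) (d j) (hd j)) q
      (by rw [← cancel_epi (cokernel.π (d (j + 1))), cokernel.π_desc_assoc, hq, comp_zero]) :=
    { τ₁ := cokernel.π _, τ₂ := 𝟙 _, τ₃ := 𝟙 _
      comm₁₂ := (cokernel.π_desc _ _ _).trans (Category.comp_id _).symm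
      comm₂₃ := (Category.id_comp _).trans (Category.comp_id _).symm }
  haveI : Epi φ.τ₁ := inferInstanceAs (Epi (cokernel.π _))
  haveI : IsIso φ.τ₂ := inferInstanceAs (IsIso (𝟙 _))
  haveI : Mono φ.τ₃ := inferInstanceAs (Mono (𝟙 _))
  exact (ShortComplex.exact_iff_of_epi_of_isIso_of_mono φ).1 hqe

omit [HasInjectiveResolutions (ModSite.Mod O)] in
/-- `sheafHomMap` is contravariantly functorial. -/
lemma sheafHomMap_app_comp {M M' M'' : ModSite.Mod O} [ModSite.HasSheafHom M] [ModSite.HasSheafHom M']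
    [ModSite.HasSheafHom M''] (a : M'' ⟶ M') (b : M' ⟶ M) (c : M'' ⟶ M) (h : a ≫ b = c) (I : ModSite.Mod O) :
    (ExtSupp.sheafHomMap b).app I ≫ (ExtSupp.sheafHomMap a).app I = (ExtSupp.sheafHomMap c).app I := by
  subst h
  apply ((ModSite.sheafHomAdj M'').homEquiv _ I).symm.injective
  rw [homEquiv_symm_sheafHomMap, ← Category.id_comp ((ExtSupp.sheafHomMap b).app I), homEquiv_symm_sheafHomMap,
    ← Category.id_comp ((ExtSupp.sheafHomMap (a ≫ b)).app I), homEquiv_symm_sheafHomMap, ← Category.assoc]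
  exact congrArg (· ≫ _) ((tL _).map_comp a b).symm

omit [HasInjectiveResolutions (ModSite.Mod O)] in
/-- The kernel of `Hom(E j) → Hom(E (j+1))` is `Hom` out of the cokernel. -/
lemma exists_kernel_seq (hd : ∀ j, d (j + 1) ≫ d j = 0) (hex : ∀ j, (ShortComplex.mk _ _ (hd j)).Exact)
    (j : ℕ) {Z : ModSite.Mod O} [ModSite.HasSheafHom Z] (q : E j ⟶ Z) [Epi q] (hq : d j ≫ q = 0)
    (hqe : (ShortComplex.mk _ q hq).Exact) :
    ∃ w : (ExtSupp.sheafHomMap q).app G ≫ (ExtSupp.sheafHomMap (d j)).app G = 0,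
      (ShortComplex.mk _ _ w).Exact ∧ Mono ((ExtSupp.sheafHomMap q).app G) := by
  haveI : ∀ M : ModSite.Mod O, ModSite.HasSheafHom M := hasSheafHom
  have hS := shortExact_syzygy E d hd hex j q hq hqe
  have hm₁ := exact_sheafHomMap hS G
  have hS' := shortExact_syzygy E d hd hex (j + 1) (cokernel.π (d (j + 1))) (cokernel.condition _)
    (ShortComplex.exact_of_g_is_cokernel _ (cokernelIsCokernel _))
  haveI := mono_sheafHomMap hS' G
  have hfac : (ExtSupp.sheafHomMap (d j)).app G =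
      (ExtSupp.sheafHomMap (cokernel.desc (d (j + 1)) (d j) (hd j))).app G ≫
        (ExtSupp.sheafHomMap (cokernel.π (d (j + 1)))).app G :=
    (sheafHomMap_app_comp _ _ _ (cokernel.π_desc _ _ _) G).symm
  obtain ⟨w, hw⟩ := exact_comp_mono hm₁ ((ExtSupp.sheafHomMap (cokernel.π (d (j + 1)))).app G) hfac.symm
  exact ⟨w, hw, mono_sheafHomMap hS G⟩

/-- Shifting all the way down the resolution. -/
lemma nonempty_extSh_syzygy (hd : ∀ j, d (j + 1) ≫ d j = 0) (hex : ∀ j, (ShortComplex.mk _ _ (hd j)).Exact)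
    (hac : ∀ j p, IsZero ((ModSite.extSh (E j) (p + 1)).obj G)) (i : ℕ) :
    ∀ (j : ℕ) {Z : ModSite.Mod O} [ModSite.HasSheafHom Z] (q : E j ⟶ Z) [Epi q] (hq : d j ≫ q = 0)
      (_ : (ShortComplex.mk _ q hq).Exact),
      ∃ (Z' : ModSite.Mod O) (_ : ModSite.HasSheafHom Z') (q' : E (j + i) ⟶ Z') (_ : Epi q')
        (hq' : d (j + i) ≫ q' = 0), (ShortComplex.mk _ q' hq').Exact ∧
        ∀ p, Nonempty ((ModSite.extSh Z' (p + 1)).obj G ≅ (ModSite.extSh Z (p + i + 1)).obj G) := by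
  induction i with
  | zero => exact fun j Z _ q _ hq hqe => ⟨Z, inferInstance, q, inferInstance, hq, hqe, fun p => ⟨Iso.refl _⟩⟩
  | succ i ih =>
    intro j Z hZ q hq₁ hq hqe
    haveI : ∀ M : ModSite.Mod O, ModSite.HasSheafHom M := hasSheafHom
    obtain ⟨Z', hZ', q', hq₁', hq', hqe', e⟩ := ih j q hq hqe
    have hS := shortExact_syzygy E d hd hex (j + i) q' hq' hqe'
    refine ⟨cokernel (d (j + i + 1)), inferInstance, cokernel.π (d (j + i + 1)), inferInstance,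
      cokernel.condition _, ShortComplex.exact_of_g_is_cokernel _ (cokernelIsCokernel _), ?_⟩
    intro p
    obtain ⟨e₁⟩ := nonempty_extSh_shift _ hS G p (hac _ p) (hac _ (p + 1))
    obtain ⟨e₂⟩ := e (p + 1)
    exact ⟨e₁ ≪≫ e₂ ≪≫ eqToIso (by rw [show p + 1 + i + 1 = p + (i + 1) + 1 by omega])⟩

/-- **The Ext sheaves are computed by an acyclic resolution.** -/
theorem nonempty_homology_extSh (π : E 0 ⟶ F) [Epi π] (hπ : d 0 ≫ π = 0)
    (hπe : (ShortComplex.mk _ π hπ).Exact) (hd : ∀ j, d (j + 1) ≫ d j = 0)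
    (hex : ∀ j, (ShortComplex.mk _ _ (hd j)).Exact)
    (hac : ∀ j p, IsZero ((ModSite.extSh (E j) (p + 1)).obj G)) :
    (∃ w : (ExtSupp.sheafHomMap π).app G ≫ (ExtSupp.sheafHomMap (d 0)).app G = 0,
      (ShortComplex.mk _ _ w).Exact ∧ Mono ((ExtSupp.sheafHomMap π).app G)) ∧
    ∀ i, ∃ w : (ExtSupp.sheafHomMap (d i)).app G ≫ (ExtSupp.sheafHomMap (d (i + 1))).app G = 0,
      Nonempty ((ShortComplex.mk _ _ w).homology ≅ (ModSite.extSh F (i + 1)).obj G) := by
  refine ⟨exists_kernel_seq G E d hd hex 0 π hπ hπe, fun i => ?_⟩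
  haveI : ∀ M : ModSite.Mod O, ModSite.HasSheafHom M := hasSheafHom
  obtain ⟨Z', hZ', q', hq₁', hq', hqe', e⟩ := nonempty_extSh_syzygy G E d hd hex hac i 0 π hπ hπe
  obtain ⟨k, rfl⟩ : ∃ k, k = 0 + i := ⟨_, rfl⟩
  obtain ⟨e₀⟩ := e 0
  have hS := shortExact_syzygy E d hd hex (0 + i) q' hq' hqe'
  obtain ⟨δ, wδ, hδ, hδe⟩ := exists_extSh_one _ hS G (hac _ 0)
  obtain ⟨wk, hk, hkm⟩ := exists_kernel_seq G E d hd hex (0 + i + 1) (cokernel.π (d (0 + i + 1)))
    (cokernel.condition _) (ShortComplex.exact_of_g_is_cokernel _ (cokernelIsCokernel _))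
  have hfac : (ExtSupp.sheafHomMap (cokernel.desc (d (0 + i + 1)) (d (0 + i)) (hd (0 + i)))).app G ≫
      (ExtSupp.sheafHomMap (cokernel.π (d (0 + i + 1)))).app G = (ExtSupp.sheafHomMap (d (0 + i))).app G :=
    sheafHomMap_app_comp _ _ _ (cokernel.π_desc _ _ _) G
  have w : (ExtSupp.sheafHomMap (d (0 + i))).app G ≫ (ExtSupp.sheafHomMap (d (0 + i + 1))).app G = 0 := by
    rw [← hfac, Category.assoc]
    exact (congrArg (_ ≫ ·) wk).trans comp_zero
  have key : ∀ n, n = 0 + i → ∀ T, Nonempty ((ShortComplex.mk _ _ w).homology ≅ T) →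
      ∃ w' : (ExtSupp.sheafHomMap (d n)).app G ≫ (ExtSupp.sheafHomMap (d (n + 1))).app G = 0,
        Nonempty ((ShortComplex.mk _ _ w').homology ≅ T) := by
    rintro n rfl T h
    exact ⟨w, h⟩
  refine key i (zero_add i).symm _ ?_
  haveI := hkm
  haveI := hδe
  obtain ⟨e₁⟩ := nonempty_homology_iso (S := ShortComplex.mk _ _ w) _ wk hk _ hfac δ wδ hδ
  exact ⟨e₁ ≪≫ e₀ ≪≫ eqToIso (by rw [show 0 + i + 1 = i + 1 by omega])⟩

end Groth.Agent.CohDual
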