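import Groth.Agent.CohDual.ExtShCoherent
import Groth.Agent.ProjCoh.ExtTwist
import Groth.Agent.ProjCoh.TwistEpi
import Groth.Agent.ProjCoh.Serre
import Groth.Agent.InvPow.Resolution
import Groth.Agent.ModGroth.PerfTensor
import Groth.Agent.CohFinite.DevissageGen
import Groth.Agent.ProjCoh.CoherentDuality
import Groth.Agent.LocFree.Retract

/-!
# Coherence of the Ext sheaves on projective space
-/

set_option autoImplicit false
set_option linter.style.haveILetI false

universe u

open CategoryTheory CategoryTheory.Limits AlgebraicGeometry Opposite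
open scoped Groth.Agent.CohVanish

namespace Groth.Agent.CohDual

open Groth.Agent.ModGroth Groth.Agent.ProjCoh

attribute [local instance] Abelian.hasFiniteBiproducts

variable {n : ℕ} {R : Type u} [CommRing R]

lemma isFinLocFree_twist (d : ℤ) : FlatMod.IsFinLocFree (Twist.twist (CohB1.polyGrading n R) d) :=
  InvPow.isFinLocFree_of_isInvertible (ProjTwist.isInvertible_twist (hasUnit_polyGrading d))

lemma isFinLocFree_biproduct {Z : Scheme.{u}} (B : Z.Modules) (hB : FlatMod.IsFinLocFree B) (r : ℕ) :
    FlatMod.IsFinLocFree (⨁ fun _ : Fin r => B) := by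
  refine LocFree.isFinLocFree_retract (biproduct.isoCoproduct fun _ : Fin r => B).hom
    (biproduct.isoCoproduct fun _ : Fin r => B).inv (Iso.hom_inv_id _) ?_
  exact ModGroth.Perf.isFinLocFree_sigma _ fun _ => hB

variable {X : Scheme.{u}}

/-- `Hom(B, -)` is `- ⊗ A` for an inverse `A` of `B`. -/
theorem nonempty_homMod_iso_of_inverse (A B : X.Modules) [ModSite.HasSheafHom (O := X.sheaf) B]
    (hAB : Nonempty (CohB1.tensorMod A B ≅ Coh.structureModule X))
    (hBA : Nonempty (CohB1.tensorMod B A ≅ Coh.structureModule X)) (G : X.Modules) :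
    Nonempty (homMod B G ≅ CohB1.tensorMod G A) := by
  obtain ⟨eAB⟩ := hAB
  obtain ⟨eBA⟩ := hBA
  let u0 : unitObj X.sheaf ≅ ModSite.unit X.sheaf :=
    haveI : IsIso (adjn X.sheaf).counit :=
      inferInstanceAs (IsIso (PresheafOfModules.sheafificationAdjunction (𝟙 (ModSite.ringSh X.sheaf).obj)).counit)
    (asIso (adjn X.sheaf).counit).app (ModSite.unit X.sheaf)
  let e := tensorEquivalence (O := X.sheaf) A B (eAB ≪≫ u0.symm) (eBA ≪≫ u0.symm)
  exact ⟨((ModSite.sheafHomAdj (O := X.sheaf) B).rightAdjointUniq e.toAdjunction).app G⟩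

/-- Finite sums of a finite locally free module are good, if it is. -/
theorem goodAt_biproduct [IsLocallyNoetherian X] [HasInjectiveResolutions (ModSite.Mod X.sheaf)]
    (B G : X.Modules) (hB : Coh.IsCoh B) (hlf : FlatMod.IsFinLocFree B)
    (hh : ∀ [ModSite.HasSheafHom (O := X.sheaf) B], Coh.IsCoh (homMod B G)) (r : ℕ) :
    GoodAt G (⨁ fun _ : Fin r => B) where
  coh := CohFinite.isCoh_biproduct hB r
  hom := by
    intro _
    haveI : ∀ N : X.Modules, ModSite.HasSheafHom (O := X.sheaf) N := fun N => hasSheafHom (O := X.sheaf) N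
    exact isCoh_homMod_sum (fun _ : Fin r => B) _ (biproduct.ι _) (biproduct.π _) biproduct.total G
      (CohFinite.isCoh_biproduct hh r)
  acyclic := by
    intro _ p
    exact isZero_extSh_succ (O := X.sheaf) _
      (fun M N g hg => haveI : Epi (C := X.Modules) g := hg
        ModGroth.SheafHomExact.epi_sheafHom_map (X := X) (isFinLocFree_biproduct B hlf r) (G := M) (G' := N) g) G p

variable (n R) in
/-- Twists are inverse to each other. -/
theorem nonempty_twist_tensor_inverse (d : ℤ) :
    Nonempty (CohB1.tensorMod (Twist.twist (CohB1.polyGrading n R) d) (Twist.twist (CohB1.polyGrading n R) (-d)) ≅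
      Coh.structureModule (Proj (CohB1.polyGrading n R))) := by
  obtain ⟨eAB⟩ := ProjTwist.nonempty_tensor_twist_iso (CohB1.polyGrading n R)
    (show d + -d = 0 by ring) (hasUnit_polyGrading (-d))
  obtain ⟨e0⟩ := ProjTwist.nonempty_structureModule_iso_twist_zero (CohB1.polyGrading n R)
  exact ⟨eAB ≪≫ e0.symm⟩

variable [IsNoetherianRing R]
  [HasInjectiveResolutions (ModSite.Mod (Proj (CohB1.polyGrading n R)).sheaf)]

/-- Sums of one twist are good. -/
theorem goodAt_biproduct_twist (G : (Proj (CohB1.polyGrading n R)).Modules) (hG : Coh.IsCoh G) (d : ℤ) (r : ℕ) :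
    GoodAt G (⨁ fun _ : Fin r => Twist.twist (CohB1.polyGrading n R) d) :=
  goodAt_biproduct (X := Proj (CohB1.polyGrading n R)) _ G (isCoh_twist_self d) (isFinLocFree_twist d)
    (fun {_} => by
      have h := nonempty_twist_tensor_inverse n R (-d)
      rw [neg_neg] at h
      obtain ⟨e⟩ := nonempty_homMod_iso_of_inverse (X := Proj (CohB1.polyGrading n R))
        (Twist.twist (CohB1.polyGrading n R) (-d)) (Twist.twist (CohB1.polyGrading n R) d) h
        (nonempty_twist_tensor_inverse n R d) G
      exact QCohLib.isCoh_of_iso e.symm (isCoh_twist (n := n) (R := R) G hG (-d))) r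

/-- **The Ext sheaves of coherent modules on projective space are coherent.** -/
theorem isCoh_extSh_proj (M G : (Proj (CohB1.polyGrading n R)).Modules) (hM : Coh.IsCoh M) (hG : Coh.IsCoh G)
    [ModSite.HasSheafHom (O := (Proj (CohB1.polyGrading n R)).sheaf) M] (j : ℕ) :
    Coh.IsCoh (X := Proj (CohB1.polyGrading n R))
      ((ModSite.extSh (O := (Proj (CohB1.polyGrading n R)).sheaf) M j).obj G) := by
  refine isCoh_extSh G (fun M' hM' => ?_) j M hM
  obtain ⟨q, r, g, hg⟩ := exists_epi_twist M' hM'
  exact ⟨_, biproduct.desc g, hg, goodAt_biproduct_twist G hG _ r⟩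

end Groth.Agent.CohDual
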