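import Groth.Agent.CohDual.NaturalDual
import Groth.Agent.ProjCoh.ExtDual

/-!
# Natural duality on projective space
-/

set_option autoImplicit false
set_option linter.style.haveILetI false

universe u

open CategoryTheory CategoryTheory.Limits CategoryTheory.Abelian AlgebraicGeometry
open scoped Groth.Agent.CohVanish

namespace Groth.Agent.CohDual

-- keep one instance path (`CommRing.toRing`) inside `Proj (polyGrading n k)`, for the kernel
attribute [local instance 10000] CommRing.toRing

open Groth.Agent.ProjCoh

variable {n : ℕ} {k : Type u} [Field k]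

/-- The structure map of projective space, on `Proj`. -/
noncomputable local instance overProjC (n : ℕ) (k : Type u) [Field k] :
    (Proj (CohB1.polyGrading n k)).Over (Spec (CommRingCat.of k)) := ⟨CohB1.ProjSpace.toSpec n k⟩

variable [HasExt.{u} (Proj (CohB1.polyGrading n k)).Modules]

/-- **Duality data of projective space.** -/
theorem exists_dualData : ∃ t : Coh.HH (Proj (CohB1.polyGrading n k))
    (Twist.twist (CohB1.polyGrading n k) (-((n : ℤ) + 1))) n →ₗ[k] k,
      Function.Bijective t ∧ DualData (X := Proj (CohB1.polyGrading n k)) t Coh.IsCoh := by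
  obtain ⟨t, ht, htop⟩ := exists_trace n k
  refine ⟨t, ht, fun F hF => htop F hF.1 (hasDual_of_isCoh F hF), fun F hF => ?_⟩
  obtain ⟨L, g, hL, hg, hLH, hLE⟩ := exists_cover F hF
  haveI := hg
  refine ⟨L, g, hg, hL, QCohLib.isCoh_kernel g hL hF.1, fun p hp => ?_, hLE⟩
  obtain ⟨c⟩ := nonempty_HH_equiv_HS L hL.1 p
  haveI := hLH p hp
  exact c.injective.subsingleton

end Groth.Agent.CohDual
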