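import Groth.Agent.CohDual.DimVanish
import Groth.Agent.CechCmp.Natural
import Groth.Agent.ProjCoh.TwSys
import Groth.Agent.QCohLib.Coherent
import Groth.Prelude.Def_KLin

/-!
# Cohomology and direct image along a closed immersion, linearly and naturally
-/

set_option autoImplicit false
set_option linter.style.haveILetI false

universe u

open CategoryTheory AlgebraicGeometry TopologicalSpace Opposite
open scoped Groth.Agent.CohVanish

namespace Groth.Agent.CohDual

open Groth.Agent.CechCmp Groth.Agent.CohVanish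

variable {A : Type u} [CommRing A] {X Y : Scheme.{u}} (i : X ⟶ Y)

lemma meetOpen_preimage {κ : Type u} (V : κ → Y.Opens) (s : Finset κ) :
    RSh.meetOpen (fun j => i ⁻¹ᵁ V j) s = i ⁻¹ᵁ RSh.meetOpen V s := by
  classical
  induction s using Finset.induction with
  | empty => simp [RSh.meetOpen]
  | insert j s hj ih =>
    rw [RSh.meetOpen, Finset.iInf_insert, RSh.meetOpen, Finset.iInf_insert, Scheme.Hom.preimage_inf]
    exact congrArg₂ (· ⊓ ·) rfl ih

variable (tY : Y ⟶ Spec (CommRingCat.of A)) {κ : Type u} (V : κ → Y.Opens)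

/-- The sections of a direct image on the intersections, as the sections on the preimages. -/
noncomputable def pushSysHom (M : X.Modules) :
    Sys.Hom ((modRSh (Coh.toGlobal tY) ((Scheme.Modules.pushforward i).obj M)).sys V)
      ((modRSh (Coh.toGlobal (i ≫ tY)) M).sys fun j => i ⁻¹ᵁ V j) where
  app s :=
    { toFun := M.presheaf.map (homOfLE (meetOpen_preimage i V s).le).op
      map_add' := map_add _
      map_smul' := fun a x => by
        let U := RSh.meetOpen V s
        let hU := homOfLE (le_top : U ≤ ⊤)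
        have hg : Coh.toGlobal (i ≫ tY) a = i.appTop (Coh.toGlobal tY a) := KLin.toGlobal_comp i tY a
        have hn := ConcreteCategory.congr_hom (i.naturality hU.op) (Coh.toGlobal tY a)
        change M.presheaf.map (homOfLE (meetOpen_preimage i V s).le).op
            ((i.app U (Y.presheaf.map hU.op (Coh.toGlobal tY a))) • (show Γ(M, i ⁻¹ᵁ U) from x)) =
          X.presheaf.map (homOfLE (le_top : RSh.meetOpen (fun j => i ⁻¹ᵁ V j) s ≤ ⊤)).op (Coh.toGlobal (i ≫ tY) a) •
            M.presheaf.map (homOfLE (meetOpen_preimage i V s).le).op (show Γ(M, i ⁻¹ᵁ U) from x)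
        have hn' : i.app U (Y.presheaf.map hU.op (Coh.toGlobal tY a)) =
            X.presheaf.map ((Opens.map i.base).map hU).op (i.appTop (Coh.toGlobal tY a)) := hn
        rw [Scheme.Modules.map_smul, hn', hg]
        refine congrArg (· • _) ?_
        exact ProjCoh.map_map_eq _ _ _ _ }
  nat {s t} h x _ := by
    change M.presheaf.map (homOfLE (meetOpen_preimage i V t).le).op
        (M.presheaf.map ((Opens.map i.base).map (homOfLE (RSh.meetOpen_anti V h))).op
          (show Γ(M, i ⁻¹ᵁ RSh.meetOpen V s) from x)) =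
      M.presheaf.map (homOfLE (RSh.meetOpen_anti (fun j => i ⁻¹ᵁ V j) h)).op
        (M.presheaf.map (homOfLE (meetOpen_preimage i V s).le).op (show Γ(M, i ⁻¹ᵁ RSh.meetOpen V s) from x))
    rw [← ConcreteCategory.comp_apply, ← Functor.map_comp, ← ConcreteCategory.comp_apply, ← Functor.map_comp]
    rfl

lemma pushSysHom_bijective (M : X.Modules) (s : Finset κ) :
    Function.Bijective ((pushSysHom i tY V M).app s) := by
  haveI : IsIso (homOfLE (meetOpen_preimage i V s).le) :=
    ⟨⟨homOfLE (meetOpen_preimage i V s).ge, Subsingleton.elim _ _, Subsingleton.elim _ _⟩⟩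
  exact ConcreteCategory.bijective_of_isIso (M.presheaf.map (homOfLE (meetOpen_preimage i V s).le).op)

variable [DecidableEq κ] [Fintype κ] [Nonempty κ] [IsAffineHom i] (hcov : ⨆ j, V j = ⊤)
  (hV : ∀ s : Finset κ, s.Nonempty → IsAffineOpen (RSh.meetOpen V s))

omit [DecidableEq κ] [Fintype κ] [Nonempty κ] [IsAffineHom i] in
include hcov in
lemma iSup_preimage : ⨆ j, i ⁻¹ᵁ V j = ⊤ := by
  rw [← Scheme.Hom.preimage_iSup, hcov, Scheme.Hom.preimage_top]

omit [DecidableEq κ] [Fintype κ] [Nonempty κ] in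
include hV in
lemma isAffineOpen_meetOpen_preimage (s : Finset κ) (hs : s.Nonempty) :
    IsAffineOpen (RSh.meetOpen (fun j => i ⁻¹ᵁ V j) s) := by
  rw [meetOpen_preimage]
  exact (hV s hs).preimage i

/-- `H^p(Y, i_* M) ≅ H^p(X, M)`, by the Čech complexes. -/
noncomputable def pushCoh (M : X.Modules) [M.IsQuasicoherent]
    [((Scheme.Modules.pushforward i).obj M).IsQuasicoherent] (p : ℕ) :
    Coh.HH Y ((Scheme.Modules.pushforward i).obj M) p ≃+ Coh.HH X M p :=
  ((hhCmp (Coh.toGlobal tY) V hcov hV ((Scheme.Modules.pushforward i).obj M) p).trans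
    (LinearEquiv.ofBijective ((pushSysHom i tY V M).mapH p)
      (ProjCoh.bijective_mapH _ (fun s _ => pushSysHom_bijective i tY V M s) p)).toAddEquiv).trans
    (hhCmp (Coh.toGlobal (i ≫ tY)) (fun j => i ⁻¹ᵁ V j) (iSup_preimage i V hcov)
      (isAffineOpen_meetOpen_preimage i V hV) M p).symm

lemma hhCmp_pushCoh (M : X.Modules) [M.IsQuasicoherent]
    [((Scheme.Modules.pushforward i).obj M).IsQuasicoherent] (p : ℕ)
    (x : Coh.HH Y ((Scheme.Modules.pushforward i).obj M) p) :
    hhCmp (Coh.toGlobal (i ≫ tY)) (fun j => i ⁻¹ᵁ V j) (iSup_preimage i V hcov)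
        (isAffineOpen_meetOpen_preimage i V hV) M p (pushCoh i tY V hcov hV M p x) =
      (pushSysHom i tY V M).mapH p (hhCmp (Coh.toGlobal tY) V hcov hV ((Scheme.Modules.pushforward i).obj M) p x) :=
  AddEquiv.apply_symm_apply _ _

theorem pushCoh_smul (M : X.Modules) [M.IsQuasicoherent]
    [((Scheme.Modules.pushforward i).obj M).IsQuasicoherent] (p : ℕ) (a : A)
    (x : Coh.HH Y ((Scheme.Modules.pushforward i).obj M) p) :
    pushCoh i tY V hcov hV M p (Coh.toGlobal tY a • x) =
      Coh.toGlobal (i ≫ tY) a • pushCoh i tY V hcov hV M p x := by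
  refine (hhCmp (Coh.toGlobal (i ≫ tY)) (fun j => i ⁻¹ᵁ V j) (iSup_preimage i V hcov)
    (isAffineOpen_meetOpen_preimage i V hV) M p).injective ?_
  rw [hhCmp_pushCoh, hhCmp_smul, hhCmp_smul, hhCmp_pushCoh, map_smul]

theorem pushCoh_natural {M N : X.Modules} [M.IsQuasicoherent] [N.IsQuasicoherent]
    [((Scheme.Modules.pushforward i).obj M).IsQuasicoherent]
    [((Scheme.Modules.pushforward i).obj N).IsQuasicoherent] (f : M ⟶ N) (p : ℕ)
    (x : Coh.HH Y ((Scheme.Modules.pushforward i).obj M) p) :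
    pushCoh i tY V hcov hV N p (Sheaf.H.map
        ((SheafOfModules.toSheaf Y.ringCatSheaf).map ((Scheme.Modules.pushforward i).map f)) p x) =
      Sheaf.H.map ((SheafOfModules.toSheaf X.ringCatSheaf).map f) p (pushCoh i tY V hcov hV M p x) := by
  refine (hhCmp (Coh.toGlobal (i ≫ tY)) (fun j => i ⁻¹ᵁ V j) (iSup_preimage i V hcov)
    (isAffineOpen_meetOpen_preimage i V hV) N p).injective ?_
  rw [hhCmp_pushCoh, hhCmp_natural, hhCmp_natural, hhCmp_pushCoh]
  generalize hhCmp (Coh.toGlobal tY) V hcov hV ((Scheme.Modules.pushforward i).obj M) p x = z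
  obtain ⟨c, rfl⟩ := Submodule.mkQ_surjective _ z
  refine congrArg (((modRSh (Coh.toGlobal (i ≫ tY)) N).sys fun j => i ⁻¹ᵁ V j).cls p) (Subtype.ext (funext fun σ => ?_))
  exact (ConcreteCategory.congr_hom (f.mapPresheaf.naturality
    (homOfLE (meetOpen_preimage i V (img σ)).le).op) _).symm

end Groth.Agent.CohDual
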