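import Groth.Agent.CohDual.DualizingTrace
import Groth.Agent.CohDual.ExtShProj
import Groth.Agent.CohDual.ProjDual
import Groth.Agent.CohDual.PushCoh
import Groth.Agent.InvGlue.Main
import Groth.Agent.DCohPerf.Coherent

/-!
# The dualizing module of a closed subscheme of projective space
-/

set_option autoImplicit false
set_option linter.style.haveILetI false

universe u

open CategoryTheory CategoryTheory.Limits CategoryTheory.Abelian AlgebraicGeometry
open scoped Groth.Agent.CohVanish

namespace Groth.Agent.CohDual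

-- keep one instance path (`CommRing.toRing`) inside `Proj (polyGrading n k)`, for the kernel
attribute [local instance 10000] CommRing.toRing

lemma isCoh_unit' (Z : Scheme.{u}) [IsLocallyNoetherian Z] : Coh.IsCoh (Coh.structureModule Z) :=
  DCohPerf.isCoh_finLocFree (InvPow.isFinLocFree_of_isInvertible (InvGlue.isInvertible_unit Z))

/-- Modules on the empty scheme vanish. -/
lemma isZero_of_isEmpty {X : Scheme.{u}} [IsEmpty X] (M : X.Modules) : IsZero M :=
  haveI : Epi (0 : M ⟶ M) := (QCohLib.epi_iff_stalk_surjective _).2 fun x => (IsEmpty.false x).elim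
  IsZero.of_epi_zero M M

lemma topologicalKrullDim_nonneg (X : Type u) [TopologicalSpace X] [Nonempty X] :
    0 ≤ topologicalKrullDim X :=
  haveI : Nonempty (TopologicalSpace.IrreducibleCloseds X) :=
    ⟨⟨closure {Classical.arbitrary X}, isIrreducible_singleton.closure, isClosed_closure⟩⟩
  Order.krullDim_nonneg

lemma lt_sub_of_add_le {d : WithBot ℕ∞} {N r j : ℕ} (h : d + (r : WithBot ℕ∞) ≤ (N : WithBot ℕ∞)) (hj : j < r)
    (hd : 0 ≤ d) : j ≤ N ∧ d < ((N - j : ℕ) : WithBot ℕ∞) := by
  induction d using WithBot.recBotCoe with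
  | bot => simp at hd
  | coe d =>
    induction d using ENat.recTopCoe with
    | top => exact absurd h (not_le.2 (by
        rw [show ((⊤ : ℕ∞) : WithBot ℕ∞) + (r : WithBot ℕ∞) = ((⊤ + r : ℕ∞) : WithBot ℕ∞) from rfl, top_add]
        exact WithBot.coe_lt_coe.2 (ENat.natCast_lt_top N)))
    | coe d =>
      have h' : d + r ≤ N := by exact_mod_cast h
      exact ⟨by omega, WithBot.coe_lt_coe.2 (Nat.cast_lt.2 (show d < N - j by omega))⟩

section Proj

variable {N : ℕ} {k : Type u} [Field k] {X : Scheme.{u}} [X.Over (Spec (CommRingCat.of k))]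
  (ι : X ⟶ Proj (CohB1.polyGrading N k)) [IsClosedImmersion ι]
  (hι : ι ≫ CohB1.ProjSpace.toSpec N k = X ↘ Spec (CommRingCat.of k))

/-- The structure map of projective space, on `Proj`. -/
noncomputable local instance overProjD (n : ℕ) (k : Type u) [Field k] :
    (Proj (CohB1.polyGrading n k)).Over (Spec (CommRingCat.of k)) := ⟨CohB1.ProjSpace.toSpec n k⟩

include hι in
/-- Cohomology of the direct image, linearly and naturally. -/
theorem exists_push_linear (q : ℕ) :
    ∃ push : ∀ M : X.Modules, Coh.IsCoh M →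
        Coh.HH (Proj (CohB1.polyGrading N k)) ((Scheme.Modules.pushforward ι).obj M) q ≃ₗ[k] Coh.HH X M q,
      ∀ (M M' : X.Modules) (hM : Coh.IsCoh M) (hM' : Coh.IsCoh M') (f : M ⟶ M')
        (x : Coh.HH (Proj (CohB1.polyGrading N k)) ((Scheme.Modules.pushforward ι).obj M) q),
        push M' hM' (Sheaf.H.map ((QCohLib.toSh _).map ((Scheme.Modules.pushforward ι).map f)) q x) =
          Sheaf.H.map ((QCohLib.toSh X).map f) q (push M hM x) := by
  haveI : Nonempty (ProjCoh.Ix.{u} N) := ⟨⟨0⟩⟩
  refine ⟨fun M hM => haveI := hM.1; haveI := (QCohLib.isCoh_pushforward ι hM).1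
    AddEquiv.toLinearEquiv (pushCoh ι (CohB1.ProjSpace.toSpec N k) (ProjCoh.chartU k) ProjCoh.iSup_chartU
      (fun s hs => ProjCoh.isAffineOpen_chartMeet s hs) M q) (fun a x => ?_), fun M M' hM hM' f x => ?_⟩
  · refine (pushCoh_smul ι (CohB1.ProjSpace.toSpec N k) (ProjCoh.chartU k) ProjCoh.iSup_chartU
      (fun s hs => ProjCoh.isAffineOpen_chartMeet s hs) M q a x).trans ?_
    rw [hι]
    rfl
  · haveI := hM.1; haveI := (QCohLib.isCoh_pushforward ι hM).1
    haveI := hM'.1; haveI := (QCohLib.isCoh_pushforward ι hM').1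
    exact pushCoh_natural ι (CohB1.ProjSpace.toSpec N k) (ProjCoh.chartU k) ProjCoh.iSup_chartU
      (fun s hs => ProjCoh.isAffineOpen_chartMeet s hs) f q x

variable [HasExt.{u} (Proj (CohB1.polyGrading N k)).Modules]
  [ModSite.HasSheafHom (O := (Proj (CohB1.polyGrading N k)).sheaf)
    ((Scheme.Modules.pushforward ι).obj (Coh.structureModule X))]
  [HasInjectiveResolutions (ModSite.Mod (Proj (CohB1.polyGrading N k)).sheaf)]

omit [X.Over (Spec (CommRingCat.of k))] [HasExt.{u} (Proj (CohB1.polyGrading N k)).Modules] in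
lemma isCoh_homS_derived (j : ℕ) : Coh.IsCoh (X := Proj (CohB1.polyGrading N k))
    ((ModSite.extSh (O := (Proj (CohB1.polyGrading N k)).sheaf)
      ((Scheme.Modules.pushforward ι).obj (Coh.structureModule X)) j).obj
        (Twist.twist (CohB1.polyGrading N k) (-((N : ℤ) + 1)))) := by
  haveI : IsLocallyNoetherian X := LocallyOfFiniteType.isLocallyNoetherian ι
  exact isCoh_extSh_proj _ _ (QCohLib.isCoh_pushforward ι (isCoh_unit' X))
    (ProjCoh.isCoh_twist_self _) j

include hι in
/-- **Vanishing below the codimension.** -/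
theorem isZero_extSh_of_dim (j : ℕ) (hj : j ≤ N) (hdim : topologicalKrullDim X < ((N - j : ℕ) : WithBot ℕ∞)) :
    IsZero (C := (Proj (CohB1.polyGrading N k)).Modules)
      ((ModSite.extSh (O := (Proj (CohB1.polyGrading N k)).sheaf)
        ((Scheme.Modules.pushforward ι).obj (Coh.structureModule X)) j).obj
          (Twist.twist (CohB1.polyGrading N k) (-((N : ℤ) + 1)))) := by
  haveI : IsGrothendieckAbelian.{u} (Proj (CohB1.polyGrading N k)).Modules :=
    ModGroth.sheaf_isGrothendieckAbelian (Proj (CohB1.polyGrading N k)).ringCatSheaf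
  haveI : HasInjectiveResolutions (Proj (CohB1.polyGrading N k)).Modules :=
    ‹HasInjectiveResolutions (ModSite.Mod (Proj (CohB1.polyGrading N k)).sheaf)›
  haveI : IsLocallyNoetherian X := LocallyOfFiniteType.isLocallyNoetherian ι
  obtain ⟨t, -, D⟩ := exists_dualData (n := N) (k := k)
  choose push hpush using fun q => exists_push_linear ι hι q
  exact isZero_extSh_of_vanish ι D push hpush (isCoh_homS_derived ι) j hj fun q M hq hM =>
    haveI := hM.1
    subsingleton_HH_of_dim_lt ι M (hdim.trans_le (by exact_mod_cast hq))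

include hι in
/-- **The Ext sheaf is dualizing.** -/
theorem exists_dualizing (q : ℕ) (hq : q ≤ N) (hdim : topologicalKrullDim X ≤ (q : WithBot ℕ∞)) (ω : X.Modules)
    (hω : Nonempty ((Scheme.Modules.pushforward ι).obj ω ≅
      (ModSite.extSh (O := (Proj (CohB1.polyGrading N k)).sheaf)
        ((Scheme.Modules.pushforward ι).obj (Coh.structureModule X)) (N - q)).obj
          (Twist.twist (CohB1.polyGrading N k) (-((N : ℤ) + 1))))) :
    ∃ t : Coh.HH X ω q →ₗ[k] k, ∀ F : X.Modules, Coh.IsCoh F → ∀ ψ : Coh.HH X F q →ₗ[k] k,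
      ∃! φ : F ⟶ ω, ∀ x : Coh.HH X F q,
        ψ x = t (Sheaf.H.map ((SheafOfModules.toSheaf X.ringCatSheaf).map φ) q x) := by
  haveI : IsGrothendieckAbelian.{u} (Proj (CohB1.polyGrading N k)).Modules :=
    ModGroth.sheaf_isGrothendieckAbelian (Proj (CohB1.polyGrading N k)).ringCatSheaf
  haveI : HasInjectiveResolutions (Proj (CohB1.polyGrading N k)).Modules :=
    ‹HasInjectiveResolutions (ModSite.Mod (Proj (CohB1.polyGrading N k)).sheaf)›
  haveI : IsLocallyNoetherian X := LocallyOfFiniteType.isLocallyNoetherian ι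
  obtain ⟨t, -, D⟩ := exists_dualData (n := N) (k := k)
  obtain ⟨push, hpush⟩ := exists_push_linear ι hι q
  obtain ⟨e⟩ := hω
  refine exists_dualizing_trace ι D (show q + (N - q) = N by omega) push hpush (isCoh_homS_derived ι _)
    (fun l hl => isZero_extSh_of_dim ι hι l (by omega) (hdim.trans_lt ?_)) ω e
  exact_mod_cast (show q < N - l by omega)

include hι in
/-- **Vanishing below the codimension**, in every degree. -/
theorem isZero_extSh_of_codim (r j : ℕ) (hj : j < r)
    (hr : topologicalKrullDim X + (r : WithBot ℕ∞) ≤ (N : WithBot ℕ∞)) :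
    IsZero (C := (Proj (CohB1.polyGrading N k)).Modules)
      ((ModSite.extSh (O := (Proj (CohB1.polyGrading N k)).sheaf)
        ((Scheme.Modules.pushforward ι).obj (Coh.structureModule X)) j).obj
          (Twist.twist (CohB1.polyGrading N k) (-((N : ℤ) + 1)))) := by
  rcases isEmpty_or_nonempty X with hX | hX
  · haveI : IsGrothendieckAbelian.{u} (Proj (CohB1.polyGrading N k)).Modules :=
      ModGroth.sheaf_isGrothendieckAbelian (Proj (CohB1.polyGrading N k)).ringCatSheaf
    haveI : HasInjectiveResolutions (Proj (CohB1.polyGrading N k)).Modules :=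
      ‹HasInjectiveResolutions (ModSite.Mod (Proj (CohB1.polyGrading N k)).sheaf)›
    exact (Functor.map_isZero (Scheme.Modules.pushforward ι) (isZero_of_isEmpty _)).of_iso
      (inKIso ι (inK_ext ι (Twist.twist (CohB1.polyGrading N k) (-((N : ℤ) + 1))) j)).symm
  · obtain ⟨hjN, hlt⟩ := lt_sub_of_add_le hr hj (topologicalKrullDim_nonneg X)
    exact isZero_extSh_of_dim ι hι j hjN hlt

end Proj

end Groth.Agent.CohDual
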