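import Groth.Agent.CohDual.DimFormula
import Groth.Agent.ConnDiv.Normality
import Groth.Agent.SmoothDense.GeomReg

/-!
# Smooth schemes of relative dimension `n` over a field have all components of dimension `n`
-/

set_option autoImplicit false
set_option linter.style.haveILetI false

universe u

open CategoryTheory Limits AlgebraicGeometry TopologicalSpace

namespace Groth.Agent.CohDual.SmoothEquidim

variable {k : Type u} [Field k] {X : Scheme.{u}} (f : X ⟶ Spec (CommRingCat.of k))

/-- Two maximal generisations of a point with a domain as local ring agree. -/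
theorem maximal_unique (z : X) [IsDomain (X.presheaf.stalk z)] {η η' : X} (h : η ⤳ z) (h' : η' ⤳ z)
    (hm : ∀ w, w ⤳ η → w = η) (hm' : ∀ w, w ⤳ η' → w = η') : η = η' := by
  let g₀ : X := X.fromSpecStalk z (⟨⊥, Ideal.isPrime_bot⟩ : PrimeSpectrum (X.presheaf.stalk z))
  have key : ∀ w : X, w ⤳ z → g₀ ⤳ w := fun w hw => by
    obtain ⟨P, rfl⟩ : w ∈ Set.range (X.fromSpecStalk z) := by rw [Scheme.range_fromSpecStalk]; exact hw
    exact ((PrimeSpectrum.le_iff_specializes _ P).1 bot_le).map (X.fromSpecStalk z).continuous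
  exact (hm g₀ (key η h)).symm.trans (hm' g₀ (key η' h'))

/-- A closed point of a scheme smooth of relative dimension `d` has local ring of dimension at least `d`. -/
theorem le_ringKrullDim_stalk_closed (d : ℕ) [SmoothOfRelativeDimension d f] (x : X)
    (hx : IsClosed ({x} : Set X)) : (d : WithBot ℕ∞) ≤ ringKrullDim (X.presheaf.stalk x) := by
  obtain ⟨U, hU, V, hV, hxV, e, h⟩ := SmoothOfRelativeDimension.exists_isStandardSmoothOfRelativeDimension (n := d) (f := f) x
  obtain ⟨gP, -, hgP⟩ := h.exists_etale_mvPolynomial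
  let := gP.toAlgebra
  haveI : Algebra.Etale (MvPolynomial (Fin d) Γ(Spec (CommRingCat.of k), U)) Γ(X, V) := hgP
  haveI : Module.Flat (MvPolynomial (Fin d) Γ(Spec (CommRingCat.of k), U)) Γ(X, V) := Algebra.Smooth.flat _ _
  have hUtop : U = ⊤ := by
    haveI : Subsingleton ↥(Spec (CommRingCat.of k)) := inferInstanceAs (Subsingleton (PrimeSpectrum k))
    exact TopologicalSpace.Opens.ext (Set.eq_univ_of_forall fun z => Subsingleton.elim (f x) z ▸ e hxV)
  have hfield : IsField Γ(Spec (CommRingCat.of k), U) := by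
    subst hUtop
    exact MulEquiv.isField (Field.toIsField k) (Scheme.ΓSpecIso (CommRingCat.of k)).commRingCatIsoToRingEquiv.toMulEquiv
  letI : Field Γ(Spec (CommRingCat.of k), U) := hfield.toField
  let K := Γ(Spec (CommRingCat.of k), U)
  let q := hV.primeIdealOf ⟨x, hxV⟩
  haveI hq : q.asIdeal.IsMaximal := by
    refine (PrimeSpectrum.isClosed_singleton_iff_isMaximal q).mp ?_
    have h := hx.preimage hV.fromSpec.continuous
    rwa [show hV.fromSpec ⁻¹' {x} = ({q} : Set _) from Set.ext fun w =>
      ⟨fun h => hV.fromSpec.isOpenEmbedding.injective (h.trans (hV.fromSpec_primeIdealOf ⟨x, hxV⟩).symm),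
        fun h => h ▸ hV.fromSpec_primeIdealOf ⟨x, hxV⟩⟩] at h
  haveI : IsJacobsonRing (MvPolynomial (Fin d) K) := inferInstance
  haveI : Algebra.FiniteType (MvPolynomial (Fin d) K) Γ(X, V) := inferInstance
  let p := q.asIdeal.under (MvPolynomial (Fin d) K)
  haveI hp : p.IsMaximal := by
    let : Algebra K Γ(X, V) := ((algebraMap (MvPolynomial (Fin d) K) Γ(X, V)).comp MvPolynomial.C).toAlgebra
    haveI : IsScalarTower K (MvPolynomial (Fin d) K) Γ(X, V) := IsScalarTower.of_algebraMap_eq' rfl
    haveI : Algebra.FiniteType K Γ(X, V) :=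
      Algebra.FiniteType.trans (S := MvPolynomial (Fin d) K) inferInstance inferInstance
    let F := Γ(X, V) ⧸ q.asIdeal
    let : Field F := Ideal.Quotient.field q.asIdeal
    haveI : Module.Finite K F := finite_of_finite_type_of_isJacobsonRing K F
    let A := MvPolynomial (Fin d) K ⧸ p
    haveI : Algebra.IsIntegral A F := Algebra.IsIntegral.tower_top K
    exact Ideal.Quotient.maximal_of_isField p
      (isField_of_isIntegral_of_isField (R := A) (S := F) Ideal.algebraMap_quotient_injective (Field.toIsField F))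
  have hh := ComodBasic.height_eq_of_isMaximal_mvPolynomial K d p inferInstance
  obtain ⟨l₀, hl₀, hlen⟩ := Ideal.exists_ltSeries_length_eq_height p
  haveI : q.asIdeal.LiesOver l₀.last.asIdeal := ⟨by rw [hl₀]⟩
  obtain ⟨l, hl, hlast, -⟩ := Ideal.exists_ltSeries_of_hasGoingDown l₀ q.asIdeal
  let := (X.presheaf.germ V x hxV).hom.toAlgebra
  haveI := hV.isLocalization_stalk ⟨x, hxV⟩
  rw [IsLocalization.AtPrime.ringKrullDim_eq_height q.asIdeal (X.presheaf.stalk x)]
  rw [hh] at hlen
  have h2 : (l.length : ℕ∞) ≤ q.asIdeal.height := by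
    rw [PrimeSpectrum.height_eq_orderHeight q, show q = l.last from hlast.symm]
    exact Order.length_le_height le_rfl
  rw [hl] at h2
  exact WithBot.coe_le_coe.mpr (le_of_eq_of_le hlen.symm h2)

/-- All components have dimension at least `n`; small closures have big local rings. -/
theorem natCast_le_ringKrullDim_smooth (n : ℕ) [SmoothOfRelativeDimension n f] (y : X) (c : ℕ)
    (h : topologicalKrullDim (closure ({y} : Set X)) + (c : WithBot ℕ∞) ≤ n) :
    (c : WithBot ℕ∞) ≤ ringKrullDim (X.presheaf.stalk y) := by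
  haveI : Smooth f := SmoothOfRelativeDimension.smooth n f
  haveI : JacobsonSpace X := LocallyOfFiniteType.jacobsonSpace f
  obtain ⟨hh, a, n', hh', ha, hsum, η, -, hη, hηn⟩ := DimFormula.exists_dim_eq f y
  obtain ⟨z, hz, hzc⟩ := nonempty_inter_closedPoints (X := X) (Z := closure {η}) ⟨η, subset_closure rfl⟩
    isClosed_closure.isLocallyClosed
  obtain ⟨d, b, m, hd, hb, hdb, η', hη'z, hη', hη'm⟩ := DimFormula.exists_dim_eq f z
  haveI := ConnDiv.isDomain_stalk_of_smooth f z
  obtain rfl := maximal_unique z (specializes_iff_mem_closure.2 hz) hη'z hη hη'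
  have hb0 : b = 0 := by
    rw [(show closure ({z} : Set X) = {z} from (show IsClosed ({z} : Set X) from hzc).closure_eq)] at hb
    have : (b : WithBot ℕ∞) ≤ 0 := hb ▸ topologicalKrullDim_zero_of_discreteTopology _
    exact Nat.le_zero.1 (by exact_mod_cast this)
  have hnd := le_ringKrullDim_stalk_closed f n z hzc
  rw [hηn, Nat.cast_inj] at hη'm
  rw [hd, Nat.cast_le] at hnd
  rw [ha, ← Nat.cast_add, Nat.cast_le] at h
  rw [hh', Nat.cast_le]
  omega

/-- The local rings are regular. -/
theorem isRegularLocalRing_stalk [Smooth f] (x : X) : IsRegularLocalRing (X.presheaf.stalk x) :=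
  SmoothDense.isRegular_of_mem_smoothLocus f (by rw [Scheme.Hom.smoothLocus_eq_top f]; trivial)

end Groth.Agent.CohDual.SmoothEquidim
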