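import Groth.Agent.CohVanish.MV
import Groth.Agent.ProjCoh.TwistEpi
import Mathlib.AlgebraicGeometry.ProjectiveSpectrum.Proper
import Mathlib.AlgebraicGeometry.Morphisms.Affine
import Mathlib.Topology.KrullDimension
import Mathlib.Topology.NoetherianSpace

/-!
# Cohomology vanishes above the dimension on closed subschemes of projective space

A closed subset of dimension `< d` misses the common zeros of `d` suitable hypersurfaces (homogeneous prime
avoidance), so a closed subscheme of dimension `d - 1` is covered by `d` affine opens.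
-/

set_option autoImplicit false
set_option linter.style.haveILetI false

universe u

open CategoryTheory AlgebraicGeometry TopologicalSpace

namespace Groth.Agent.CohDual

section Avoid

variable {A : Type*} [CommRing A] {σ : Type*} [SetLike σ A] [AddSubgroupClass σ A] (𝒜 : ℕ → σ) [GradedRing 𝒜]

/-- Homogeneous prime avoidance. -/
theorem exists_homogeneous_avoid (S : Finset (Ideal A))
    (hS : ∀ p ∈ S, p.IsPrime ∧ p.IsHomogeneous 𝒜 ∧ ∃ d y, 0 < d ∧ y ∈ 𝒜 d ∧ y ∉ p) :
    ∃ (e : ℕ) (f : A), 0 < e ∧ f ∈ 𝒜 e ∧ ∀ p ∈ S, f ∉ p := by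
  classical
  induction S using Finset.strongInduction with
  | H S ih =>
    rcases S.eq_empty_or_nonempty with rfl | hne
    · exact ⟨1, 0, one_pos, zero_mem _, by simp⟩
    obtain ⟨p, hp, hmin⟩ := S.exists_minimal hne
    obtain ⟨hpp, -, d, y, hd, hyd, hyp⟩ := hS p hp
    obtain ⟨e, f, he, hfe, hf⟩ := ih (S.erase p) (Finset.erase_ssubset hp)
      fun q hq => hS q (Finset.mem_of_mem_erase hq)
    by_cases hfp : f ∈ p
    swap
    · refine ⟨e, f, he, hfe, fun q hq => ?_⟩
      rcases eq_or_ne q p with rfl | hqp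
      · exact hfp
      · exact hf q (Finset.mem_erase.2 ⟨hqp, hq⟩)
    have key : ∀ T ⊆ S.erase p, ∃ (m : ℕ) (g : A), g ∈ 𝒜 m ∧ g ∉ p ∧ ∀ q ∈ T, g ∈ q := by
      intro T hT
      induction T using Finset.induction with
      | empty => exact ⟨0, 1, SetLike.one_mem_graded 𝒜, fun h1 => hpp.ne_top ((Ideal.eq_top_iff_one _).2 h1), by simp⟩
      | insert q T _ iht =>
        obtain ⟨m, g, hgm, hgp, hg⟩ := iht ((Finset.subset_insert q T).trans hT)
        obtain ⟨hqp, hqS⟩ := Finset.mem_erase.1 (hT (Finset.mem_insert_self q T))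
        obtain ⟨i, x, hx, hxq, hxp⟩ : ∃ (i : ℕ) (x : A), x ∈ 𝒜 i ∧ x ∈ q ∧ x ∉ p := by
          by_contra hcon
          push Not at hcon
          refine hqp (le_antisymm ?_ (hmin hqS ?_))
          all_goals
            intro x hx
            rw [← DirectSum.sum_support_decompose 𝒜 x]
            exact p.sum_mem fun i _ => hcon i _ (SetLike.coe_mem _) ((hS q hqS).2.1 i hx)
        refine ⟨m + i, g * x, SetLike.GradedMul.mul_mem hgm hx,
          fun hgx => (hpp.mem_or_mem hgx).elim hgp hxp, fun q' hq' => ?_⟩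
        rcases Finset.mem_insert.1 hq' with rfl | hq'
        · exact q'.mul_mem_left _ hxq
        · exact q'.mul_mem_right _ (hg q' hq')
    obtain ⟨m, g, hgm, hgp, hg⟩ := key _ subset_rfl
    have hG : g * y ∈ 𝒜 (m + d) := SetLike.GradedMul.mul_mem hgm hyd
    refine ⟨(m + d) * e, f ^ (m + d) + (g * y) ^ e, Nat.mul_pos (by omega) he,
      add_mem ?_ ?_, fun q hq hmem => ?_⟩
    · simpa only [smul_eq_mul] using SetLike.pow_mem_graded (m + d) hfe
    · simpa only [smul_eq_mul, mul_comm e] using SetLike.pow_mem_graded e hG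
    · obtain ⟨hqp', -, -⟩ := hS q hq
      rcases eq_or_ne q p with rfl | hqp
      · have := (Ideal.add_mem_iff_right q (q.pow_mem_of_mem hfp _ (by omega))).1 hmem
        rcases hpp.mem_or_mem (hpp.mem_of_pow_mem _ this) with h' | h'
        · exact hgp h'
        · exact hyp h'
      · have hq' := Finset.mem_erase.2 ⟨hqp, hq⟩
        have := (Ideal.add_mem_iff_left q
          (q.pow_mem_of_mem (q.mul_mem_right _ (hg q hq')) _ he)).1 hmem
        exact hf q hq' (hqp'.mem_of_pow_mem _ this)

end Avoid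

section Cover

variable {X : Type u} [TopologicalSpace X] [NoetherianSpace X] [QuasiSober X]

/-- Chains of irreducible closed subsets inside `Z` have length `< d`. -/
def DimLt (Z : Set X) (d : ℕ) : Prop :=
  ∀ l : LTSeries (IrreducibleCloseds X), (l.last : Set X) ⊆ Z → l.length < d

omit [NoetherianSpace X] [QuasiSober X] in
lemma dimLt_univ {d : ℕ} (h : topologicalKrullDim X < d) : DimLt (Set.univ : Set X) d :=
  fun l _ => Order.krullDim_lt_coe_iff.1 h l

/-- If any finite set avoids one of the closed sets `V`, a closed set of dimension `< d` misses `d` of them. -/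
theorem exists_finite_cover {κ : Type*} (V : κ → Set X) (hV : ∀ j, IsClosed (V j))
    (hav : ∀ s : Finset X, ∃ j, ∀ x ∈ s, x ∉ V j) (d : ℕ) :
    ∀ Z : Set X, IsClosed Z → DimLt Z d → ∃ f : Fin d → κ, ∀ x ∈ Z, ∃ i, x ∉ V (f i) := by
  induction d with
  | zero =>
    refine fun Z hZ hd => ⟨Fin.elim0, fun x hx => ?_⟩
    let W : IrreducibleCloseds X := ⟨closure {x}, isIrreducible_singleton.closure, isClosed_closure⟩
    exact absurd (hd (RelSeries.singleton _ W) (closure_minimal (Set.singleton_subset_iff.2 hx) hZ)) (by simp)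
  | succ d ih =>
    intro Z hZ hd
    classical
    obtain ⟨S, hSf, hSc, hSi, hSU⟩ := NoetherianSpace.exists_finite_set_isClosed_irreducible hZ
    obtain ⟨j, hj⟩ := hav (hSf.toFinset.attach.image fun t => (hSi _ (hSf.mem_toFinset.1 t.2)).genericPoint)
    have hstep : DimLt (Z ∩ V j) d := fun l hl => by
      obtain ⟨t, htS, ht⟩ := isIrreducible_iff_sUnion_isClosed.1 l.last.isIrreducible' hSf.toFinset
        (fun t ht => hSc t (hSf.mem_toFinset.1 ht))
        (by rw [Set.Finite.coe_toFinset, ← hSU]; exact hl.trans Set.inter_subset_left)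
      have htS' := hSf.mem_toFinset.1 htS
      let C : IrreducibleCloseds X := ⟨t, hSi t htS', hSc t htS'⟩
      have hlt : l.last < C := by
        refine lt_of_le_of_ne ht fun e => ?_
        have hgen : (hSi t htS').genericPoint ∈ t := by
          have h := (hSi t htS').isGenericPoint_genericPoint (hSc t htS')
          exact h.mem
        refine hj _ (Finset.mem_image.2 ⟨⟨t, htS⟩, Finset.mem_attach _ _, rfl⟩) ?_
        have h2 : (l.last : Set X) = t := congrArg (fun W : IrreducibleCloseds X => (W : Set X)) e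
        exact (hl (h2.symm ▸ hgen)).2
      have := hd (l.snoc C hlt) (by
        rw [RelSeries.last_snoc]
        exact fun x hx => hSU ▸ ⟨t, htS', hx⟩)
      simp at this
      omega
    obtain ⟨f, hf⟩ := ih (Z ∩ V j) (hZ.inter (hV j)) hstep
    refine ⟨Fin.cons j f, fun x hx => ?_⟩
    by_cases hxj : x ∈ V j
    · obtain ⟨i, hi⟩ := hf x ⟨hx, hxj⟩
      exact ⟨i.succ, by rwa [Fin.cons_succ]⟩
    · exact ⟨0, by rwa [Fin.cons_zero]⟩

end Cover

open Groth.Agent.CohVanish

variable {n : ℕ} {R : Type u} [CommRing R] [IsNoetherianRing R]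

/-- A closed subscheme of projective space of dimension `< d` is covered by `d` affine opens. -/
theorem exists_affine_cover {X : Scheme.{u}} (ι : X ⟶ Proj (CohB1.polyGrading n R)) [IsClosedImmersion ι]
    {d : ℕ} (hd : topologicalKrullDim X < d) :
    ∃ U : Fin d → X.Opens, (∀ i, IsAffineOpen (U i)) ∧ ⨆ i, U i = ⊤ := by
  haveI : CompactSpace (Proj (CohB1.polyGrading n R)) := by
    rw [← isCompact_univ_iff]
    have h : (Set.univ : Set (Proj (CohB1.polyGrading n R))) =
        ⋃ i : ProjCoh.Ix.{u} n, (ProjCoh.chartU R i : Set (Proj (CohB1.polyGrading n R))) := by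
      rw [← Opens.coe_iSup, ProjCoh.iSup_chartU]; rfl
    rw [h]
    exact isCompact_iUnion fun i => (Proj.isAffineOpen_basicOpen (CohB1.polyGrading n R) (MvPolynomial.X i.down)
      (MvPolynomial.isHomogeneous_X R i.down) one_pos).isCompact
  haveI : IsNoetherian (Proj (CohB1.polyGrading n R)) := ⟨⟩
  haveI : NoetherianSpace X := ι.isClosedEmbedding.isInducing.noetherianSpace
  let κ := { p : ℕ × MvPolynomial (Fin (n + 1)) R // 0 < p.1 ∧ p.2 ∈ CohB1.polyGrading n R p.1 }
  let U : κ → X.Opens := fun f => ι ⁻¹ᵁ Proj.basicOpen (CohB1.polyGrading n R) f.1.2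
  have hUaff : ∀ f, IsAffineOpen (U f) := fun f =>
    (Proj.isAffineOpen_basicOpen (CohB1.polyGrading n R) f.1.2 f.2.2 f.2.1).preimage ι
  have hav : ∀ s : Finset X, ∃ j : κ, ∀ x ∈ s, x ∉ (U j : Set X)ᶜ := fun s => by
    classical
    obtain ⟨e, g, he, hge, hg⟩ := exists_homogeneous_avoid (CohB1.polyGrading n R)
      (s.image fun x => (ι.base x).asHomogeneousIdeal.toIdeal) fun p hp => by
        obtain ⟨x, -, rfl⟩ := Finset.mem_image.1 hp
        refine ⟨(ι.base x).isPrime, (ι.base x).asHomogeneousIdeal.isHomogeneous, ?_⟩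
        obtain ⟨j, hj⟩ := Opens.mem_iSup.1
          (show ι.base x ∈ ⨆ j : ProjCoh.Ix.{u} n, ProjCoh.chartU R j by rw [ProjCoh.iSup_chartU]; trivial)
        exact ⟨1, _, one_pos, MvPolynomial.isHomogeneous_X R _, hj⟩
    exact ⟨⟨(e, g), he, hge⟩, fun x hx h => h (hg _ (Finset.mem_image_of_mem _ hx))⟩
  obtain ⟨f, hf⟩ := exists_finite_cover (fun f => (U f : Set X)ᶜ) (fun f => (U f).2.isClosed_compl) hav
    d Set.univ isClosed_univ (dimLt_univ hd)
  refine ⟨fun i => U (f i), fun i => hUaff _, top_le_iff.1 fun x _ => ?_⟩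
  obtain ⟨i, hi⟩ := hf x trivial
  exact Opens.mem_iSup.2 ⟨i, not_not.1 hi⟩

/-- **Quasi-coherent cohomology vanishes above the dimension.** -/
theorem subsingleton_HH_of_dim_lt {X : Scheme.{u}} (ι : X ⟶ Proj (CohB1.polyGrading n R)) [IsClosedImmersion ι]
    (F : X.Modules) [F.IsQuasicoherent] {p : ℕ} (hp : topologicalKrullDim X < p) :
    Subsingleton (Coh.HH X F p) := by
  obtain ⟨U, hU, hcov⟩ := exists_affine_cover ι hp
  haveI : X.IsSeparated := by
    refine (Scheme.isSeparated_iff X).2 ?_
    rw [show Limits.terminal.from X = ι ≫ Limits.terminal.from _ from Subsingleton.elim _ _]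
    infer_instance
  exact CohVanish.subsingleton_HH_of_affine_cover F (fun V W hV hW => hV.inf hW) p U hU hcov p le_rfl

end Groth.Agent.CohDual
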