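import Groth.Agent.CohDual.NaturalDual
import Groth.Agent.ProjCoh.ExtDual

/-!
# Duality in a range of degrees
-/

set_option autoImplicit false
set_option linter.style.haveILetI false

universe u

open CategoryTheory CategoryTheory.Limits CategoryTheory.Abelian AlgebraicGeometry

namespace Groth.Agent.CohDual

attribute [local instance] Abelian.hasFiniteBiproducts

variable {X : Scheme.{u}} [HasExt.{u} X.Modules]

/-- Cohomology of a finite sum vanishes with the summands. -/
theorem subsingleton_HH_biproduct {c : ℕ} (f : Fin c → X.Modules) (q : ℕ)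
    (h : ∀ j, Subsingleton (Coh.HH X (f j) q)) : Subsingleton (Coh.HH X (⨁ f) q) := by
  refine subsingleton_of_forall_eq 0 fun y => ?_
  let ev : (⨁ f ⟶ ⨁ f) →+ Coh.HH X (⨁ f) q := AddMonoidHom.mk' (fun φ => cup (add_zero q) (Ext.mk₀ φ) y)
    fun φ ψ => by rw [Ext.mk₀_add, cup_add_left]
  have e : ev (𝟙 (⨁ f)) = y := by
    change cup (add_zero q) (Ext.mk₀ (𝟙 (⨁ f))) y = y
    rw [cup_mk₀]
    exact (congrArg (fun z => Sheaf.H.map z q y) ((QCohLib.toSh X).map_id _)).trans (Sheaf.H.map_id_apply y)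
  rw [← e, ← biproduct.total, map_sum]
  refine Finset.sum_eq_zero fun j _ => ?_
  change cup (add_zero q) (Ext.mk₀ (biproduct.π f j ≫ biproduct.ι f j)) y = 0
  rw [cup_mk₀, Functor.map_comp]
  refine (Sheaf.H.map_comp_apply _ _ y).trans ?_
  rw [(h j).elim (Sheaf.H.map ((QCohLib.toSh X).map (biproduct.π f j)) q y) 0, map_zero]

variable {k : Type u} [Field k] [X.Over (Spec (CommRingCat.of k))] {ω : X.Modules} {n : ℕ}
  (t : Coh.HH X ω n →ₗ[k] k)

/-- The hypotheses of dimension shifting in the degrees `≤ s`. -/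
structure RangeData (Coh' : X.Modules → Prop) (s : ℕ) : Prop where
  top : ∀ F, Coh' F → ∀ ψ : Coh.HH X F n →ₗ[k] k, ∃! φ : F ⟶ ω, ∀ y : Coh.HH X F n,
    ψ y = t (Sheaf.H.map ((QCohLib.toSh X).map φ) n y)
  cover : ∀ F, Coh' F → ∃ (L : X.Modules) (g : L ⟶ F), Epi g ∧ Coh' L ∧ Coh' (kernel g) ∧
    (∀ p, p < n → n ≤ p + s → Subsingleton (Coh.HH X L p)) ∧ ∀ i, 0 < i → Subsingleton (Ext.{u} L ω i)

variable {t} {Coh' : X.Modules → Prop} {s : ℕ}

theorem bijective_theta_zero_range (D : RangeData t Coh' s) (F : X.Modules) (hF : Coh' F) (h : n + 0 = n) :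
    Function.Bijective (theta t F h) := by
  refine ⟨fun x x' e => ?_, fun ψ => ?_⟩
  · obtain ⟨φ, rfl⟩ := (Ext.mk₀_bijective _ _).2 x
    obtain ⟨φ', rfl⟩ := (Ext.mk₀_bijective _ _).2 x'
    obtain ⟨φ₀, -, hu⟩ := D.top F hF (theta t F h (Ext.mk₀ φ))
    have e₁ := hu φ fun y => by rw [theta_apply, cup_mk₀]
    have e₂ := hu φ' fun y => by rw [LinearMap.congr_fun e y, theta_apply, cup_mk₀]
    rw [e₁, e₂]
  · obtain ⟨φ, hφ, -⟩ := D.top F hF ψ
    exact ⟨Ext.mk₀ φ, LinearMap.ext fun y => by rw [theta_apply, cup_mk₀]; exact (hφ y).symm⟩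

/-- **Duality in a range.** -/
theorem bijective_theta_range (D : RangeData t Coh' s) (i : ℕ) : i ≤ s → ∀ (F : X.Modules), Coh' F →
    ∀ {q : ℕ} (h : q + i = n), Function.Bijective (theta t F h) := by
  induction i with
  | zero =>
    intro _ F hF q h
    obtain rfl : n = q := by omega
    exact bijective_theta_zero_range D F hF h
  | succ i ih =>
    intro hi F hF q h
    obtain ⟨L, g, hg, hL, hK, hLH, hLE⟩ := D.cover F hF
    haveI := hg
    let S : ShortComplex X.Modules := ShortComplex.mk (kernel.ι g) g (kernel.condition g)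
    have hS : S.ShortExact := { exact := ShortComplex.exact_of_f_is_kernel _ (kernelIsKernel g) }
    have h₁ : q + 1 + i = n := by omega
    have hK' := ih (by omega) (kernel g) hK h₁
    have hL' := ih (by omega) L hL h₁
    have hlift : ∀ x : Ext.{u} F ω (i + 1), ∃ z, hS.extClass.comp z (add_comm 1 i) = x := fun x =>
      Ext.contravariant_sequence_exact₃ hS ω x
        ((hLE (i + 1) (Nat.succ_pos i)).elim _ _) (add_comm 1 i)
    have hinj := injective_cupClass (k := k) hS q (hLH q (by omega) (by omega))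
    refine ⟨(injective_iff_map_eq_zero _).2 fun x hx => ?_, fun ψ => ?_⟩
    · obtain ⟨z, rfl⟩ := hlift x
      have hz : ∀ y, theta t S.X₁ h₁ z (cupClass (k := k) hS q y) = 0 := fun y => by
        rw [← theta_extClass_comp hS h₁ h]
        exact LinearMap.congr_fun hx y
      let m : Coh.HH X S.X₁ (q + 1) →ₗ[k] Coh.HH X S.X₂ (q + 1) :=
        { toFun := fun y => Sheaf.H.map ((QCohLib.toSh X).map S.f) (q + 1) y
          map_add' := fun y y' => map_add _ y y'
          map_smul' := fun a y => by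
            rw [RingHom.id_apply, ← cup_mk₀, ← cup_mk₀, cup_smul_right] }
      obtain ⟨w, hw⟩ : ∃ w, m.dualMap w = theta t S.X₁ h₁ z := by
        rw [← LinearMap.mem_range, LinearMap.range_dualMap_eq_dualAnnihilator_ker, Submodule.mem_dualAnnihilator]
        intro y hy
        obtain ⟨y', rfl⟩ := exists_cupClass_eq (k := k) hS q y hy
        exact hz y'
      obtain ⟨v, hv⟩ := hL'.2 w
      have e : (Ext.mk₀ S.f).comp v (zero_add i) = z := hK'.1 (LinearMap.ext fun y => by
        rw [theta_natural, hv]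
        exact LinearMap.congr_fun hw y)
      rw [← e, ShortComplex.ShortExact.extClass_comp_assoc hS]
    · obtain ⟨ψ', hψ'⟩ := LinearMap.dualMap_surjective_of_injective hinj ψ
      obtain ⟨z, hz⟩ := hK'.2 ψ'
      refine ⟨hS.extClass.comp z (add_comm 1 i), LinearMap.ext fun y => ?_⟩
      refine (theta_extClass_comp hS h₁ h z y).trans ?_
      rw [hz]
      exact LinearMap.congr_fun hψ' y

end Groth.Agent.CohDual
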