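import Groth.Agent.KerDerived.Basic
import Groth.Agent.KerDerived.ExtNat
import Mathlib.CategoryTheory.Adjunction.Limits

/-!
# `Ext` out of the values of a left adjoint, in the lowest nonvanishing degree

For `T ⊣ R` the groups `Ext^q(T G, M)` are `Hom(G, R^q R M)` when the lower derived functors of `R` at `M`,
and the objects `R I`, `I` injective, are acyclic for `Hom(G, -)` in a weak sense.
-/

set_option autoImplicit false
set_option linter.style.haveILetI false

open CategoryTheory CategoryTheory.Limits CategoryTheory.Abelian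

namespace Groth.Agent.CohDual

universe w v u

variable {C : Type u} [Category.{v} C] [Abelian C] [EnoughInjectives C] [HasInjectiveResolutions C]

/-- A weak acyclicity notion for `Hom(G, -)`, with `G` ranging over the class `InG`; the values of `R` lie
in the class `InK`. -/
structure AcyData (T R : C ⥤ C) where
  /-- The acyclic objects. -/
  Acy : C → Prop
  /-- A class containing the values of `R`. -/
  InK : C → Prop
  /-- The class of test objects. -/
  InG : C → Prop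
  inK : ∀ X, InK (R.obj X)
  acy_inj : ∀ I : C, Injective I → Acy (R.obj I)
  quot : ∀ S : ShortComplex C, S.ShortExact → Acy S.X₁ → Acy S.X₂ → InK S.X₂ → Acy S.X₃
  mid : ∀ S : ShortComplex C, S.ShortExact → Acy S.X₁ → Acy S.X₃ → InK S.X₂ → Acy S.X₂
  ofIso : ∀ {X Y : C}, (X ≅ Y) → Acy X → Acy Y
  lift : ∀ S : ShortComplex C, S.ShortExact → Acy S.X₁ → InK S.X₂ →
    ∀ (G : C), InG G → ∀ φ : G ⟶ S.X₃, ∃ ψ, ψ ≫ S.g = φ

variable {T R : C ⥤ C} [R.Additive] (adj : T ⊣ R)

/-- The composite `R Q → R¹R M`. -/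
noncomputable def dlZero [PreservesFiniteLimits R] (M : C) :
    R.obj (KerDerived.emb M).X₃ ⟶ (R.rightDerived 1).obj M :=
  R.rightDerivedZeroIsoSelf.inv.app _ ≫ KerDerived.dl R 0 M

instance [PreservesFiniteLimits R] (M : C) : Epi (dlZero (R := R) M) := by
  unfold dlZero; infer_instance

lemma map_g_dlZero [PreservesFiniteLimits R] (M : C) :
    R.map (KerDerived.emb M).g ≫ dlZero (R := R) M = 0 :=
  (KerDerived.dl_desc_iff₀ R M (dlZero (R := R) M)).1 ⟨𝟙 _, Category.comp_id _⟩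

lemma exact_dlZero [PreservesFiniteLimits R] (M : C) :
    (ShortComplex.mk (R.map (KerDerived.emb M).g) (dlZero (R := R) M) (map_g_dlZero M)).Exact := by
  refine ShortComplex.exact_of_g_is_cokernel _ (CokernelCofork.IsColimit.ofπ' _ _ fun {Z} k hk => ?_)
  exact ⟨((KerDerived.dl_desc_iff₀ R M k).2 hk).choose, ((KerDerived.dl_desc_iff₀ R M k).2 hk).choose_spec⟩

lemma shortExact_left [PreservesFiniteLimits R] (M : C) :
    ((KerDerived.emb M).map R).Exact ∧ Mono (R.map (KerDerived.emb M).f) :=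
  ((Functor.preservesFiniteLimits_tfae R).out 3 0 rfl rfl).1 inferInstance _ (KerDerived.emb_shortExact M)

variable [HasExt.{w} C]

/-- The class of the chosen embedding of `M`. -/
noncomputable def extE (M : C) : Ext.{w} (KerDerived.emb M).X₃ M 1 := (KerDerived.emb_shortExact M).extClass

lemma comp_extE_surjective (X M : C) (n : ℕ) (x : Ext.{w} X M (n + 1)) :
    ∃ y : Ext.{w} X (KerDerived.emb M).X₃ n, y.comp (extE M) rfl = x :=
  Ext.covariant_sequence_exact₁ X (KerDerived.emb_shortExact M) x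
    (Ext.eq_zero_of_injective (I := (KerDerived.emb M).X₂) _) rfl

lemma mk₀_comp_extE_eq_zero_iff {X : C} (M : C) (φ : X ⟶ (KerDerived.emb M).X₃) :
    (Ext.mk₀ φ).comp (extE.{w} M) (zero_add 1) = 0 ↔ ∃ θ, θ ≫ (KerDerived.emb M).g = φ := by
  constructor
  · intro h
    obtain ⟨y, hy⟩ := Ext.covariant_sequence_exact₃ X (KerDerived.emb_shortExact M) (Ext.mk₀ φ) (zero_add 1) h
    obtain ⟨θ, rfl⟩ := (Ext.mk₀_bijective _ _).2 y
    rw [Ext.mk₀_comp_mk₀] at hy
    exact ⟨θ, (Ext.mk₀_bijective _ _).1 hy⟩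
  · rintro ⟨θ, rfl⟩
    exact (Ext.mk₀_comp_mk₀_assoc θ _ _).symm.trans
      ((congrArg (fun z => (Ext.mk₀ θ).comp z (zero_add 1))
        (KerDerived.emb_shortExact M).comp_extClass).trans (Ext.comp_zero _ _ _ _ _))

lemma bijective_comp_extE (X M : C) (n : ℕ) :
    Function.Bijective ((extE.{w} M).postcomp X (show n + 1 + 1 = n + 1 + 1 from rfl)) := by
  refine ⟨(injective_iff_map_eq_zero _).2 fun y hy => ?_, comp_extE_surjective X M (n + 1)⟩
  obtain ⟨z, rfl⟩ := Ext.covariant_sequence_exact₃ X (KerDerived.emb_shortExact M) y rfl hy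
  rw [Ext.eq_zero_of_injective (I := (KerDerived.emb M).X₂) z, Ext.zero_comp]

/-- The map `Hom(G, R Q) → Ext¹(T G, M)`. -/
noncomputable def extOne (G M : C) (ψ : G ⟶ R.obj (KerDerived.emb M).X₃) : Ext.{w} (T.obj G) M 1 :=
  (Ext.mk₀ ((adj.homEquiv _ _).symm ψ)).comp (extE M) (zero_add 1)

omit [R.Additive] in
lemma extOne_surjective (G M : C) : Function.Surjective (extOne adj G M : _ → Ext.{w} (T.obj G) M 1) := by
  intro x
  obtain ⟨y, hy⟩ := comp_extE_surjective (T.obj G) M 0 x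
  obtain ⟨φ, rfl⟩ := (Ext.mk₀_bijective _ _).2 y
  exact ⟨adj.homEquiv _ _ φ, by rw [extOne, Equiv.symm_apply_apply]; exact hy⟩

omit [R.Additive] in
lemma extOne_natural {G G' : C} (a : G' ⟶ G) (M : C) (ψ : G ⟶ R.obj (KerDerived.emb M).X₃) :
    (Ext.mk₀ (T.map a)).comp (extOne adj G M ψ : Ext.{w} (T.obj G) M 1) (zero_add 1) =
      extOne adj G' M (a ≫ ψ) := by
  rw [extOne, extOne, Ext.mk₀_comp_mk₀_assoc, Adjunction.homEquiv_naturality_left_symm]

omit [R.Additive] in
lemma extOne_add (G M : C) [T.Additive] (ψ ψ' : G ⟶ R.obj (KerDerived.emb M).X₃) :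
    (extOne adj G M (ψ + ψ') : Ext.{w} (T.obj G) M 1) = extOne adj G M ψ + extOne adj G M ψ' := by
  have h : (adj.homEquiv _ _).symm (ψ + ψ') =
      (adj.homEquiv _ _).symm ψ + (adj.homEquiv _ _).symm ψ' := by
    simp only [Adjunction.homEquiv_counit, Functor.map_add, Preadditive.add_comp]
  rw [extOne, extOne, extOne, h, Ext.mk₀_add, Ext.add_comp]

omit [R.Additive] in
lemma extOne_eq_zero_iff (G M : C) (ψ : G ⟶ R.obj (KerDerived.emb M).X₃) :
    (extOne adj G M ψ : Ext.{w} (T.obj G) M 1) = 0 ↔ ∃ θ, θ ≫ R.map (KerDerived.emb M).g = ψ := by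
  rw [extOne, mk₀_comp_extE_eq_zero_iff]
  constructor
  · rintro ⟨θ, hθ⟩
    refine ⟨adj.homEquiv _ _ θ, ?_⟩
    rw [← Adjunction.homEquiv_naturality_right, hθ, Equiv.apply_symm_apply]
  · rintro ⟨θ, rfl⟩
    exact ⟨(adj.homEquiv _ _).symm θ, (Adjunction.homEquiv_naturality_right_symm _ _ _).symm⟩

omit [EnoughInjectives C] [HasInjectiveResolutions C] [R.Additive] [HasExt.{w} C] [Abelian C] in
/-- Two surjections with the same kernel. -/
lemma exists_addEquiv_of_surjective {A E F : Type*} [AddCommGroup A] [AddCommGroup E] [AddCommGroup F]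
    (f : A →+ E) (g : A →+ F) (hf : Function.Surjective f) (hg : Function.Surjective g)
    (hk : ∀ a, f a = 0 ↔ g a = 0) : ∃ e : E ≃+ F, ∀ a, e (f a) = g a := by
  choose s hs using hf
  have hwd : ∀ a, g (s (f a)) = g a := fun a => by
    rw [← sub_eq_zero, ← map_sub, ← hk, map_sub, hs, sub_self]
  refine ⟨AddEquiv.ofBijective (AddMonoidHom.mk' (fun x => g (s x)) fun x y => ?_) ⟨?_, fun y => ?_⟩, hwd⟩
  · have e := hwd (s x + s y)
    rw [map_add, map_add, hs, hs] at e
    exact e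
  · refine (injective_iff_map_eq_zero _).2 fun x hx => ?_
    rw [← hs x]
    exact (hk _).2 hx
  · obtain ⟨a, rfl⟩ := hg y
    exact ⟨f a, hwd a⟩

omit [HasExt.{w} C] in
/-- The image of `R I` in `R Q`, as the two short exact sequences around it. -/
lemma exists_split_seq [PreservesFiniteLimits R] (M : C) :
    ∃ (B : C) (q : R.obj (KerDerived.emb M).X₂ ⟶ B) (b : B ⟶ R.obj (KerDerived.emb M).X₃)
      (w₁ : R.map (KerDerived.emb M).f ≫ q = 0) (w₂ : b ≫ dlZero (R := R) M = 0),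
      q ≫ b = R.map (KerDerived.emb M).g ∧ (ShortComplex.mk _ q w₁).ShortExact ∧
        (ShortComplex.mk b _ w₂).ShortExact := by
  obtain ⟨hex, hmono⟩ := shortExact_left (R := R) M
  have hd : R.map (KerDerived.emb M).f ≫ R.map (KerDerived.emb M).g = 0 := by
    rw [← R.map_comp, ShortComplex.zero, R.map_zero]
  have hb : Mono (cokernel.desc _ (R.map (KerDerived.emb M).g) hd) :=
    ShortComplex.Exact.mono_cokernelDesc hex
  haveI : Mono (R.map (KerDerived.emb M).f) := hmono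
  have hS₁ : (ShortComplex.mk (R.map (KerDerived.emb M).f) (cokernel.π (R.map (KerDerived.emb M).f))
      (cokernel.condition _)).ShortExact :=
    { exact := ShortComplex.exact_of_g_is_cokernel _ (cokernelIsCokernel _) }
  have hw : cokernel.desc _ (R.map (KerDerived.emb M).g) hd ≫ dlZero (R := R) M = 0 := by
    rw [← cancel_epi (cokernel.π _), cokernel.π_desc_assoc, map_g_dlZero, comp_zero]
  have hexb : (ShortComplex.mk _ (dlZero (R := R) M) hw).ShortExact := by
    refine { exact := ?_, mono_f := hb }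
    let φ : ShortComplex.mk (R.map (KerDerived.emb M).g) (dlZero (R := R) M) (map_g_dlZero M) ⟶
        ShortComplex.mk _ (dlZero (R := R) M) hw :=
      { τ₁ := cokernel.π _, τ₂ := 𝟙 _, τ₃ := 𝟙 _
        comm₁₂ := (cokernel.π_desc _ _ _).trans (Category.comp_id _).symm
        comm₂₃ := (Category.id_comp _).trans (Category.comp_id _).symm }
    haveI : Epi φ.τ₁ := inferInstanceAs (Epi (cokernel.π _))
    haveI : IsIso φ.τ₂ := inferInstanceAs (IsIso (𝟙 _))
    haveI : Mono φ.τ₃ := inferInstanceAs (Mono (𝟙 _))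
    exact (ShortComplex.exact_iff_of_epi_of_isIso_of_mono φ).1 (exact_dlZero M)
  exact ⟨_, _, _, _, hw, cokernel.π_desc _ _ _, hS₁, hexb⟩

/-- The first step: `Hom(G, R Q) → Hom(G, R¹ R M)` has the kernel of `extOne`. -/
lemma extOne_key [PreservesFiniteLimits R] (D : AcyData T R) (M : C) (hM : D.Acy (R.obj M)) :
    (∀ G, D.InG G → ∀ ψ : G ⟶ R.obj (KerDerived.emb M).X₃,
      (extOne adj G M ψ : Ext.{w} (T.obj G) M 1) = 0 ↔ ψ ≫ dlZero (R := R) M = 0) ∧
    (∀ G, D.InG G → ∀ φ : G ⟶ (R.rightDerived 1).obj M, ∃ ψ, ψ ≫ dlZero (R := R) M = φ) := by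
  obtain ⟨B, q, b, w₁, w₂, hqb, hS₁, hexb⟩ := exists_split_seq (R := R) M
  have hB : D.Acy B := D.quot _ hS₁ hM (D.acy_inj _ inferInstance) (D.inK _)
  refine ⟨fun G hG ψ => ?_, fun G hG φ => D.lift _ hexb hB (D.inK _) G hG φ⟩
  rw [extOne_eq_zero_iff]
  constructor
  · rintro ⟨θ, rfl⟩
    rw [Category.assoc, map_g_dlZero, comp_zero]
  · intro h
    haveI := hexb.mono_f
    obtain ⟨β, hβ⟩ : ∃ β, β ≫ b = ψ := ⟨hexb.exact.lift ψ h, hexb.exact.lift_f ψ h⟩
    obtain ⟨θ, hθ⟩ := D.lift _ hS₁ hM (D.inK _) G hG β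
    refine ⟨θ, ?_⟩
    rw [← hβ, ← hθ, Category.assoc, hqb]

include adj in
lemma exists_ext_equiv_zero [T.Additive] [PreservesFiniteLimits R] (D : AcyData T R) (M : C)
    (hM : D.Acy (R.obj M)) :
    ∃ e : ∀ G, D.InG G → (Ext.{w} (T.obj G) M (0 + 1) ≃+ (G ⟶ (R.rightDerived (0 + 1)).obj M)),
      ∀ G G' (hG : D.InG G) (hG' : D.InG G') (a : G' ⟶ G) (x : Ext.{w} (T.obj G) M (0 + 1)),
        e G' hG' ((Ext.mk₀ (T.map a)).comp x (zero_add _)) = a ≫ e G hG x := by
  obtain ⟨key, hsurj⟩ := extOne_key adj D M hM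
  choose e he using fun G (hG : D.InG G) =>
    exists_addEquiv_of_surjective
      (AddMonoidHom.mk' (extOne.{w} adj G M) (extOne_add adj G M))
      (AddMonoidHom.mk' (fun ψ => ψ ≫ dlZero (R := R) M) fun _ _ => Preadditive.add_comp _ _ _ _ _ _)
      (extOne_surjective adj G M) (hsurj G hG) (key G hG)
  refine ⟨e, fun G G' hG hG' a x => ?_⟩
  obtain ⟨ψ, rfl⟩ := extOne_surjective adj G M x
  have h1 := he G hG ψ
  have h2 := he G' hG' (a ≫ ψ)
  simp only [AddMonoidHom.mk'_apply] at h1 h2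
  rw [extOne_natural]
  erw [h1, h2]
  exact Category.assoc _ _ _

omit [HasExt.{w} C] in
/-- The facts for a step. -/
lemma step_facts [PreservesFiniteLimits R] (D : AcyData T R) (c : ℕ) (M : C) (hM : D.Acy (R.obj M))
    (hz : ∀ j, 1 ≤ j → j ≤ c + 1 → D.Acy ((R.rightDerived j).obj M)) :
    D.Acy (R.obj (KerDerived.emb M).X₃) ∧
      (∀ j, 1 ≤ j → j ≤ c → D.Acy ((R.rightDerived j).obj (KerDerived.emb M).X₃)) := by
  obtain ⟨B, q, b, w₁, w₂, -, hS₁, hexb⟩ := exists_split_seq (R := R) M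
  have hB : D.Acy B := D.quot _ hS₁ hM (D.acy_inj _ inferInstance) (D.inK _)
  refine ⟨D.mid _ hexb hB (hz 1 le_rfl (by omega)) (D.inK _), fun j hj hjc => ?_⟩
  obtain ⟨i, rfl⟩ : ∃ i, j = i + 1 := ⟨j - 1, by omega⟩
  exact D.ofIso (asIso (KerDerived.dl R (i + 1) M)).symm (hz (i + 2) (by omega) (by omega))

/-- The dimension shift on the `Ext` side. -/
noncomputable def shiftExt (X M : C) (n : ℕ) :
    Ext.{w} X (KerDerived.emb M).X₃ (n + 1) ≃+ Ext.{w} X M (n + 1 + 1) :=
  AddEquiv.ofBijective _ (bijective_comp_extE X M n)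

lemma shiftExt_natural {X Y : C} (a : X ⟶ Y) (M : C) (n : ℕ)
    (y : Ext.{w} Y (KerDerived.emb M).X₃ (n + 1)) :
    (Ext.mk₀ a).comp (shiftExt Y M n y) (zero_add _) =
      shiftExt X M n ((Ext.mk₀ a).comp y (zero_add _)) :=
  (Ext.comp_assoc (Ext.mk₀ a) y (extE.{w} M) (zero_add (n + 1)) rfl (by omega)).symm

/-- The dimension shift on the side of the derived functor. -/
noncomputable def shiftHom {G A B : C} (d : A ⟶ B) [IsIso d] : (G ⟶ A) ≃+ (G ⟶ B) where
  toFun φ := φ ≫ d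
  invFun φ := φ ≫ inv d
  left_inv φ := by simp
  right_inv φ := by simp
  map_add' _ _ := Preadditive.add_comp _ _ _ _ _ _

include adj in
/-- **The comparison in the lowest degree.** -/
theorem exists_ext_equiv [T.Additive] [PreservesFiniteLimits R] (D : AcyData T R) (c : ℕ) : ∀ (M : C),
    D.Acy (R.obj M) → (∀ j, 1 ≤ j → j ≤ c → D.Acy ((R.rightDerived j).obj M)) →
    ∃ e : ∀ G, D.InG G → (Ext.{w} (T.obj G) M (c + 1) ≃+ (G ⟶ (R.rightDerived (c + 1)).obj M)),
      ∀ G G' (hG : D.InG G) (hG' : D.InG G') (a : G' ⟶ G) (x : Ext.{w} (T.obj G) M (c + 1)),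
        e G' hG' ((Ext.mk₀ (T.map a)).comp x (zero_add _)) = a ≫ e G hG x := by
  induction c with
  | zero => exact fun M hM _ => exists_ext_equiv_zero adj D M hM
  | succ c ih =>
    intro M hM hz
    obtain ⟨hQ, hzQ⟩ := step_facts D c M hM hz
    obtain ⟨e, he⟩ := ih _ hQ hzQ
    refine ⟨fun G hG => ((shiftExt (T.obj G) M c).symm.trans (e G hG)).trans
      (shiftHom (KerDerived.dl R (c + 1) M)), ?_⟩
    intro G G' hG hG' a x
    obtain ⟨y, rfl⟩ := (shiftExt.{w} (T.obj G) M c).surjective x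
    rw [shiftExt_natural]
    simp only [AddEquiv.trans_apply, AddEquiv.symm_apply_apply, he G G' hG hG' a y]
    exact Category.assoc _ _ _

end Groth.Agent.CohDual
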