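import Groth.Agent.CohDual.IdemAdj
import Groth.Agent.ClosedExt.Basic
import Groth.Prelude.Def_ModSite2
import Groth.Prelude.Def_Coh

/-!
# The monad `i_* i^*` of a closed immersion and the adjunction with `Hom(i_* O_X, -)`
-/

set_option autoImplicit false
set_option linter.style.haveILetI false

universe u

open CategoryTheory CategoryTheory.Limits Opposite AlgebraicGeometry

namespace Groth.Agent.CohDual

open Groth.Agent.ModGroth Groth.Agent.ModGroth.Stalk Groth.Agent.ModGroth.PushStalk

variable {X P : Scheme.{u}} (i : X ⟶ P) [IsClosedImmersion i]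

/-- `i_* i^*`. -/
noncomputable abbrev monadT : P.Modules ⥤ P.Modules :=
  Scheme.Modules.pullback i ⋙ Scheme.Modules.pushforward i

/-- The unit `G ⟶ i_* i^* G`. -/
noncomputable abbrev monadUnit : 𝟭 P.Modules ⟶ monadT i :=
  (Scheme.Modules.pullbackPushforwardAdjunction i).unit

/-- The unit of a closed immersion is an epimorphism, for every module. -/
theorem epi_monadUnit (G : P.Modules) : Epi ((monadUnit i).app G) := by
  rw [QCohLib.epi_iff_stalk_surjective]
  intro y
  suffices h : Function.Surjective ((DerSch.stalkFunctor P y).map ((monadUnit i).app G)) from h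
  by_cases hy : y ∈ Set.range i.base
  · obtain ⟨x, rfl⟩ := hy
    exact ClosedExt.surjective_stalk_unit i x G
  · have h := ModuleCat.isZero_iff_subsingleton.1
      (isZero_stalk_push i i.isClosedEmbedding.isClosed_range hy ((Scheme.Modules.pullback i).obj G))
    exact fun γ => ⟨0, h.elim _ _⟩

theorem isIso_map_monadUnit (G : P.Modules) : IsIso ((monadT i).map ((monadUnit i).app G)) := by
  let adj := Scheme.Modules.pullbackPushforwardAdjunction i
  haveI := ClosedExt.isIso_counit i ((Scheme.Modules.pullback i).obj G)
  haveI : IsIso ((Scheme.Modules.pullback i).map (adj.unit.app G) ≫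
      adj.counit.app ((Scheme.Modules.pullback i).obj G)) := by
    rw [adj.left_triangle_components G]; infer_instance
  haveI : IsIso ((Scheme.Modules.pullback i).map (adj.unit.app G)) :=
    IsIso.of_isIso_comp_right _ (adj.counit.app ((Scheme.Modules.pullback i).obj G))
  exact inferInstanceAs (IsIso ((Scheme.Modules.pushforward i).map ((Scheme.Modules.pullback i).map (adj.unit.app G))))

/-- Direct images are fixed by the monad. -/
theorem inK_pushforward (N : X.Modules) :
    Idem.InK (monadUnit i) ((Scheme.Modules.pushforward i).obj N) := by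
  let adj := Scheme.Modules.pullbackPushforwardAdjunction i
  haveI : Epi (adj.unit.app ((Scheme.Modules.pushforward i).obj N)) := epi_monadUnit i _
  haveI : IsSplitMono (adj.unit.app ((Scheme.Modules.pushforward i).obj N)) :=
    IsSplitMono.mk' ⟨(Scheme.Modules.pushforward i).map (adj.counit.app N), adj.right_triangle_components N⟩
  exact isIso_of_mono_of_epi (adj.unit.app ((Scheme.Modules.pushforward i).obj N))

/-- A fixed object is the direct image of its inverse image. -/
noncomputable def inKIso {G : P.Modules} (h : Idem.InK (monadUnit i) G) :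
    (Scheme.Modules.pushforward i).obj ((Scheme.Modules.pullback i).obj G) ≅ G :=
  haveI : IsIso ((monadUnit i).app G) := h
  (asIso ((monadUnit i).app G)).symm

/-- The left adjoint is additive. -/
instance additive_monadT : (monadT i).Additive :=
  haveI : (Scheme.Modules.pullback i).Additive :=
    haveI := preservesBinaryBiproducts_of_preservesBinaryCoproducts (Scheme.Modules.pullback i)
    Functor.additive_of_preservesBinaryBiproducts _
  inferInstance

/-- `O ⊗ - ≅ 𝟭`. -/
noncomputable def unitTensorNat {Z : Scheme.{u}} :
    (DCoh.tensorBi (X := Z)).obj (Coh.structureModule Z) ≅ 𝟭 Z.Modules :=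
  tensorSymm (O := Z.sheaf) (Coh.structureModule Z) ≪≫
    (((ModSite.tensorBi Z.sheaf).flip).mapIso
      (@asIso _ _ _ _ ((adjn Z.sheaf).counit.app (SheafOfModules.unit Z.ringCatSheaf))
        (@NatIso.isIso_app_of_isIso _ _ _ _ _ _ (adjn Z.sheaf).counit
          (inferInstanceAs (IsIso (PresheafOfModules.sheafificationAdjunction
            (𝟙 (ModSite.ringSh Z.sheaf).obj)).counit)) _))).symm ≪≫
    unitTR (O := Z.sheaf)

variable [ModSite.HasSheafHom (O := P.sheaf) ((Scheme.Modules.pushforward i).obj (Coh.structureModule X))]

/-- `Hom(i_* O_X, -)`. -/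
noncomputable abbrev homS : P.Modules ⥤ P.Modules :=
  ModSite.sheafHom (O := P.sheaf) ((Scheme.Modules.pushforward i).obj (Coh.structureModule X))

/-- `i_* i^* ⊣ Hom(i_* O_X, -)`. -/
noncomputable def monadAdj : monadT i ⊣ homS i :=
  Adjunction.ofNatIsoLeft
    (F := ((ModSite.tensorBi P.sheaf).flip.obj ((Scheme.Modules.pushforward i).obj (Coh.structureModule X)) :
      P.Modules ⥤ P.Modules))
    (ModSite.sheafHomAdj (O := P.sheaf) ((Scheme.Modules.pushforward i).obj (Coh.structureModule X)))
    (ClosedExt.pullTwistIso i (Coh.structureModule X) ≪≫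
      Functor.isoWhiskerLeft (Scheme.Modules.pullback i)
        (Functor.isoWhiskerRight unitTensorNat (Scheme.Modules.pushforward i)))

/-- The values of `Hom(i_* O_X, -)` are fixed by the monad. -/
theorem inK_homS (Z : P.Modules) : Idem.InK (monadUnit i) ((homS i).obj Z) :=
  Idem.inK_obj (monadAdj i) (epi_monadUnit i) (isIso_map_monadUnit i) Z

/-- The acyclicity data of a closed immersion. -/
noncomputable def closedData : AcyData (monadT i) (homS i) :=
  Idem.acyData (monadAdj i) (epi_monadUnit i) (isIso_map_monadUnit i)

end Groth.Agent.CohDual
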