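import Groth.Agent.CohDual.ExtShProj
import Groth.Agent.HilbPoly.PushForm
import Groth.Agent.InvPow.Projective
import Groth.Agent.ProjCoh.Serre
import Groth.Agent.ClosedExt.Basic

/-!
# Twists on closed subschemes of projective space: inverses, Serre vanishing, covers
-/

set_option autoImplicit false
set_option linter.style.haveILetI false

universe u

open CategoryTheory CategoryTheory.Limits AlgebraicGeometry

namespace Groth.Agent.CohDual

open Groth.Agent.ProjCoh Groth.Agent.InvPow

attribute [local instance] Abelian.hasFiniteBiproducts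

variable {n : ℕ} {A : Type u} [CommRing A] {X : Scheme.{u}} (r : X ⟶ CohB1.ProjSpace n A)

/-- `r^* O(d)`. -/
noncomputable abbrev tw (d : ℤ) : X.Modules :=
  (Scheme.Modules.pullback r).obj (Twist.twistProjSpace n A d)

lemma isInvertible_twistProjSpace (d : ℤ) : PicF.IsInvertible (Twist.twistProjSpace n A d) :=
  ProjTwist.isInvertible_twist (hasUnit_polyGrading d)

lemma isInvertible_tw (d : ℤ) : PicF.IsInvertible (tw r d) :=
  ProjUniv.isInvertible_pullback r (isInvertible_twistProjSpace d)

theorem isInverseOf_tw (d : ℤ) : Nonempty (CohB1.tensorMod (tw r d) (tw r (-d)) ≅ Coh.structureModule X) := by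
  obtain ⟨e⟩ := nonempty_pullback_tensor_iso r (isInvertible_twistProjSpace (A := A) (n := n) d)
    (isInvertible_twistProjSpace (-d))
  obtain ⟨e'⟩ := (nonempty_twist_tensor_inverse n A d :
    Nonempty (CohB1.tensorMod (Twist.twistProjSpace n A d) (Twist.twistProjSpace n A (-d)) ≅
      Coh.structureModule (CohB1.ProjSpace n A)))
  exact ⟨e.symm ≪≫ (Scheme.Modules.pullback r).mapIso e' ≪≫ QCohLib.pullbackUnitIso r⟩

theorem isInverseOf_tw' (d : ℤ) : Nonempty (CohB1.tensorMod (tw r (-d)) (tw r d) ≅ Coh.structureModule X) := by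
  have h := isInverseOf_tw r (-d)
  rwa [neg_neg] at h

variable [IsClosedImmersion r] [IsNoetherianRing A]

include r in
/-- **Serre vanishing on a closed subscheme.** -/
theorem exists_vanishing_closed (M : X.Modules) (hM : Coh.IsCoh M) :
    ∃ d₀ : ℕ, ∀ d : ℕ, d₀ ≤ d → ∀ p, 0 < p →
      Subsingleton (Coh.HH X (CohB1.tensorMod M (tw r (d : ℤ))) p) := by
  haveI : IsLocallyNoetherian (CohB1.ProjSpace n A) :=
    haveI := InvPow.isProper_toSpec n A
    LocallyOfFiniteType.isLocallyNoetherian (CohB1.ProjSpace.toSpec n A)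
  haveI : IsLocallyNoetherian X := LocallyOfFiniteType.isLocallyNoetherian r
  obtain ⟨d₀, hd₀⟩ := ProjCoh.exists_vanishing ((Scheme.Modules.pushforward r).obj M)
    (QCohLib.isCoh_pushforward r hM)
  refine ⟨d₀.toNat, fun d hd p hp => ?_⟩
  obtain ⟨e⟩ := HilbPoly.nonempty_push_tensor r M (Twist.twistProjSpace n A (d : ℤ))
  haveI := (HilbPoly.isCoh_tensorMod hM (isInvertible_tw r (d : ℤ))).1
  obtain ⟨b⟩ := CohVanish.nonempty_HH_push_equiv r (CohB1.tensorMod M (tw r (d : ℤ))) p
  haveI := CohVanish.subsingleton_HH_of_iso e p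
    (h := hd₀ d (le_trans (Int.self_le_toNat d₀) (by exact_mod_cast hd)) p hp)
  exact b.injective.subsingleton

/-- A coherent module on a closed subscheme is a quotient of a finite sum of one negative twist. -/
theorem exists_epi_tw_ge (M : X.Modules) (hM : Coh.IsCoh M) (q₀ : ℕ) :
    ∃ (q c : ℕ) (g : Fin c → (tw r (-(q : ℤ)) ⟶ M)), q₀ ≤ q ∧ Epi (biproduct.desc g) := by
  haveI : IsLocallyNoetherian (CohB1.ProjSpace n A) :=
    haveI := InvPow.isProper_toSpec n A
    LocallyOfFiniteType.isLocallyNoetherian (CohB1.ProjSpace.toSpec n A)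
  haveI : IsLocallyNoetherian X := LocallyOfFiniteType.isLocallyNoetherian r
  obtain ⟨q, c, g, hq, hg⟩ := exists_epi_twist_ge (n := n) (R := A) ((Scheme.Modules.pushforward r).obj M)
    (QCohLib.isCoh_pushforward r hM) q₀
  haveI := ClosedExt.isIso_counit r M
  let g' : Fin c → (Twist.twistProjSpace n A (-(q : ℤ)) ⟶ (Scheme.Modules.pushforward r).obj M) := g
  haveI hg' : Epi (biproduct.desc g') := hg
  refine ⟨q, c, fun j => (Scheme.Modules.pullback r).map (g' j) ≫
    (Scheme.Modules.pullbackPushforwardAdjunction r).counit.app M, hq,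
    Preadditive.epi_of_cancel_zero _ fun {T} φ hφ => ?_⟩
  refine (cancel_epi ((Scheme.Modules.pullbackPushforwardAdjunction r).counit.app M)).1 ?_
  rw [comp_zero]
  refine ((Scheme.Modules.pullbackPushforwardAdjunction r).homEquiv _ _).injective ?_
  refine (cancel_epi (biproduct.desc g')).1 (biproduct.hom_ext' _ _ fun j => ?_)
  rw [biproduct.ι_desc_assoc, biproduct.ι_desc_assoc]
  refine ((Scheme.Modules.pullbackPushforwardAdjunction r).homEquiv_naturality_left (g' j) _).symm.trans
    ((congrArg _ ?_).trans ((Scheme.Modules.pullbackPushforwardAdjunction r).homEquiv_naturality_left (g' j) _))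
  rw [comp_zero]
  have := congrArg (fun ψ => biproduct.ι (fun _ : Fin c => tw r (-(q : ℤ))) j ≫ ψ) hφ
  simpa using this

include r in
/-- A coherent module on a closed subscheme is a quotient of a finite sum of one negative twist. -/
theorem exists_epi_tw (M : X.Modules) (hM : Coh.IsCoh M) :
    ∃ (q c : ℕ) (g : Fin c → (tw r (-(q : ℤ)) ⟶ M)), Epi (biproduct.desc g) := by
  obtain ⟨q, c, g, -, hg⟩ := exists_epi_tw_ge r M hM 0
  exact ⟨q, c, g, hg⟩

end Groth.Agent.CohDual
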