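import Groth.Agent.CohDual.SheafHomSeq
import Groth.Agent.ModGroth.Basic
import Groth.Prelude.Def_ModSite2

/-!
# Dimension shifting for the Ext sheaves in the first variable
-/

set_option autoImplicit false
set_option linter.style.haveILetI false

universe u

open CategoryTheory CategoryTheory.Limits

namespace Groth.Agent.CohDual

section Zero

universe v v' w w'

variable {A : Type w} [Category.{v} A] [Abelian A] [HasInjectiveResolutions A]
  {B : Type w'} [Category.{v'} B] [Abelian B] {F F' : A ⥤ B} [F.Additive] [F'.Additive]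

/-- The comparison with the zeroth derived functor is natural in the functor. -/
lemma toRightDerivedZero_natural (a : F ⟶ F') (X : A) :
    F.toRightDerivedZero.app X ≫ (NatTrans.rightDerived a 0).app X =
      a.app X ≫ F'.toRightDerivedZero.app X := by
  let P := injectiveResolution X
  rw [P.toRightDerivedZero_eq F, P.toRightDerivedZero_eq F', P.rightDerived_app_eq a 0]
  have h : P.toRightDerivedZero' F ≫ HomologicalComplex.cyclesMap
      ((NatTrans.mapHomologicalComplex a (ComplexShape.up ℕ)).app P.cocomplex) 0 =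
        a.app X ≫ P.toRightDerivedZero' F' := by
    rw [← cancel_mono (HomologicalComplex.iCycles _ _), Category.assoc, Category.assoc,
      HomologicalComplex.cyclesMap_i, InjectiveResolution.toRightDerivedZero'_comp_iCycles,
      InjectiveResolution.toRightDerivedZero'_comp_iCycles_assoc]
    exact a.naturality _
  erw [Category.assoc, Category.assoc, Iso.inv_hom_id_assoc]
  rw [← reassoc_of% h]
  exact congrArg (P.toRightDerivedZero' F ≫ ·)
    (((Category.assoc _ _ _).symm.trans
      (congrArg (· ≫ (P.isoRightDerivedObj F' 0).inv) (HomologicalComplex.homologyπ_naturality _ _))).trans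
        (Category.assoc _ _ _))

end Zero

open Groth.Agent.ModGroth

variable {C : Type u} [SmallCategory C] {J : GrothendieckTopology C} {O : Sheaf J CommRingCat.{u}}

instance sheafHom_preservesFiniteLimits (M : ModSite.Mod O) [ModSite.HasSheafHom M] :
    PreservesFiniteLimits (ModSite.sheafHom M) :=
  haveI : PreservesLimitsOfSize.{0, 0} (ModSite.sheafHom M) := (ModSite.sheafHomAdj M).rightAdjoint_preservesLimits
  PreservesLimitsOfSize.preservesFiniteLimits _

variable [HasInjectiveResolutions (ModSite.Mod O)] (S : ShortComplex (ModSite.Mod O))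
  [ModSite.HasSheafHom S.X₁] [ModSite.HasSheafHom S.X₂] [ModSite.HasSheafHom S.X₃]

/-- **The first connecting map.** -/
theorem exists_extSh_one (hS : S.ShortExact) (G : ModSite.Mod O)
    (h₂ : IsZero ((ModSite.extSh S.X₂ 1).obj G)) :
    ∃ (δ : (ModSite.sheafHom S.X₁).obj G ⟶ (ModSite.extSh S.X₃ 1).obj G)
      (w : (ExtSupp.sheafHomMap S.f).app G ≫ δ = 0), (ShortComplex.mk _ δ w).Exact ∧ Epi δ := by
  obtain ⟨-, -, d, hd⟩ := exists_rightDerived_seq (A := ModSite.Mod O) (ExtSupp.sheafHomMap S.g)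
    (ExtSupp.sheafHomMap S.f) (sheafHomMap_zero S) (fun I hI => @shortExact_sheafHomMap _ _ _ _ S _ _ _ hS I hI) G
  obtain ⟨⟨w₀, hex₀⟩, ⟨w₁, hex₁⟩⟩ := hd 0
  let z₁ := (ModSite.sheafHom S.X₁).toRightDerivedZero.app G
  let z₂ := (ModSite.sheafHom S.X₂).toRightDerivedZero.app G
  have hn := toRightDerivedZero_natural (ExtSupp.sheafHomMap S.f) G
  have w : (ExtSupp.sheafHomMap S.f).app G ≫ z₁ ≫ d 0 = 0 := by
    rw [← Category.assoc]
    refine (congrArg (· ≫ d 0) hn.symm).trans ?_
    rw [Category.assoc, w₀, comp_zero]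
  refine ⟨z₁ ≫ d 0, w, ?_, ?_⟩
  · refine ShortComplex.exact_of_iso (ShortComplex.isoMk (S₁ := ShortComplex.mk _ _ w₀)
      (S₂ := ShortComplex.mk _ _ w) (asIso z₂).symm (asIso z₁).symm (Iso.refl _) ?_ ?_) hex₀
    · change inv z₂ ≫ (ExtSupp.sheafHomMap S.f).app G =
        (NatTrans.rightDerived (ExtSupp.sheafHomMap S.f) 0).app G ≫ inv z₁
      rw [IsIso.inv_comp_eq, ← Category.assoc, IsIso.eq_comp_inv]
      exact hn.symm
    · change inv z₁ ≫ z₁ ≫ d 0 = d 0 ≫ 𝟙 _
      rw [IsIso.inv_hom_id_assoc, Category.comp_id]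
  · haveI : Epi (d 0) := hex₁.epi_f (h₂.eq_of_tgt _ _)
    exact epi_comp _ _

/-- **The higher shift.** -/
theorem nonempty_extSh_shift (hS : S.ShortExact) (G : ModSite.Mod O) (p : ℕ)
    (h₂ : IsZero ((ModSite.extSh S.X₂ (p + 1)).obj G)) (h₂' : IsZero ((ModSite.extSh S.X₂ (p + 2)).obj G)) :
    Nonempty ((ModSite.extSh S.X₁ (p + 1)).obj G ≅ (ModSite.extSh S.X₃ (p + 2)).obj G) := by
  obtain ⟨-, -, d, hd⟩ := exists_rightDerived_seq (A := ModSite.Mod O) (ExtSupp.sheafHomMap S.g)
    (ExtSupp.sheafHomMap S.f) (sheafHomMap_zero S) (fun I hI => @shortExact_sheafHomMap _ _ _ _ S _ _ _ hS I hI) G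
  obtain ⟨⟨w₀, hex₀⟩, ⟨w₁, hex₁⟩⟩ := hd (p + 1)
  haveI : Mono (d (p + 1)) := hex₀.mono_g (h₂.eq_of_src _ _)
  haveI : Epi (d (p + 1)) := hex₁.epi_f (h₂'.eq_of_tgt _ _)
  haveI := isIso_of_mono_of_epi (d (p + 1))
  exact ⟨asIso (d (p + 1))⟩

/-- The Ext sheaves vanish when the internal hom is exact. -/
theorem isZero_extSh_succ (M : ModSite.Mod O) [ModSite.HasSheafHom M]
    (hepi : ∀ ⦃A B : ModSite.Mod O⦄ (g : A ⟶ B), Epi g → Epi ((ModSite.sheafHom M).map g))
    (G : ModSite.Mod O) (j : ℕ) : IsZero ((ModSite.extSh M (j + 1)).obj G) := by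
  haveI : (ModSite.sheafHom M).PreservesEpimorphisms := ⟨fun g hg => hepi g hg⟩
  haveI := Functor.preservesHomology_of_preservesEpis_and_kernels (ModSite.sheafHom M)
  let P := injectiveResolution G
  refine IsZero.of_iso ?_ (P.isoRightDerivedObj (ModSite.sheafHom M) (j + 1))
  exact (HomologicalComplex.exactAt_iff_isZero_homology _ _).1
    ((P.cocomplex_exactAt_succ j).map (ModSite.sheafHom M))

end Groth.Agent.CohDual
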