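import Groth.Agent.CohDual.StalkHom
import Groth.Agent.TwoTop.Partial
import Groth.Agent.ClosedExt.Basic
import Groth.Agent.CohDual.ExtShShift
import Mathlib.Algebra.Homology.DerivedCategory.Ext.Linear
import Mathlib.Algebra.Homology.DerivedCategory.Ext.EnoughInjectives
import Mathlib.Algebra.Category.ModuleCat.Ext.HasExt

/-!
# Stalks of the Ext sheaves out of coherent modules
-/

set_option autoImplicit false
set_option linter.style.haveILetI false

universe u

open CategoryTheory CategoryTheory.Limits Opposite AlgebraicGeometry TopologicalSpace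

namespace Groth.Agent.CohDual.ExtShStalk

open Groth.Agent.ModGroth

variable {X : Scheme.{u}} [IsLocallyNoetherian X] (F : X.Modules) [ModSite.HasSheafHom (O := X.sheaf) F]
  (hF : Coh.IsCoh F) (x : X)

/-- `Hom(F, -)` as an endofunctor of the modules on the scheme. -/
noncomputable abbrev homF : X.Modules ⥤ X.Modules := ModSite.sheafHom (O := X.sheaf) F

instance additive_homF : (homF F).Additive := ModSite.sheafHom_additive (O := X.sheaf) F

instance preservesFiniteLimits_homF : PreservesFiniteLimits (homF F) :=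
  sheafHom_preservesFiniteLimits (O := X.sheaf) F

/-- The stalk of `Hom(F, -)`. -/
noncomputable abbrev T : X.Modules ⥤ ModuleCat.{u} (X.presheaf.stalk x) := homF F ⋙ DerSch.stalkFunctor X x

/-- The stalk, as a module over the local ring. -/
noncomputable abbrev stk (G : X.Modules) : ModuleCat.{u} (X.presheaf.stalk x) := (DerSch.stalkFunctor X x).obj G

/-- `Hom(F, G)_x` is `Ext⁰(F_x, G_x)`. -/
noncomputable def e₀ (G : X.Modules) :
    (T F x).obj G ≃ₗ[X.presheaf.stalk x] Abelian.Ext (stk x F) (stk x G) 0 :=
  (LinearEquiv.ofBijective (StalkHom.theta F x G) (StalkHom.bijective_theta F x hF G)).trans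
    (((ModuleCat.homLinearEquiv (M := stk x F) (N := stk x G) (S := X.presheaf.stalk x)).symm.trans
      (Abelian.Ext.linearEquiv₀ (R := X.presheaf.stalk x) (X := stk x F) (Y := stk x G)).symm :
      (F.presheaf.stalk x →ₗ[X.presheaf.stalk x] G.presheaf.stalk x) ≃ₗ[X.presheaf.stalk x]
        Abelian.Ext (stk x F) (stk x G) 0))

lemma e₀_natural {G G' : X.Modules} (g : G ⟶ G') (z : (T F x).obj G) :
    e₀ F hF x G' ((T F x).map g z) =
      (e₀ F hF x G z).comp (Abelian.Ext.mk₀ ((DerSch.stalkFunctor X x).map g)) (add_zero 0) := by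
  change Abelian.Ext.mk₀ (ModuleCat.ofHom (StalkHom.theta F x G'
      (Algz.stalkMapₗ (show StalkHom.hm F G ⟶ StalkHom.hm F G' from (ModSite.sheafHom (O := X.sheaf) F).map g) x z))) =
    (Abelian.Ext.mk₀ (ModuleCat.ofHom (StalkHom.theta F x G z))).comp _ _
  refine Eq.trans ?_ (Abelian.Ext.mk₀_comp_mk₀ (ModuleCat.ofHom (StalkHom.theta F x G z))
    ((DerSch.stalkFunctor X x).map g)).symm
  refine congrArg Abelian.Ext.mk₀ (ModuleCat.hom_ext (LinearMap.ext fun w => ?_))
  exact StalkHom.theta_natural F x g z w

instance preservesFiniteLimits_stalk : PreservesFiniteLimits (DerSch.stalkFunctor X x) :=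
  (DerSch.stalkFunctor X x).preservesFiniteLimits_of_preservesHomology

instance preservesFiniteColimits_stalk : PreservesFiniteColimits (DerSch.stalkFunctor X x) :=
  (DerSch.stalkFunctor X x).preservesFiniteColimits_of_preservesHomology

instance preservesFiniteLimits_T : PreservesFiniteLimits (T F x) :=
  comp_preservesFiniteLimits _ _

variable [EnoughInjectives X.Modules] [HasInjectiveResolutions X.Modules]

include hF in
/-- `RⁿT(G) ≅ Extⁿ(F_x, G_x)`. -/
theorem nonempty_rightDerived_T_iso : ∀ (n : ℕ) (G : X.Modules),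
    Nonempty (((T F x).rightDerived n).obj G ≅
      ModuleCat.of (X.presheaf.stalk x) (Abelian.Ext (stk x F) (stk x G) n)) := by
  intro n
  induction n with
  | zero =>
    intro G
    exact ⟨(T F x).rightDerivedZeroIsoSelf.app G ≪≫ (e₀ F hF x G).toModuleIso⟩
  | succ n ih =>
    intro G
    let S : ShortComplex X.Modules := ShortComplex.mk (Injective.ι G) (cokernel.π _) (cokernel.condition _)
    have hS : S.ShortExact := { exact := ShortComplex.exact_of_g_is_cokernel _ (cokernelIsCokernel S.f) }
    have hT : ∀ k, IsZero (((T F x).rightDerived (k + 1)).obj S.X₂) := fun k =>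
      Functor.isZero_rightDerived_obj_injective_succ (T F x) k (Injective.under G)
    let S' := S.map (DerSch.stalkFunctor X x)
    have hS' : S'.ShortExact := hS.map_of_exact _
    haveI : Injective (stk x S.X₂) :=
      Module.injective_object_of_injective_module (R := X.presheaf.stalk x)
        ((S.X₂).presheaf.stalk x) (inj := InjStalk.injective_stalk S.X₂ (inferInstanceAs (Injective (Injective.under G))) x)
    let δ : ∀ a : ℕ, Abelian.Ext (stk x F) (stk x S.X₃) a →ₗ[X.presheaf.stalk x]
        Abelian.Ext (stk x F) (stk x G) (a + 1) := fun a =>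
      hS'.extClass.postcompOfLinear (X.presheaf.stalk x) (stk x F) rfl
    have hδ : ∀ a, Function.Surjective (δ a) := fun a y => by
      haveI : Injective S'.X₂ := inferInstanceAs (Injective (stk x S.X₂))
      exact Abelian.Ext.covariant_sequence_exact₁ (stk x F) hS' y (Abelian.Ext.eq_zero_of_injective _) rfl
    cases n with
    | zero =>
      obtain ⟨e⟩ := TwoTop.nonempty_one_iso (T F x) hS (hT 0)
      let q : (T F x).obj S.X₃ ⟶ ModuleCat.of (X.presheaf.stalk x) (Abelian.Ext (stk x F) (stk x G) 1) :=
        ModuleCat.ofHom (δ 0 ∘ₗ (e₀ F hF x S.X₃).toLinearMap)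
      have w : (T F x).map S.g ≫ q = 0 := ModuleCat.hom_ext (LinearMap.ext fun z => by
        change (e₀ F hF x S.X₃ ((T F x).map S.g z)).comp hS'.extClass rfl = 0
        rw [e₀_natural]
        exact (Abelian.Ext.comp_assoc_of_second_deg_zero _ _ _ _).trans
          ((congrArg (fun q => Abelian.Ext.comp _ q _) hS'.comp_extClass).trans (Abelian.Ext.comp_zero _ _ _ _ _)))
      have hex : (ShortComplex.mk _ q w).Exact := by
        rw [ShortComplex.moduleCat_exact_iff]
        intro z hz
        obtain ⟨y, hy⟩ := Abelian.Ext.covariant_sequence_exact₃ (stk x F) hS' (e₀ F hF x S.X₃ z) rfl hz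
        refine ⟨(e₀ F hF x S.X₂).symm y, (e₀ F hF x S.X₃).injective ?_⟩
        refine (e₀_natural F hF x S.g _).trans ?_
        rw [LinearEquiv.apply_symm_apply]
        exact hy
      haveI : Epi q := (ModuleCat.epi_iff_surjective q).2 ((hδ 0).comp (e₀ F hF x S.X₃).surjective)
      exact ⟨e ≪≫ (cokernelIsCokernel _).coconePointUniqueUpToIso hex.gIsCokernel⟩
    | succ n =>
      obtain ⟨e⟩ := TwoTop.nonempty_shift_iso (T F x) hS n (hT n) (hT (n + 1))
      obtain ⟨e'⟩ := ih S.X₃
      have hinj : Function.Injective (δ (n + 1)) := by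
        rw [injective_iff_map_eq_zero]
        intro z hz
        haveI : Injective S'.X₂ := inferInstanceAs (Injective (stk x S.X₂))
        obtain ⟨y, hy⟩ := Abelian.Ext.covariant_sequence_exact₃ (stk x F) hS' z rfl hz
        refine hy.symm.trans ?_
        rw [Abelian.Ext.eq_zero_of_injective y]
        simp only [Abelian.Ext.zero_comp]
        rfl
      exact ⟨e.symm ≪≫ e' ≪≫ (LinearEquiv.ofBijective (δ (n + 1)) ⟨hinj, hδ (n + 1)⟩).toModuleIso⟩

end Groth.Agent.CohDual.ExtShStalk

namespace Groth.Agent.CohDual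

open Groth.Agent.ModGroth

/-- **The stalks of the Ext sheaves out of a coherent module.** -/
theorem nonempty_stalk_extSh {X : Scheme.{u}} [IsLocallyNoetherian X] (F : X.Modules)
    [ModSite.HasSheafHom (O := X.sheaf) F] (hF : Coh.IsCoh F) [HasInjectiveResolutions (ModSite.Mod X.sheaf)]
    (G : X.Modules) (x : X) (n : ℕ) :
    Nonempty ((DerSch.stalkFunctor X x).obj (show X.Modules from (ModSite.extSh (O := X.sheaf) F n).obj G) ≅
      ModuleCat.of (X.presheaf.stalk x) (Abelian.Ext (ModuleCat.of (X.presheaf.stalk x) (F.presheaf.stalk x))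
        (ModuleCat.of (X.presheaf.stalk x) (G.presheaf.stalk x)) n)) := by
  haveI : IsGrothendieckAbelian.{u} X.Modules := sheaf_isGrothendieckAbelian X.ringCatSheaf
  haveI : HasInjectiveResolutions X.Modules := (inferInstance : HasInjectiveResolutions (ModSite.Mod X.sheaf))
  obtain ⟨e⟩ := ExtShStalk.nonempty_rightDerived_T_iso F hF x n G
  obtain ⟨e'⟩ := ClosedExt.nonempty_rightDerived_exact (ExtShStalk.homF F) (DerSch.stalkFunctor X x) G n
  exact ⟨e'.symm ≪≫ e⟩

end Groth.Agent.CohDual
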