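import Mathlib.CategoryTheory.Abelian.RightDerived
import Mathlib.Algebra.Homology.QuasiIso
import Mathlib.Algebra.Homology.Additive
import Mathlib.CategoryTheory.Adjunction.Limits
import Mathlib.CategoryTheory.Preadditive.Injective.Preserves

/-!
# Right derived functors commute with autoequivalences
-/

set_option autoImplicit false
set_option linter.style.haveILetI false

open CategoryTheory CategoryTheory.Limits

namespace Groth.Agent.CohDual

universe v u

variable {C : Type u} [Category.{v} C] [Abelian C] [HasInjectiveResolutions C]

/-- If `R` commutes with the autoequivalence `E` then so do its derived functors. -/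
theorem nonempty_rightDerived_twist (R E : C ⥤ C) [R.Additive] [E.IsEquivalence] [E.Additive]
    (α : E ⋙ R ≅ R ⋙ E) (q : ℕ) (M : C) :
    Nonempty ((R.rightDerived q).obj (E.obj M) ≅ E.obj ((R.rightDerived q).obj M)) := by
  let I := injectiveResolution M
  haveI : E.PreservesHomology := inferInstance
  haveI : ∀ n, Injective (((E.mapHomologicalComplex (ComplexShape.up ℕ)).obj I.cocomplex).X n) := fun n =>
    haveI := I.injective n
    inferInstanceAs (Injective (E.obj (I.cocomplex.X n)))
  let J : InjectiveResolution (E.obj M) :=
    { cocomplex := (E.mapHomologicalComplex (ComplexShape.up ℕ)).obj I.cocomplex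
      ι := (HomologicalComplex.singleMapHomologicalComplex E (ComplexShape.up ℕ) 0).inv.app M ≫
        (E.mapHomologicalComplex (ComplexShape.up ℕ)).map I.ι
      quasiIso := by
        haveI := I.quasiIso
        infer_instance }
  exact ⟨J.isoRightDerivedObj R q ≪≫
    (HomologicalComplex.homologyFunctor C _ q).mapIso
      ((NatIso.mapHomologicalComplex α (ComplexShape.up ℕ)).app I.cocomplex) ≪≫
    ShortComplex.mapHomologyIso ((((R.mapHomologicalComplex (ComplexShape.up ℕ)).obj I.cocomplex)).sc q) E ≪≫
    E.mapIso (I.isoRightDerivedObj R q).symm⟩

end Groth.Agent.CohDual
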