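import Groth.Agent.CohDual.ExtH0
import Groth.Agent.CohDual.ClosedTwist
import Groth.Agent.CohDual.DerivedTwist
import Groth.Agent.NegVanish.LocFree

/-!
# Ext sheaves and twists on closed subschemes of projective space
-/

set_option autoImplicit false
set_option linter.style.haveILetI false

universe u

open CategoryTheory CategoryTheory.Limits CategoryTheory.Abelian AlgebraicGeometry

namespace Groth.Agent.CohDual

open Groth.Agent.ModGroth Groth.Agent.SSExist

attribute [local instance] Abelian.hasFiniteBiproducts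

section Site

variable {C : Type u} [SmallCategory C] {J : GrothendieckTopology C} {O : Sheaf J CommRingCat.{u}}

/-- `Hom(F, - ⊗ L) ≅ Hom(F, -) ⊗ L` naturally, for `L` with inverse. -/
theorem nonempty_sheafHom_twist_nat (F A B : ModSite.Mod O) [ModSite.HasSheafHom F]
    (eAB : ((ModSite.tensorBi O).obj A).obj B ≅ unitObj O) (eBA : ((ModSite.tensorBi O).obj B).obj A ≅ unitObj O) :
    Nonempty (tR A ⋙ ModSite.sheafHom F ≅ ModSite.sheafHom F ⋙ tR A) := by
  let e := ProjCoh.tensorEquivalence A B eAB eBA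
  let α : tR B ⋙ tR F ≅ tR F ⋙ tR B :=
    (tensorAssoc B F).symm ≪≫ (ModSite.tensorBi O).flip.mapIso ((tensorSymm F).app B).symm ≪≫ tensorAssoc F B
  exact ⟨conjugateIsoEquiv ((ModSite.sheafHomAdj F).comp e.toAdjunction)
    (e.toAdjunction.comp (ModSite.sheafHomAdj F)) α⟩

end Site

variable {X : Scheme.{u}}

/-- The Ext sheaves commute with twisting by a module with inverse. -/
theorem nonempty_extX_twist (F L L' : X.Modules) [ModSite.HasSheafHom (O := X.sheaf) F]
    [HasInjectiveResolutions (ModSite.Mod X.sheaf)]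
    (hLL' : Nonempty (CohB1.tensorMod L L' ≅ Coh.structureModule X))
    (hL'L : Nonempty (CohB1.tensorMod L' L ≅ Coh.structureModule X)) (l : ℕ) (M : X.Modules) :
    Nonempty ((extX F l).obj (CohB1.tensorMod M L) ≅ CohB1.tensorMod ((extX F l).obj M) L) := by
  obtain ⟨eAB⟩ := hLL'
  obtain ⟨eBA⟩ := hL'L
  let u0 : unitObj X.sheaf ≅ ModSite.unit X.sheaf :=
    haveI : IsIso (adjn X.sheaf).counit :=
      inferInstanceAs (IsIso (PresheafOfModules.sheafificationAdjunction (𝟙 (ModSite.ringSh X.sheaf).obj)).counit)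
    (asIso (adjn X.sheaf).counit).app (ModSite.unit X.sheaf)
  obtain ⟨β⟩ := nonempty_sheafHom_twist_nat (O := X.sheaf) F L L' (eAB ≪≫ u0.symm) (eBA ≪≫ u0.symm)
  haveI : IsGrothendieckAbelian.{u} X.Modules := sheaf_isGrothendieckAbelian X.ringCatSheaf
  haveI : HasInjectiveResolutions X.Modules := ‹HasInjectiveResolutions (ModSite.Mod X.sheaf)›
  haveI : (tR (O := X.sheaf) L : ModSite.Mod X.sheaf ⥤ ModSite.Mod X.sheaf).IsEquivalence :=
    (ProjCoh.tensorEquivalence (O := X.sheaf) L L' (eAB ≪≫ u0.symm) (eBA ≪≫ u0.symm)).isEquivalence_inverse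
  haveI : (tF L).IsEquivalence :=
    ‹(tR (O := X.sheaf) L : ModSite.Mod X.sheaf ⥤ ModSite.Mod X.sheaf).IsEquivalence›
  haveI : (tF L).Additive :=
    haveI := preservesBinaryBiproducts_of_preservesBinaryCoproducts (tF L)
    Functor.additive_of_preservesBinaryBiproducts _
  haveI : (homX F).IsRightAdjoint := (ModSite.sheafHomAdj (O := X.sheaf) F).isRightAdjoint
  haveI : (homX F).Additive :=
    haveI := preservesBinaryBiproducts_of_preservesBinaryProducts (homX F)
    Functor.additive_of_preservesBinaryBiproducts _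
  exact nonempty_rightDerived_twist (homX F) (tF L) β l M

variable {n : ℕ} {A : Type u} [CommRing A] [IsNoetherianRing A] (r : X ⟶ CohB1.ProjSpace n A) [IsClosedImmersion r]

include r in
lemma isLocallyNoetherian_closed : IsLocallyNoetherian X :=
  haveI := InvPow.isProper_toSpec n A
  haveI : IsLocallyNoetherian (CohB1.ProjSpace n A) :=
    LocallyOfFiniteType.isLocallyNoetherian (CohB1.ProjSpace.toSpec n A)
  LocallyOfFiniteType.isLocallyNoetherian r

include r in
/-- **The Ext sheaves of coherent modules on a closed subscheme of projective space are coherent.** -/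
theorem isCoh_extX (F G : X.Modules) (hF : Coh.IsCoh F) (hG : Coh.IsCoh G) [ModSite.HasSheafHom (O := X.sheaf) F]
    [HasInjectiveResolutions (ModSite.Mod X.sheaf)] (l : ℕ) : Coh.IsCoh ((extX F l).obj G) := by
  haveI := isLocallyNoetherian_closed r
  refine isCoh_extSh G (fun M hM => ?_) l F hF
  obtain ⟨q, c, g, hg⟩ := exists_epi_tw r M hM
  refine ⟨_, biproduct.desc g, hg, goodAt_biproduct (tw r (-(q : ℤ))) G
    (InvPow.isCoh_of_isInvertible (isInvertible_tw r _)) (InvPow.isFinLocFree_of_isInvertible (isInvertible_tw r _))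
    (fun {_} => ?_) c⟩
  obtain ⟨e⟩ := nonempty_homMod_iso_of_inverse (tw r (q : ℤ)) (tw r (-(q : ℤ))) (isInverseOf_tw r _)
    (isInverseOf_tw' r _) G
  exact QCohLib.isCoh_of_iso e.symm (HilbPoly.isCoh_tensorMod hG (isInvertible_tw r _))

include r in
/-- **`Ext^i(F, G(d)) = H^0(ℰxt^i(F, G(d)))` for `d ≫ 0`.** -/
theorem exists_ext_H0_twist [X.Over (Spec (CommRingCat.of A))] [HasExt.{u} X.Modules] (F G : X.Modules)
    (hF : Coh.IsCoh F) (hG : Coh.IsCoh G) [ModSite.HasSheafHom (O := X.sheaf) F]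
    [HasInjectiveResolutions (ModSite.Mod X.sheaf)] (i : ℕ) :
    ∃ d₀ : ℕ, ∀ d : ℕ, d₀ ≤ d → Nonempty (Ext.{u} F (CohB1.tensorMod G (tw r (d : ℤ))) i ≃ₗ[A]
      Coh.HH X ((extX F i).obj (CohB1.tensorMod G (tw r (d : ℤ)))) 0) := by
  choose b hb using fun l => exists_vanishing_closed r _ (isCoh_extX r F G hF hG l)
  refine ⟨(Finset.range i).sup b, fun d hd => nonempty_ext_H0 F _ i fun l hl p hp => ?_⟩
  obtain ⟨e⟩ := nonempty_extX_twist F (tw r (d : ℤ)) (tw r (-(d : ℤ))) (isInverseOf_tw r _)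
    (isInverseOf_tw' r _) l G
  exact CohVanish.subsingleton_HH_of_iso e.symm p
    (h := hb l d ((Finset.le_sup (f := b) (Finset.mem_range.2 hl)).trans hd) p hp)

end Groth.Agent.CohDual
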