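import Groth.Agent.ModGroth.SiteStalk
import Groth.Agent.ModGroth.FlatStalk
import Groth.Prelude.Def_DerSch
import Groth.Prelude.Def_Coh
import Mathlib.Topology.Sheaves.Points
import Mathlib.RingTheory.TensorProduct.Maps
import Mathlib.Algebra.Homology.DerivedCategory.Ext.Linear
import Mathlib.Algebra.Category.ModuleCat.Ext.HasExt

/-!
# The stalks at the points of the site of opens are the usual stalks
-/

set_option autoImplicit false
set_option linter.style.haveILetI false

universe u

open CategoryTheory CategoryTheory.Limits Opposite AlgebraicGeometry TopologicalSpace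
open scoped TensorProduct

namespace Groth.Agent.CohDual.SiteStalkCmp

variable {X : Scheme.{u}} (x : X)

/-- The point of the site of opens. -/
noncomputable abbrev pt : GrothendieckTopology.Point.{u} (Opens.grothendieckTopology X) :=
  Opens.pointGrothendieckTopology x

/-- The neighbourhood, as an element of the fibre. -/
def el {U : X.Opens} (h : x ∈ U) : (pt x).fiber.obj U := ⟨⟨h⟩⟩

lemma mem_of_el {U : X.Opens} (p : (pt x).fiber.obj U) : x ∈ U := p.down.down

section Compare

variable {A : Type (u + 1)} [Category.{u} A] [HasColimitsOfSize.{u, u} A] (P : X.Opensᵒᵖ ⥤ A)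

/-- From the stalk to the fibre at the point of the site. -/
noncomputable def toFiber : TopCat.Presheaf.stalk (C := A) (X := X.toTopCat) P x ⟶ (pt x).presheafFiber.obj P :=
  colimit.desc _
    { pt := (pt x).presheafFiber.obj P
      ι :=
        { app := fun U => (pt x).toPresheafFiber U.unop.1 (el x U.unop.2) P
          naturality := fun U V i => by
            refine Eq.trans ?_ (Category.comp_id _).symm
            exact (pt x).toPresheafFiber_w _ (el x V.unop.2) P } }

lemma germ_toFiber (U : X.Opens) (h : x ∈ U) :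
    TopCat.Presheaf.germ (X := X.toTopCat) P U x h ≫ toFiber x P = (pt x).toPresheafFiber U (el x h) P :=
  colimit.ι_desc _ (op (⟨U, h⟩ : OpenNhds x))

end Compare

/-- The comparison of the local rings. -/
noncomputable def ringMap : X.presheaf.stalk x →+* ModSite.stalkRing (pt x) X.sheaf :=
  (toFiber x X.presheaf).hom

lemma ringMap_germ {U : X.Opens} (h : x ∈ U) (r : Γ(X, U)) :
    ringMap x (X.presheaf.germ U x h r) = ModGroth.SiteStalk.gR (O := X.sheaf) (pt x) U (el x h) r :=
  ConcreteCategory.congr_hom (germ_toFiber x X.presheaf U h) r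

lemma bijective_ringMap : Function.Bijective (ringMap x) := by
  refine ⟨(injective_iff_map_eq_zero _).2 fun a ha => ?_, fun b => ?_⟩
  · obtain ⟨U, h, r, rfl⟩ := X.presheaf.exists_germ_eq (x := x) a
    rw [ringMap_germ] at ha
    obtain ⟨V, f, y, -, hV⟩ := ModGroth.SiteStalk.gR_eq_zero (O := X.sheaf) (pt x) (el x h) r ha
    have e := congrArg (X.presheaf.germ V x (mem_of_el x y)).hom hV
    erw [TopCat.Presheaf.germ_res_apply, map_zero] at e
    exact e
  · obtain ⟨U, p, r, rfl⟩ := ModGroth.SiteStalk.exists_gR (O := X.sheaf) (pt x) b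
    exact ⟨X.presheaf.germ U x (mem_of_el x p) r, ringMap_germ x _ r⟩

variable (M : X.Modules)

/-- The comparison of the stalks of a module. -/
noncomputable def modMap : M.presheaf.stalk x →+ ModSite.stalkAb (O := X.sheaf) (pt x) M :=
  (toFiber x M.presheaf).hom

lemma modMap_germ {U : X.Opens} (h : x ∈ U) (m : Γ(M, U)) :
    modMap x M (M.presheaf.germ U x h m) = ModGroth.SiteStalk.gm (O := X.sheaf) (pt x) M U (el x h) m :=
  ConcreteCategory.congr_hom (germ_toFiber x M.presheaf U h) m

lemma bijective_modMap : Function.Bijective (modMap x M) := by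
  refine ⟨(injective_iff_map_eq_zero _).2 fun a ha => ?_, fun b => ?_⟩
  · obtain ⟨U, h, r, rfl⟩ := M.presheaf.exists_germ_eq (x := x) a
    rw [modMap_germ] at ha
    obtain ⟨V, f, y, -, hV⟩ := ModGroth.SiteStalk.gm_eq_zero (O := X.sheaf) (pt x) M (el x h) r ha
    have e := congrArg (M.presheaf.germ V x (mem_of_el x y)).hom hV
    erw [map_zero] at e
    exact (TopCat.Presheaf.germ_res_apply M.presheaf f x (mem_of_el x y) r).symm.trans e
  · obtain ⟨U, p, r, rfl⟩ := ModGroth.SiteStalk.exists_gm (O := X.sheaf) (pt x) M b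
    exact ⟨M.presheaf.germ U x (mem_of_el x p) r, modMap_germ x M _ r⟩

lemma modMap_smul (a : X.presheaf.stalk x) (m : M.presheaf.stalk x) :
    modMap x M (a • m) = ringMap x a • modMap x M m := by
  obtain ⟨U, h, r, s, rfl, rfl⟩ : ∃ (U : X.Opens) (h : x ∈ U) (r : Γ(X, U)) (s : Γ(M, U)),
      X.presheaf.germ U x h r = a ∧ M.presheaf.germ U x h s = m := by
    obtain ⟨U, h, r, rfl⟩ := X.presheaf.exists_germ_eq (x := x) a
    obtain ⟨V, h', s, rfl⟩ := M.presheaf.exists_germ_eq (x := x) m
    exact ⟨U ⊓ V, ⟨h, h'⟩, X.presheaf.map (homOfLE inf_le_left).op r, M.presheaf.map (homOfLE inf_le_right).op s,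
      TopCat.Presheaf.germ_res_apply X.presheaf _ x _ r, TopCat.Presheaf.germ_res_apply M.presheaf _ x _ s⟩
  rw [ringMap_germ]
  have h1 : X.presheaf.germ U x h r • M.presheaf.germ U x h s = M.presheaf.germ U x h (r • s) :=
    (PresheafOfModules.germ_smul M.val x U h r s).symm
  rw [h1, modMap_germ, modMap_germ]
  exact ModGroth.SiteStalk.gm_smul (O := X.sheaf) (pt x) M U (el x h) r s

/-- A semilinear bijection along an isomorphism of rings is a base change. -/
lemma nonempty_tensor_equiv {A B : Type u} [CommRing A] [CommRing B] [Algebra A B]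
    (hφ : Function.Bijective (algebraMap A B)) {M M' : Type u} [AddCommGroup M] [Module A M]
    [AddCommGroup M'] [Module B M'] (σ : M →+ M') (hσ : Function.Bijective σ)
    (hsmul : ∀ (a : A) m, σ (a • m) = algebraMap A B a • σ m) :
    Nonempty ((B ⊗[A] M) ≃ₗ[B] M') := by
  letI : Module A M' := Module.compHom M' (algebraMap A B)
  haveI : IsScalarTower A B M' := ⟨fun a b m => by
    rw [Algebra.smul_def, mul_smul]
    rfl⟩
  let f : M →ₗ[A] M' := { toFun := σ, map_add' := map_add σ, map_smul' := hsmul }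
  let L := f.liftBaseChange B
  have hsurj : ∀ z : B ⊗[A] M, ∃ m, z = (1 : B) ⊗ₜ[A] m := fun z => by
    induction z using TensorProduct.induction_on with
    | zero => exact ⟨0, (TensorProduct.tmul_zero _ _).symm⟩
    | tmul b m =>
      obtain ⟨a, rfl⟩ := hφ.2 b
      exact ⟨a • m, by rw [TensorProduct.tmul_smul, TensorProduct.smul_tmul', Algebra.smul_def, mul_one]⟩
    | add y z hy hz =>
      obtain ⟨m, rfl⟩ := hy
      obtain ⟨m', rfl⟩ := hz
      exact ⟨m + m', (TensorProduct.tmul_add _ _ _).symm⟩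
  have hL : ∀ m, L ((1 : B) ⊗ₜ[A] m) = σ m := fun m => by
    rw [LinearMap.liftBaseChange_tmul, one_smul]; rfl
  refine ⟨LinearEquiv.ofBijective L ⟨fun y z h => ?_, fun m' => ?_⟩⟩
  · obtain ⟨m, rfl⟩ := hsurj y
    obtain ⟨m', rfl⟩ := hsurj z
    rw [hL, hL] at h
    rw [hσ.1 h]
  · obtain ⟨m, rfl⟩ := hσ.2 m'
    exact ⟨_, hL m⟩

end Groth.Agent.CohDual.SiteStalkCmp

namespace Groth.Agent.CohDual

/-- Isomorphic modules have linearly isomorphic `Ext`. -/
theorem nonempty_extCongr {R : Type u} [CommRing R] {A B A' B' : ModuleCat.{u} R}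
    (e : A ≅ A') (f : B ≅ B') (i : ℕ) : Nonempty (Abelian.Ext A B i ≃ₗ[R] Abelian.Ext A' B' i) :=
  ⟨LinearEquiv.ofLinear
    ((Abelian.Ext.mk₀ f.hom).postcompOfLinear R A' (add_zero i) ∘ₗ (Abelian.Ext.mk₀ e.inv).precompOfLinear R B (zero_add i))
    ((Abelian.Ext.mk₀ f.inv).postcompOfLinear R A (add_zero i) ∘ₗ (Abelian.Ext.mk₀ e.hom).precompOfLinear R B' (zero_add i))
    (LinearMap.ext fun z => by
      simp [Abelian.Ext.comp_assoc_of_second_deg_zero, Abelian.Ext.mk₀_comp_mk₀_assoc])
    (LinearMap.ext fun z => by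
      simp [Abelian.Ext.comp_assoc_of_second_deg_zero, Abelian.Ext.mk₀_comp_mk₀_assoc])⟩

end Groth.Agent.CohDual
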