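import Groth.Agent.CohDual.DualCM
import Groth.Agent.CohDual.ProjDualizing
import Groth.Agent.CohDual.ExtTwistSh
import Groth.Agent.CohVanish.Sections
import Groth.Agent.CohDual.ExtShStalk
import Groth.Agent.CohDual.SiteStalkCmp
import Groth.Agent.InvBasic.Basic

/-!
# An Ext sheaf of a coherent module vanishes iff the cohomology of the negative twists does
-/

set_option autoImplicit false
set_option linter.style.haveILetI false

universe u

open CategoryTheory CategoryTheory.Limits CategoryTheory.Abelian AlgebraicGeometry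

namespace Groth.Agent.CohDual

open Groth.Agent.ModGroth Groth.Agent.SSExist

attribute [local instance] Abelian.hasFiniteBiproducts

section Closed

variable {n : ℕ} {k : Type u} [Field k] {X : Scheme.{u}} [X.Over (Spec (CommRingCat.of k))]
  (r : X ⟶ CohB1.ProjSpace n k) [IsClosedImmersion r] [HasExt.{u} X.Modules]

omit [X.Over (Spec (CommRingCat.of k))] in
/-- `Ext` out of a twist is `Ext` into the inverse twist. -/
theorem subsingleton_ext_tensor_iff (L L' : X.Modules)
    (hLL' : Nonempty (CohB1.tensorMod L L' ≅ Coh.structureModule X))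
    (hL'L : Nonempty (CohB1.tensorMod L' L ≅ Coh.structureModule X)) (F M : X.Modules) (i : ℕ) :
    Subsingleton (Ext.{u} F (CohB1.tensorMod M L) i) ↔ Subsingleton (Ext.{u} (CohB1.tensorMod F L') M i) := by
  obtain ⟨eAB⟩ := hLL'
  obtain ⟨eBA⟩ := hL'L
  let u0 : unitObj X.sheaf ≅ ModSite.unit X.sheaf :=
    haveI : IsIso (adjn X.sheaf).counit :=
      inferInstanceAs (IsIso (PresheafOfModules.sheafificationAdjunction (𝟙 (ModSite.ringSh X.sheaf).obj)).counit)
    (asIso (adjn X.sheaf).counit).app (ModSite.unit X.sheaf)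
  haveI : HasExt.{u} (ModSite.Mod X.sheaf) := inferInstanceAs (HasExt.{u} X.Modules)
  haveI : IsGrothendieckAbelian.{u} (ModSite.Mod X.sheaf) := sheaf_isGrothendieckAbelian (ModSite.ringSh X.sheaf)
  let e := ProjCoh.tensorEquivalence (O := X.sheaf) L L' (eAB ≪≫ u0.symm) (eBA ≪≫ u0.symm)
  haveI : (tR (O := X.sheaf) L').IsEquivalence := e.isEquivalence_functor
  haveI : (tR (O := X.sheaf) L).IsEquivalence := e.isEquivalence_inverse
  haveI := tR_additive (O := X.sheaf) L
  have hbij := EtMV.Φ_bijective (L := tR (O := X.sheaf) L') (R := tR (O := X.sheaf) L) e.toAdjunction F M i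
  refine ⟨fun h => ?_, fun h => ?_⟩
  · haveI : Subsingleton (Ext.{u} (C := ModSite.Mod X.sheaf) F ((tR (O := X.sheaf) L).obj M) i) := h
    exact hbij.1.subsingleton
  · haveI : Subsingleton (Ext.{u} (C := ModSite.Mod X.sheaf) ((tR (O := X.sheaf) L').obj F) M i) := h
    exact hbij.2.subsingleton

include r in
/-- A coherent module whose high twists have no sections vanishes. -/
theorem isZero_of_subsingleton_H0_tw (E : X.Modules) (hE : Coh.IsCoh E) (m₀ : ℕ)
    (h : ∀ m : ℕ, m₀ ≤ m → Subsingleton (Coh.HH X (CohB1.tensorMod E (tw r (m : ℤ))) 0)) : IsZero E := by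
  obtain ⟨q, c, g, hq, hg⟩ := exists_epi_tw_ge r E hE m₀
  haveI : Subsingleton (tw r (-(q : ℤ)) ⟶ E) := by
    haveI := subsingleton_ext_of_tensor_inverse (tw r (q : ℤ)) (tw r (-(q : ℤ))) E (isInverseOf_tw r _)
      (isInverseOf_tw' r _) 0 (h q hq)
    exact (Ext.mk₀_bijective _ _).1.subsingleton
  have h0 : biproduct.desc g = 0 := biproduct.hom_ext' _ _ fun j => Subsingleton.elim _ _
  haveI : Epi (0 : (⨁ fun _ : Fin c => tw r (-(q : ℤ))) ⟶ E) := h0 ▸ hg
  exact IsZero.of_epi_zero (⨁ fun _ : Fin c => tw r (-(q : ℤ))) E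

include r in
/-- **The criterion.** -/
theorem isZero_extX_iff_vanish (ω : X.Modules) (hω : Coh.IsCoh ω) (F : X.Modules) (hF : Coh.IsCoh F)
    [ModSite.HasSheafHom (O := X.sheaf) F] [HasInjectiveResolutions (ModSite.Mod X.sheaf)] (j q : ℕ)
    (hd : ∀ G : X.Modules, Coh.IsCoh G → (Subsingleton (Ext.{u} G ω j) ↔ Subsingleton (Coh.HH X G q))) :
    IsZero ((extX F j).obj ω) ↔
      ∃ m₀ : ℕ, ∀ m : ℕ, m₀ ≤ m → Subsingleton (Coh.HH X (CohB1.tensorMod F (tw r (-(m : ℤ)))) q) := by
  haveI := isLocallyNoetherian_closed r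
  obtain ⟨d₀, hd₀⟩ := exists_ext_H0_twist (A := k) r F ω hF hω j
  have key : ∀ m : ℕ, d₀ ≤ m → (Subsingleton (Coh.HH X (CohB1.tensorMod F (tw r (-(m : ℤ)))) q) ↔
      Subsingleton (Coh.HH X (CohB1.tensorMod ((extX F j).obj ω) (tw r (m : ℤ))) 0)) := fun m hm => by
    rw [← hd _ (HilbPoly.isCoh_tensorMod hF (isInvertible_tw r _)),
      ← subsingleton_ext_tensor_iff (tw r (m : ℤ)) (tw r (-(m : ℤ))) (isInverseOf_tw r _) (isInverseOf_tw' r _) F ω j]
    obtain ⟨e⟩ := hd₀ m hm
    obtain ⟨β⟩ := nonempty_extX_twist F (tw r (m : ℤ)) (tw r (-(m : ℤ))) (isInverseOf_tw r _)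
      (isInverseOf_tw' r _) j ω
    rw [e.toEquiv.subsingleton_congr]
    exact ⟨fun h => CohVanish.subsingleton_HH_of_iso β 0 (h := h),
      fun h => CohVanish.subsingleton_HH_of_iso β.symm 0 (h := h)⟩
  refine ⟨fun hz => ⟨d₀, fun m hm => (key m hm).2 ?_⟩, fun ⟨m₀, h⟩ => ?_⟩
  · refine CohVanish.subsingleton_HH_of_isZero ?_ 0
    haveI := tR_additive (O := X.sheaf) (tw r (m : ℤ))
    exact Functor.map_isZero (tR (O := X.sheaf) (tw r (m : ℤ))) hz
  · refine isZero_of_subsingleton_H0_tw r _ (isCoh_extX r F ω hF hω j) (max d₀ m₀) fun m hm => ?_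
    exact (key m ((le_max_left _ _).trans hm)).1 (h m ((le_max_right _ _).trans hm))

end Closed

section Proj

attribute [local instance 10000] CommRing.toRing

variable {N : ℕ} {k : Type u} [Field k]

/-- Projective space over a field, over the field. -/
noncomputable local instance overProjV : (Proj (CohB1.polyGrading N k)).Over (Spec (CommRingCat.of k)) :=
  ⟨CohB1.ProjSpace.toSpec N k⟩

/-- Pulling back along the identity. -/
lemma nonempty_tw_id (d : ℤ) :
    Nonempty (tw (𝟙 (CohB1.ProjSpace N k)) d ≅ Twist.twistProjSpace N k d) :=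
  ⟨(Scheme.Modules.pullbackId (CohB1.ProjSpace N k)).app _⟩

/-- **The criterion on projective space.** -/
theorem isZero_extX_iff_proj [HasExt.{u} (Proj (CohB1.polyGrading N k)).Modules]
    (F : (Proj (CohB1.polyGrading N k)).Modules) (hF : Coh.IsCoh F)
    [ModSite.HasSheafHom (O := (Proj (CohB1.polyGrading N k)).sheaf) F]
    [HasInjectiveResolutions (ModSite.Mod (Proj (CohB1.polyGrading N k)).sheaf)] {i j : ℕ} (hij : i + j = N) :
    IsZero ((extX F j).obj (Twist.twist (CohB1.polyGrading N k) (-((N : ℤ) + 1)))) ↔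
      ∃ m₀ : ℤ, ∀ m : ℤ, m₀ ≤ m → Subsingleton (Coh.HH (Proj (CohB1.polyGrading N k))
        (CohB1.tensorMod F (Twist.twist (CohB1.polyGrading N k) (-m))) i) := by
  obtain ⟨t, -, D⟩ := exists_dualData (n := N) (k := k)
  have hd : ∀ G : (Proj (CohB1.polyGrading N k)).Modules, Coh.IsCoh G →
      (Subsingleton (Ext.{u} G (Twist.twist (CohB1.polyGrading N k) (-((N : ℤ) + 1))) j) ↔
        Subsingleton (Coh.HH (Proj (CohB1.polyGrading N k)) G i)) := fun G hG => by
    rw [(LinearEquiv.ofBijective _ (bijective_theta D j G hG hij)).toEquiv.subsingleton_congr]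
    exact ⟨fun _ => Module.subsingleton_dual_iff (K := k).1 ‹_›, fun _ => inferInstance⟩
  have heq : ∀ m : ℤ, Subsingleton (Coh.HH (Proj (CohB1.polyGrading N k))
        (CohB1.tensorMod F (tw (X := Proj (CohB1.polyGrading N k)) (𝟙 (CohB1.ProjSpace N k)) (-m))) i) ↔
      Subsingleton (Coh.HH (Proj (CohB1.polyGrading N k))
        (CohB1.tensorMod F (Twist.twist (CohB1.polyGrading N k) (-m))) i) := fun m => by
    obtain ⟨e⟩ := nonempty_tw_id (N := N) (k := k) (-m)
    obtain ⟨e'⟩ := ProjTwist.nonempty_tensorMod_iso (Iso.refl F) e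
    exact ⟨fun h => CohVanish.subsingleton_HH_of_iso e' i (h := h),
      fun h => CohVanish.subsingleton_HH_of_iso e'.symm i (h := h)⟩
  haveI : IsClosedImmersion (X := Proj (CohB1.polyGrading N k)) (Y := CohB1.ProjSpace N k) (𝟙 (CohB1.ProjSpace N k)) :=
    inferInstanceAs (IsClosedImmersion (𝟙 (Proj (CohB1.polyGrading N k))))
  rw [isZero_extX_iff_vanish (X := Proj (CohB1.polyGrading N k)) (𝟙 (CohB1.ProjSpace N k)) _
    (ProjCoh.isCoh_twist_self _) F hF j i hd]
  refine ⟨fun ⟨m₀, h⟩ => ⟨m₀, fun m hm => ?_⟩, fun ⟨m₀, h⟩ => ⟨m₀.toNat, fun m hm => ?_⟩⟩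
  · obtain ⟨m, rfl⟩ := Int.eq_ofNat_of_zero_le ((Int.natCast_nonneg m₀).trans hm)
    exact (heq m).1 (h m (by exact_mod_cast hm))
  · exact (heq m).2 (h m ((Int.self_le_toNat m₀).trans (by exact_mod_cast hm)))

end Proj

end Groth.Agent.CohDual

namespace Groth.Agent.CohDual

open Groth.Agent.ModGroth

/-- The stalk of an invertible module is the local ring. -/
theorem nonempty_stalk_invertible {X : Scheme.{u}} {L : X.Modules} (hL : PicF.IsInvertible L) (x : X) :
    Nonempty (X.presheaf.stalk x ≃ₗ[X.presheaf.stalk x] L.presheaf.stalk x) := by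
  obtain ⟨U, hx, ℓ, hℓ⟩ := InvBasic.exists_isBasis hL x
  exact ⟨LinearEquiv.ofBijective (LinearMap.toSpanSingleton _ _ (L.presheaf.germ U x hx ℓ))
    (hℓ.stalk_bijective hx)⟩

/-- An Ext sheaf out of a coherent module into an invertible one vanishes iff the `Ext` of the stalks into the
local rings do. -/
theorem isZero_extX_iff_stalks {X : Scheme.{u}} [IsLocallyNoetherian X] (F L : X.Modules) (hF : Coh.IsCoh F)
    (hL : PicF.IsInvertible L) [ModSite.HasSheafHom (O := X.sheaf) F]
    [HasInjectiveResolutions (ModSite.Mod X.sheaf)] (j : ℕ) :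
    IsZero ((extX F j).obj L) ↔ ∀ x : X, Subsingleton (Abelian.Ext
      (ModuleCat.of (X.presheaf.stalk x) (F.presheaf.stalk x))
      (ModuleCat.of (X.presheaf.stalk x) (X.presheaf.stalk x)) j) := by
  have key : ∀ x : X, Nonempty ((DerSch.stalkFunctor X x).obj ((extX F j).obj L) ≅
      ModuleCat.of (X.presheaf.stalk x) (Abelian.Ext (ModuleCat.of (X.presheaf.stalk x) (F.presheaf.stalk x))
        (ModuleCat.of (X.presheaf.stalk x) (X.presheaf.stalk x)) j)) := fun x => by
    obtain ⟨e⟩ := nonempty_stalk_extSh F hF L x j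
    obtain ⟨u⟩ := nonempty_stalk_invertible hL x
    obtain ⟨c⟩ := nonempty_extCongr (Iso.refl (ModuleCat.of (X.presheaf.stalk x) (F.presheaf.stalk x)))
      (u.symm.toModuleIso : ModuleCat.of (X.presheaf.stalk x) (L.presheaf.stalk x) ≅
        ModuleCat.of (X.presheaf.stalk x) (X.presheaf.stalk x)) j
    exact ⟨e ≪≫ c.toModuleIso⟩
  refine ⟨fun hz x => ?_, fun h => Stalk.isZero_of_stalks fun x => ?_⟩
  · obtain ⟨e⟩ := key x
    exact ModuleCat.subsingleton_of_isZero ((Stalk.isZero_stalk x hz).of_iso e.symm)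
  · obtain ⟨e⟩ := key x
    haveI := h x
    exact (ModuleCat.isZero_of_subsingleton _).of_iso e

end Groth.Agent.CohDual
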