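import Groth.Agent.CohDual.StalkPrime
import Groth.Agent.CohDual.ExtShVanish
import Groth.Agent.NegVanish.Syzygy
import Groth.Agent.DepthLib.Ext
import Groth.Agent.DepthLib.Localization
import Groth.Agent.LocCohLib.ExtVanishing
import Groth.Agent.DepthLib.RegularLocal
import Groth.Agent.ModGroth.PushStalk
import Groth.Agent.CohFinite.Generic
import Groth.Agent.NegVanish.Main

/-!
# Vanishing of the stalks of the Ext sheaves and depth
-/

set_option autoImplicit false
set_option linter.style.haveILetI false

universe u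

open CategoryTheory CategoryTheory.Limits CategoryTheory.Abelian AlgebraicGeometry

namespace Groth.Agent.CohDual.StalkExtVanish

open Groth.Agent.ModGroth

section Ring

variable {A : Type u} [CommRing A]

/-- `Ext` into a finite free module vanishes with `Ext` into the ring. -/
theorem subsingleton_ext_free (N : ModuleCat.{u} A) (P : Type u) [AddCommGroup P] [Module A P]
    [Module.Free A P] [Module.Finite A P] (i : ℕ) [Subsingleton (Ext N (ModuleCat.of A A) i)] :
    Subsingleton (Ext N (ModuleCat.of A P) i) := by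
  let b := Module.Free.chooseBasis A P
  refine subsingleton_of_forall_eq 0 fun z => ?_
  have hid : 𝟙 (ModuleCat.of A P) = ∑ l, ModuleCat.ofHom (X := P) (Y := A) (b.coord l) ≫
      ModuleCat.ofHom (X := A) (Y := P) (LinearMap.toSpanSingleton A P (b l)) :=
    ModuleCat.hom_ext (LinearMap.ext fun m => by
      simp [ModuleCat.hom_sum, b.sum_repr m])
  rw [← Ext.comp_mk₀_id z, hid, Ext.mk₀_sum, Ext.comp_sum]
  refine Finset.sum_eq_zero fun l _ => ?_
  rw [← Ext.mk₀_comp_mk₀, ← Ext.comp_assoc_of_second_deg_zero,
    Subsingleton.elim (z.comp (Ext.mk₀ (ModuleCat.ofHom (X := P) (Y := A) (b.coord l))) (add_zero i)) 0,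
    Ext.zero_comp]

/-- A finite free module over a Noetherian local ring is at least as deep as the ring. -/
theorem depth_le_depth_free [IsNoetherianRing A] [IsLocalRing A] (P : Type u) [AddCommGroup P] [Module A P]
    [Module.Free A P] [Module.Finite A P] : LocCoh.depth A A ≤ LocCoh.depth A P := by
  refine ENat.forall_natCast_le_iff_le.mp fun n hn => ?_
  refine (DepthLib.natCast_le_idealDepth_iff_ext _ P n).2 fun i hi => ?_
  haveI := (DepthLib.natCast_le_idealDepth_iff_ext _ A n).1 hn i hi
  exact subsingleton_ext_free _ P i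

end Ring

variable {X : Scheme.{u}}

/-- An Ext sheaf vanishes iff the `Ext` of the stalks do. -/
theorem isZero_extX_iff [IsLocallyNoetherian X] (G F : X.Modules) (hG : Coh.IsCoh G)
    [ModSite.HasSheafHom (O := X.sheaf) G] [HasInjectiveResolutions (ModSite.Mod X.sheaf)] (j : ℕ) :
    IsZero ((extX G j).obj F) ↔ ∀ x : X, Subsingleton (Ext
      (ModuleCat.of (X.presheaf.stalk x) (G.presheaf.stalk x))
      (ModuleCat.of (X.presheaf.stalk x) (F.presheaf.stalk x)) j) := by
  refine ⟨fun hz x => ?_, fun h => Stalk.isZero_of_stalks fun x => ?_⟩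
  · obtain ⟨e⟩ := nonempty_stalk_extSh G hG F x j
    exact ModuleCat.subsingleton_of_isZero ((Stalk.isZero_stalk x hz).of_iso e.symm)
  · obtain ⟨e⟩ := nonempty_stalk_extSh G hG F x j
    haveI := h x
    exact (ModuleCat.isZero_of_subsingleton _).of_iso e

/-- Depth at the generisations in the support gives vanishing of `Ext` of stalks. -/
theorem subsingleton_ext_of_depth [IsLocallyNoetherian X] (G F : X.Modules) (hG : Coh.IsCoh G) (hF : Coh.IsCoh F)
    (x : X) (n : ℕ) (h : ∀ y : X, y ⤳ x → y ∈ CohB1.support G →
      (n : ℕ∞) ≤ LocCoh.depth (X.presheaf.stalk y) (F.presheaf.stalk y)) {i : ℕ} (hi : i < n) :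
    Subsingleton (Ext (ModuleCat.of (X.presheaf.stalk x) (G.presheaf.stalk x))
      (ModuleCat.of (X.presheaf.stalk x) (F.presheaf.stalk x)) i) := by
  haveI := NegVanish.finite_stalk hG x
  haveI := NegVanish.finite_stalk hF x
  haveI := hF.1
  haveI := hG.1
  let I := Module.annihilator (X.presheaf.stalk x) (G.presheaf.stalk x)
  have hd : (n : ℕ∞) ≤ LocCoh.idealDepth I (F.presheaf.stalk x) := by
    refine DepthLib.natCast_le_idealDepth_iff_forall_localization.2 fun q _ hq => ?_
    obtain ⟨y, hyx, -, hall⟩ := StalkPrime.exists_point_of_prime x ⟨q, inferInstance⟩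
    obtain ⟨-, hdep⟩ := hall F
    obtain ⟨hsupp, -⟩ := hall G
    exact (h y hyx (hsupp.1 (by rw [Module.support_eq_zeroLocus]; exact hq))).trans hdep.ge
  exact DepthLib.subsingleton_ext_of_lt_idealDepth (I := I)
    (by rw [Module.support_eq_zeroLocus]) ((Nat.cast_lt.2 hi).trans_le hd)

/-- A finite locally free module is as deep as the regular local rings. -/
theorem natCast_le_depth_stalk_finLocFree [IsLocallyNoetherian X] {F : X.Modules} (hF : FlatMod.IsFinLocFree F)
    (x : X) [IsRegularLocalRing (X.presheaf.stalk x)] {n : ℕ}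
    (hn : (n : WithBot ℕ∞) ≤ ringKrullDim (X.presheaf.stalk x)) :
    (n : ℕ∞) ≤ LocCoh.depth (X.presheaf.stalk x) (F.presheaf.stalk x) := by
  haveI : Module.Flat (X.presheaf.stalk x) (F.presheaf.stalk x) := Perf.isFlat_of_isFinLocFree hF x
  haveI : Module.Finite (X.presheaf.stalk x) (F.presheaf.stalk x) :=
    NegVanish.finite_stalk (DCohPerf.isCoh_finLocFree hF) x
  haveI : Module.Free (X.presheaf.stalk x) (F.presheaf.stalk x) := Module.free_of_flat_of_isLocalRing
  haveI := DepthLib.isCohenMacaulayLocalRing_of_isRegularLocalRing (X.presheaf.stalk x)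
  refine le_trans ?_ (depth_le_depth_free (F.presheaf.stalk x))
  rw [DepthLib.ringKrullDim_eq_depth (R := X.presheaf.stalk x)] at hn
  exact WithBot.coe_le_coe.1 hn

/-- Codimension of the support gives vanishing of `Ext` of stalks into locally free modules. -/
theorem subsingleton_ext_of_codim [IsLocallyNoetherian X] (G F : X.Modules) (hG : Coh.IsCoh G)
    (hF : FlatMod.IsFinLocFree F) (x : X) (c : ℕ)
    (hreg : ∀ y : X, y ⤳ x → y ∈ CohB1.support G → IsRegularLocalRing (X.presheaf.stalk y))
    (h : ∀ y : X, y ⤳ x → y ∈ CohB1.support G → (c : WithBot ℕ∞) ≤ ringKrullDim (X.presheaf.stalk y))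
    {i : ℕ} (hi : i < c) :
    Subsingleton (Ext (ModuleCat.of (X.presheaf.stalk x) (G.presheaf.stalk x))
      (ModuleCat.of (X.presheaf.stalk x) (F.presheaf.stalk x)) i) :=
  subsingleton_ext_of_depth G F hG (DCohPerf.isCoh_finLocFree hF) x c (fun y hyx hy =>
    haveI := hreg y hyx hy
    natCast_le_depth_stalk_finLocFree hF y (h y hyx hy)) hi

/-- Vanishing of `Ext` of stalks bounds the depth on the support. -/
theorem natCast_le_depth_of_ext [IsLocallyNoetherian X] (G F : X.Modules) (hG : Coh.IsCoh G) (hF : Coh.IsCoh F)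
    (x : X) (hx : x ∈ CohB1.support G) (n : ℕ)
    (h : ∀ i < n, Subsingleton (Ext (ModuleCat.of (X.presheaf.stalk x) (G.presheaf.stalk x))
      (ModuleCat.of (X.presheaf.stalk x) (F.presheaf.stalk x)) i)) :
    (n : ℕ∞) ≤ LocCoh.depth (X.presheaf.stalk x) (F.presheaf.stalk x) := by
  haveI := NegVanish.finite_stalk hG x
  haveI := NegVanish.finite_stalk hF x
  haveI : Nontrivial (G.presheaf.stalk x) := not_subsingleton_iff_nontrivial.1 hx
  let A := X.presheaf.stalk x
  let I := Module.annihilator A (G.presheaf.stalk x)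
  have hI : I ≤ IsLocalRing.maximalIdeal A := IsLocalRing.le_maximalIdeal fun e => by
    have : (1 : A) ∈ I := e ▸ Submodule.mem_top
    obtain ⟨a, ha⟩ := exists_ne (0 : G.presheaf.stalk x)
    exact ha ((one_smul A a).symm.trans (Module.mem_annihilator.1 this a))
  refine le_trans ?_ (DepthLib.idealDepth_mono hI)
  refine (LocCohLib.natCast_le_idealDepth_iff_vanishing I _ n).2 ?_
  exact LocCohLib.subsingleton_of_ext_vanishing n _ (ModuleCat.of A (G.presheaf.stalk x))
    Module.support_eq_zeroLocus h

/-- The structure module of a closed subscheme is supported on it. -/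
theorem support_push_structureModule {Z : Scheme.{u}} (i : Z ⟶ X) [IsClosedImmersion i] :
    CohB1.support ((Scheme.Modules.pushforward i).obj (Coh.structureModule Z)) = Set.range i.base := by
  refine Set.Subset.antisymm (CohFinite.support_pushforward_subset i _) ?_
  rintro _ ⟨z, rfl⟩ hs
  obtain ⟨e⟩ := nonempty_stalk_invertible (NegVanish.isInvertible_structureModule' (X := Z)) z
  haveI : Subsingleton ((Coh.structureModule Z).presheaf.stalk z) :=
    @Function.Surjective.subsingleton _ _ _ hs
      (PushStalk.spHom_bijective i i.isClosedEmbedding.isEmbedding.isInducing z (Coh.structureModule Z)).2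
  exact zero_ne_one (e.injective (Subsingleton.elim (e 0) (e 1)))

/-- Every closed subset supports a coherent module. -/
theorem exists_isCoh_support_eq [IsLocallyNoetherian X] (U : X.Opens) :
    ∃ G : X.Modules, Coh.IsCoh G ∧ CohB1.support G = (U : Set X)ᶜ := by
  let I := Scheme.IdealSheafData.vanishingIdeal (⟨(U : Set X)ᶜ, U.2.isClosed_compl⟩ : TopologicalSpace.Closeds X)
  refine ⟨(Scheme.Modules.pushforward I.subschemeι).obj (Coh.structureModule I.subscheme),
    QCohLib.isCoh_pushforward I.subschemeι (InvPow.isCoh_of_isInvertible NegVanish.isInvertible_structureModule'), ?_⟩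
  rw [support_push_structureModule, Scheme.IdealSheafData.range_subschemeι,
    Scheme.IdealSheafData.coe_support_vanishingIdeal]
  rfl

end Groth.Agent.CohDual.StalkExtVanish
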