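import Mathlib.CategoryTheory.Abelian.RightDerived
import Mathlib.Algebra.Homology.HomologySequence
import Mathlib.Algebra.Homology.HomologicalComplexAbelian
import Mathlib.CategoryTheory.Abelian.Exact

/-!
# The long exact sequence of right derived functors of a short exact sequence of functors

Only exactness at the injective objects is assumed.
-/

set_option autoImplicit false
set_option linter.style.haveILetI false

open CategoryTheory CategoryTheory.Limits

namespace Groth.Agent.CohDual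

universe v v' w w'

variable {A : Type w} [Category.{v} A] [Abelian A] [HasInjectiveResolutions A]
  {B : Type w'} [Category.{v'} B] [Abelian B]
  {F₁ F₂ F₃ : A ⥤ B} [F₁.Additive] [F₂.Additive] [F₃.Additive]

/-- Composites of morphisms differing by isomorphisms. -/
lemma exact_conj {x₁ x₂ x₃ y₁ y₂ y₃ : B} (e₁ : x₁ ≅ y₁) (e₂ : x₂ ≅ y₂) (e₃ : x₃ ≅ y₃) {f : x₁ ⟶ x₂}
    {g : x₂ ⟶ x₃} {f' : y₁ ⟶ y₂} {g' : y₂ ⟶ y₃} (hf : f = e₁.hom ≫ f' ≫ e₂.inv) (hg : g = e₂.hom ≫ g' ≫ e₃.inv)
    (w' : f' ≫ g' = 0) (h : (ShortComplex.mk f' g' w').Exact) :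
    ∃ w : f ≫ g = 0, (ShortComplex.mk f g w).Exact := by
  subst hf hg
  refine ⟨by simp [reassoc_of% w'], ShortComplex.exact_of_iso
    (ShortComplex.isoMk e₁.symm e₂.symm e₃.symm ?_ ?_) h⟩
  · simp
  · simp

/-- **The long exact sequence.** -/
theorem exists_rightDerived_seq (a : F₁ ⟶ F₂) (b : F₂ ⟶ F₃) (w : ∀ X, a.app X ≫ b.app X = 0)
    (hI : ∀ I, Injective I → (ShortComplex.mk (a.app I) (b.app I) (w I)).ShortExact) (G : A) :
    Mono ((NatTrans.rightDerived a 0).app G) ∧
    (∀ p : ℕ, ∃ w : (NatTrans.rightDerived a p).app G ≫ (NatTrans.rightDerived b p).app G = 0,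
      (ShortComplex.mk _ _ w).Exact) ∧
    ∃ δ : ∀ p : ℕ, (F₃.rightDerived p).obj G ⟶ (F₁.rightDerived (p + 1)).obj G,
      ∀ p : ℕ,
        (∃ w : (NatTrans.rightDerived b p).app G ≫ δ p = 0, (ShortComplex.mk _ _ w).Exact) ∧
        (∃ w : δ p ≫ (NatTrans.rightDerived a (p + 1)).app G = 0, (ShortComplex.mk _ _ w).Exact) := by
  let P := injectiveResolution G
  let c := ComplexShape.up ℕ
  let α := (NatTrans.mapHomologicalComplex a c).app P.cocomplex
  let β := (NatTrans.mapHomologicalComplex b c).app P.cocomplex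
  let S : ShortComplex (HomologicalComplex B c) :=
    ShortComplex.mk α β (HomologicalComplex.hom_ext _ _ fun j => w (P.cocomplex.X j))
  have hS : S.ShortExact := HomologicalComplex.shortExact_of_degreewise_shortExact S fun j =>
    hI (P.cocomplex.X j) (P.injective j)
  have ea := fun n => P.rightDerived_app_eq a n
  have eb := fun n => P.rightDerived_app_eq b n
  refine ⟨?_, fun p => exact_conj _ _ _ (ea p) (eb p) _ (hS.homology_exact₂ p),
    fun p => (P.isoRightDerivedObj F₃ p).hom ≫ hS.δ p (p + 1) rfl ≫ (P.isoRightDerivedObj F₁ (p + 1)).inv,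
    fun p => ⟨exact_conj _ _ _ (eb p) rfl _ (hS.homology_exact₃ p (p + 1) rfl),
      exact_conj _ _ _ rfl (ea (p + 1)) _ (hS.homology_exact₁ p (p + 1) rfl)⟩⟩
  haveI : Mono (HomologicalComplex.cyclesMap S.f 0) := by
    haveI : ∀ j, Mono (S.f.f j) := fun j => (hI (P.cocomplex.X j) (P.injective j)).mono_f
    infer_instance
  haveI : Mono (HomologicalComplex.homologyMap S.f 0) := by
    haveI : IsIso (S.X₁.homologyπ 0) := S.X₁.isIso_homologyπ _ 0 rfl (S.X₁.shape _ _ (by simp [c]))
    haveI : IsIso (S.X₂.homologyπ 0) := S.X₂.isIso_homologyπ _ 0 rfl (S.X₂.shape _ _ (by simp [c]))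
    have e : HomologicalComplex.homologyMap S.f 0 =
        inv (S.X₁.homologyπ 0) ≫ HomologicalComplex.cyclesMap S.f 0 ≫ S.X₂.homologyπ 0 := by
      rw [← HomologicalComplex.homologyπ_naturality, IsIso.inv_hom_id_assoc]
    rw [e]
    infer_instance
  rw [ea 0]
  exact mono_comp' inferInstance (mono_comp' ‹_› inferInstance)

end Groth.Agent.CohDual
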