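import Mathlib
import Groth.Agent.LocalDim.Basic
import Groth.Agent.LocalDim.Affine
import Groth.Agent.GrpdDim.Equidim
import Groth.Agent.DimTrdeg.Scheme

/-!
# `dim O_y + dim closure{y}` on equidimensional schemes over a field
-/

set_option autoImplicit false
universe u

open CategoryTheory Limits AlgebraicGeometry

namespace Groth.Agent.CohDual.DimFormula

variable {k : Type u} [Field k] {X : Scheme.{u}}

/-- `dim O_y + dim closure{y}` is the dimension of a component through `y`. -/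
theorem exists_dim_eq (f : X ⟶ Spec (CommRingCat.of k)) [LocallyOfFiniteType f] (y : X) :
    ∃ h a n : ℕ, ringKrullDim (X.presheaf.stalk y) = h ∧ topologicalKrullDim (closure ({y} : Set X)) = a ∧
      h + a = n ∧ (∃ η : X, η ⤳ y ∧ (∀ η', η' ⤳ η → η' = η) ∧ topologicalKrullDim (closure ({η} : Set X)) = n) := by
  obtain ⟨U, hU, hyU, -⟩ := exists_isAffineOpen_mem_and_subset (X := X) (x := y) (U := ⊤) trivial
  obtain ⟨ψ, hψ⟩ := Spec.map_surjective (R := CommRingCat.of k) (hU.fromSpec ≫ f)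
  let : Algebra k Γ(X, U) := ψ.hom.toAlgebra
  have : Algebra.FiniteType k Γ(X, U) :=
    RingHom.finiteType_algebraMap.mp ((HasRingHomProperty.Spec_iff (P := @LocallyOfFiniteType)).mp (hψ ▸ inferInstance))
  let p := hU.primeIdealOf ⟨y, hyU⟩
  let := (X.presheaf.germ U y hyU).hom.toAlgebra
  have := hU.isLocalization_stalk ⟨y, hyU⟩
  obtain ⟨n, hn, ⟨η, hη, hmax, hηn⟩, -⟩ := LocalDim.exists_localDim f y
  obtain ⟨a, -, ha⟩ := DimTrdeg.exists_dim_closure_eq_trdeg f y
  have hq : ringKrullDim (Γ(X, U) ⧸ p.asIdeal) = a := by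
    rw [← DimTrdeg.topologicalKrullDim_closure_inter, ← ha, show y = hU.fromSpec p from (hU.fromSpec_primeIdealOf ⟨y, hyU⟩).symm,
      FibDim.dim_closure_openImmersion hU.fromSpec f]
  have h1 := LocalDim.localDim_eq k p.asIdeal
  rw [show FlatMor.localDim (PrimeSpectrum Γ(X, U)) ⟨p.asIdeal, inferInstance⟩ = (n : WithBot ℕ∞) from
      (LocalDim.localDim_openEmbedding hU.fromSpec.isOpenEmbedding _).trans
        ((congrArg (FlatMor.localDim X) (hU.fromSpec_primeIdealOf ⟨y, hyU⟩)).trans hn), hq] at h1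
  haveI : IsNoetherianRing Γ(X, U) := Algebra.FiniteType.isNoetherianRing k _
  obtain ⟨h, hh⟩ := ENat.ne_top_iff_exists.1 (Ideal.height_ne_top (I := p.asIdeal) (Ideal.IsPrime.ne_top inferInstance))
  refine ⟨h, a, n, ?_, ha, ?_, η, hη, fun η' h' => hmax η' h', hηn⟩
  · rw [IsLocalization.AtPrime.ringKrullDim_eq_height p.asIdeal (X.presheaf.stalk y), ← hh]
    rfl
  · rw [← hh] at h1
    exact_mod_cast h1.symm

/-- On an equidimensional scheme, small closures have big local rings. -/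
theorem natCast_le_ringKrullDim (f : X ⟶ Spec (CommRingCat.of k)) [LocallyOfFiniteType f] (n : ℕ)
    (heq : ∀ η : X, (∀ η', η' ⤳ η → η' = η) → topologicalKrullDim (closure ({η} : Set X)) = n)
    (y : X) (c : ℕ) (h : topologicalKrullDim (closure ({y} : Set X)) + (c : WithBot ℕ∞) ≤ n) :
    (c : WithBot ℕ∞) ≤ ringKrullDim (X.presheaf.stalk y) := by
  obtain ⟨hh, a, n', hh', ha, hsum, η, -, hη, hηn⟩ := exists_dim_eq f y
  rw [heq η hη, Nat.cast_inj] at hηn
  subst hηn
  rw [ha, ← Nat.cast_add, Nat.cast_le] at h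
  rw [hh', Nat.cast_le]
  omega

end Groth.Agent.CohDual.DimFormula
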