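import Groth.Agent.CohDual.RangeDuality
import Groth.Agent.EtMV.ExtAdj

/-!
# Duality on projective schemes: twisted locally free modules, degrees above the dimension
-/

set_option autoImplicit false
set_option linter.style.haveILetI false

universe u

open CategoryTheory CategoryTheory.Limits CategoryTheory.Abelian AlgebraicGeometry

namespace Groth.Agent.CohDual

open Groth.Agent.ModGroth Groth.Agent.SSExist

attribute [local instance] Abelian.hasFiniteBiproducts

section Adj

variable {X : Scheme.{u}} [HasExt.{u} X.Modules]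

/-- `Ext` out of a twist is `Ext` into the inverse twist, in the form of vanishing. -/
theorem subsingleton_ext_tensor (L L' : X.Modules)
    (hLL' : Nonempty (CohB1.tensorMod L L' ≅ Coh.structureModule X))
    (hL'L : Nonempty (CohB1.tensorMod L' L ≅ Coh.structureModule X)) (F M : X.Modules) (i : ℕ)
    (h : Subsingleton (Ext.{u} F (CohB1.tensorMod M L) i)) :
    Subsingleton (Ext.{u} (CohB1.tensorMod F L') M i) := by
  obtain ⟨eAB⟩ := hLL'
  obtain ⟨eBA⟩ := hL'L
  let u0 : unitObj X.sheaf ≅ ModSite.unit X.sheaf :=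
    haveI : IsIso (adjn X.sheaf).counit :=
      inferInstanceAs (IsIso (PresheafOfModules.sheafificationAdjunction (𝟙 (ModSite.ringSh X.sheaf).obj)).counit)
    (asIso (adjn X.sheaf).counit).app (ModSite.unit X.sheaf)
  haveI : HasExt.{u} (ModSite.Mod X.sheaf) := inferInstanceAs (HasExt.{u} X.Modules)
  haveI : IsGrothendieckAbelian.{u} (ModSite.Mod X.sheaf) := sheaf_isGrothendieckAbelian (ModSite.ringSh X.sheaf)
  let e := ProjCoh.tensorEquivalence (O := X.sheaf) L L' (eAB ≪≫ u0.symm) (eBA ≪≫ u0.symm)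
  haveI : (tR (O := X.sheaf) L').IsEquivalence := e.isEquivalence_functor
  haveI : (tR (O := X.sheaf) L).IsEquivalence := e.isEquivalence_inverse
  haveI := tR_additive (O := X.sheaf) L
  have hbij := EtMV.Φ_bijective (L := tR (O := X.sheaf) L') (R := tR (O := X.sheaf) L) e.toAdjunction F M i
  haveI : Subsingleton (Ext.{u} (C := ModSite.Mod X.sheaf) F ((tR (O := X.sheaf) L).obj M) i) := h
  exact hbij.1.subsingleton

end Adj

variable {n : ℕ} {k : Type u} [Field k] {X : Scheme.{u}} [X.Over (Spec (CommRingCat.of k))]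
  (r : X ⟶ CohB1.ProjSpace n k) [IsClosedImmersion r] [HasExt.{u} X.Modules]

include r in
/-- `Ext^{>0}(F(-m), ω) = 0` for `m ≫ 0`, `F` finite locally free. -/
theorem exists_ext_locFree_tw_vanishing (F ω : X.Modules) (hF : FlatMod.IsFinLocFree F) (hω : Coh.IsCoh ω) :
    ∃ m₀ : ℕ, ∀ m : ℕ, m₀ ≤ m → ∀ i, 0 < i →
      Subsingleton (Ext.{u} (CohB1.tensorMod F (tw r (-(m : ℤ)))) ω i) := by
  haveI : ModSite.HasSheafHom (O := X.sheaf) F := hasSheafHom (O := X.sheaf) F
  haveI : IsGrothendieckAbelian.{u} X.Modules := sheaf_isGrothendieckAbelian X.ringCatSheaf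
  haveI : HasInjectiveResolutions (ModSite.Mod X.sheaf) :=
    (inferInstance : HasInjectiveResolutions X.Modules)
  haveI : IsLocallyNoetherian X := isLocallyNoetherian_closed r
  haveI : (homX F).IsRightAdjoint := (ModSite.sheafHomAdj (O := X.sheaf) F).isRightAdjoint
  haveI : (homX F).Additive :=
    haveI := preservesBinaryBiproducts_of_preservesBinaryProducts (homX F)
    Functor.additive_of_preservesBinaryBiproducts _
  haveI : PreservesFiniteLimits (homX F) :=
    haveI : PreservesLimitsOfSize.{0, 0} (homX F) := (ModSite.sheafHomAdj (O := X.sheaf) F).rightAdjoint_preservesLimits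
    PreservesLimitsOfSize.preservesFiniteLimits _
  have hh : Coh.IsCoh ((homX F).obj ω) :=
    QCohLib.isCoh_of_iso ((homX F).rightDerivedZeroIsoSelf.app ω)
      (isCoh_extX r F ω (DCohPerf.isCoh_finLocFree hF) hω 0)
  obtain ⟨m₀, hm₀⟩ := exists_vanishing_closed r _ hh
  refine ⟨m₀, fun m hm i hi => subsingleton_ext_tensor (tw r (m : ℤ)) (tw r (-(m : ℤ))) (isInverseOf_tw r _)
    (isInverseOf_tw' r _) F ω i ?_⟩
  obtain ⟨e⟩ := nonempty_ext_linearEquiv_HH (A := k) F hF (CohB1.tensorMod ω (tw r (m : ℤ))) i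
  obtain ⟨β⟩ := nonempty_extX_twist F (tw r (m : ℤ)) (tw r (-(m : ℤ))) (isInverseOf_tw r _) (isInverseOf_tw' r _) 0 ω
  obtain ⟨eT⟩ := ProjTwist.nonempty_tensorMod_iso ((homX F).rightDerivedZeroIsoSelf.app ω) (Iso.refl (tw r (m : ℤ)))
  let e' : (homX F).obj (CohB1.tensorMod ω (tw r (m : ℤ))) ≅ CohB1.tensorMod ((homX F).obj ω) (tw r (m : ℤ)) :=
    ((homX F).rightDerivedZeroIsoSelf.app _).symm ≪≫ β ≪≫ eT
  haveI : Subsingleton (Coh.HH X ((homX F).obj (CohB1.tensorMod ω (tw r (m : ℤ)))) i) :=
    CohVanish.subsingleton_HH_of_iso e'.symm i (h := hm₀ m hm i hi)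
  exact e.injective.subsingleton

include r in
/-- `Ext^i(F, ω) = 0` above the dimension, when the twists have no lower cohomology. -/
theorem subsingleton_ext_of_gt (d : ℕ) (ω : X.Modules) (hωc : Coh.IsCoh ω) (t : Coh.HH X ω d →ₗ[k] k)
    (ht : ∀ F : X.Modules, Coh.IsCoh F → ∀ ψ : Coh.HH X F d →ₗ[k] k, ∃! φ : F ⟶ ω, ∀ x : Coh.HH X F d,
      ψ x = t (Sheaf.H.map ((SheafOfModules.toSheaf X.ringCatSheaf).map φ) d x))
    (hvan : ∀ p, p < d → ∃ m₀ : ℤ, ∀ m : ℤ, m₀ ≤ m → Subsingleton (Coh.HH X (tw r (-m)) p)) (a : ℕ) :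
    ∀ F : X.Modules, Coh.IsCoh F → Subsingleton (Ext.{u} F ω (d + a + 1)) := by
  haveI := isLocallyNoetherian_closed r
  obtain ⟨m₁, hm₁⟩ := exists_ext_tw_vanishing (A := k) r ω hωc
  induction a with
  | succ a ih =>
    intro F hF
    obtain ⟨q, c, g, hq, hg⟩ := exists_epi_tw_ge r F hF m₁
    haveI := hg
    have hL : Coh.IsCoh (⨁ fun _ : Fin c => tw r (-(q : ℤ))) :=
      CohFinite.isCoh_biproduct (InvPow.isCoh_of_isInvertible (isInvertible_tw r _)) c
    have hK : Coh.IsCoh (kernel (biproduct.desc g)) := QCohLib.isCoh_kernel _ hL hF.1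
    have hS : (ShortComplex.mk (kernel.ι (biproduct.desc g)) (biproduct.desc g) (kernel.condition _)).ShortExact :=
      { exact := ShortComplex.exact_of_f_is_kernel _ (kernelIsKernel _) }
    refine subsingleton_of_forall_eq 0 fun x => ?_
    haveI := ih _ hK
    haveI := ProjCoh.subsingleton_ext_biproduct ω (fun _ : Fin c => tw r (-(q : ℤ))) (d + a + 1 + 1)
      fun _ => hm₁ q hq _ (by omega)
    obtain ⟨z, hz⟩ := Ext.contravariant_sequence_exact₃ hS ω x (Subsingleton.elim _ _)
      (show 1 + (d + a + 1) = d + (a + 1) + 1 by omega)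
    rw [← hz, Subsingleton.elim z 0, Ext.comp_zero]
  | zero =>
    intro F hF
    choose b hb using hvan
    let B : ℕ := max m₁ ((Finset.range d).sup fun p => if h : p < d then (b p h).toNat else 0)
    obtain ⟨q, c, g, hq, hg⟩ := exists_epi_tw_ge r F hF B
    haveI := hg
    have hL : Coh.IsCoh (⨁ fun _ : Fin c => tw r (-(q : ℤ))) :=
      CohFinite.isCoh_biproduct (InvPow.isCoh_of_isInvertible (isInvertible_tw r _)) c
    have hK : Coh.IsCoh (kernel (biproduct.desc g)) := QCohLib.isCoh_kernel _ hL hF.1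
    let S := ShortComplex.mk (kernel.ι (biproduct.desc g)) (biproduct.desc g) (kernel.condition _)
    have hS : S.ShortExact := { exact := ShortComplex.exact_of_f_is_kernel _ (kernelIsKernel _) }
    have D : RangeData t Coh.IsCoh d := by
      refine ⟨fun F hF ψ => ht F hF ψ, fun M hM => ?_⟩
      obtain ⟨q, c, g, hq, hg⟩ := exists_epi_tw_ge r M hM B
      haveI := hg
      have hL : Coh.IsCoh (⨁ fun _ : Fin c => tw r (-(q : ℤ))) :=
        CohFinite.isCoh_biproduct (InvPow.isCoh_of_isInvertible (isInvertible_tw r _)) c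
      refine ⟨_, biproduct.desc g, hg, hL, QCohLib.isCoh_kernel _ hL hM.1, fun p hp _ => ?_, fun a ha => ?_⟩
      · refine subsingleton_HH_biproduct _ p fun _ => hb p hp q ?_
        have h1 : (b p hp).toNat ≤ B := le_trans (by
          have := Finset.le_sup (f := fun p => if h : p < d then (b p h).toNat else 0) (Finset.mem_range.2 hp)
          simpa [hp] using this) (le_max_right _ _)
        exact le_trans (Int.self_le_toNat _) (by exact_mod_cast h1.trans hq)
      · exact ProjCoh.subsingleton_ext_biproduct ω (fun _ : Fin c => tw r (-(q : ℤ))) a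
          fun _ => hm₁ q ((le_max_left _ _).trans hq) a ha
    refine subsingleton_of_forall_eq 0 fun x => ?_
    haveI := ProjCoh.subsingleton_ext_biproduct ω (fun _ : Fin c => tw r (-(q : ℤ))) (d + 0 + 1)
      fun _ => hm₁ q ((le_max_left _ _).trans hq) _ (by omega)
    obtain ⟨z, hz⟩ := Ext.contravariant_sequence_exact₃ hS ω x (Subsingleton.elim _ _)
      (show 1 + d = d + 0 + 1 by omega)
    -- `H^0` of the kernel injects
    let m : Coh.HH X S.X₁ 0 →ₗ[k] Coh.HH X S.X₂ 0 :=
      { toFun := fun y => Sheaf.H.map ((QCohLib.toSh X).map S.f) 0 y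
        map_add' := fun y y' => map_add _ y y'
        map_smul' := fun a y => by
          rw [RingHom.id_apply, ← cup_mk₀, ← cup_mk₀, cup_smul_right] }
    have hminj : Function.Injective m := (injective_iff_map_eq_zero m).2 fun y hy => by
      haveI : Mono ((QCohLib.toSh X).map S.f) := (hS.map_of_exact (QCohLib.toSh X)).mono_f
      obtain ⟨φ, rfl⟩ := (Ext.mk₀_bijective _ _).2 y
      have h1 : Ext.mk₀ (φ ≫ (QCohLib.toSh X).map S.f) = 0 := by
        rw [← Ext.mk₀_comp_mk₀]
        exact hy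
      have h2 : φ ≫ (QCohLib.toSh X).map S.f = 0 := (Ext.mk₀_bijective _ _).1 (h1.trans (Ext.mk₀_zero _ _).symm)
      rw [zero_of_comp_mono _ h2, Ext.mk₀_zero]
    obtain ⟨w, hw⟩ := LinearMap.dualMap_surjective_of_injective hminj (theta t S.X₁ (zero_add d) z)
    obtain ⟨v, hv⟩ := (bijective_theta_range D d le_rfl S.X₂ hL (zero_add d)).2 w
    have e : (Ext.mk₀ S.f).comp v (zero_add d) = z :=
      (bijective_theta_range D d le_rfl S.X₁ hK (zero_add d)).1 (LinearMap.ext fun y => by
        rw [theta_natural, hv]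
        exact LinearMap.congr_fun hw y)
    rw [← hz, ← e, ShortComplex.ShortExact.extClass_comp_assoc hS]

end Groth.Agent.CohDual
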