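import Groth.Agent.CohDual.ExtTwistSh

/-!
# Vanishing of `Ext` out of very negative twists on closed subschemes of projective space
-/

set_option autoImplicit false
set_option linter.style.haveILetI false

universe u

open CategoryTheory CategoryTheory.Limits CategoryTheory.Abelian AlgebraicGeometry

namespace Groth.Agent.CohDual

open Groth.Agent.ModGroth Groth.Agent.SSExist

variable {n : ℕ} {A : Type u} [CommRing A] [IsNoetherianRing A] {X : Scheme.{u}}
  (r : X ⟶ CohB1.ProjSpace n A) [IsClosedImmersion r]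

include r in
/-- A module whose direct image is an Ext sheaf of coherent modules is coherent. -/
theorem isCoh_of_push_iso_extSh (ω : X.Modules) (G : (CohB1.ProjSpace n A).Modules) (hG : Coh.IsCoh G)
    [ModSite.HasSheafHom (O := (CohB1.ProjSpace n A).sheaf) ((Scheme.Modules.pushforward r).obj (Coh.structureModule X))]
    [HasInjectiveResolutions (ModSite.Mod (CohB1.ProjSpace n A).sheaf)] (j : ℕ)
    (hω : Nonempty ((Scheme.Modules.pushforward r).obj ω ≅
      (ModSite.extSh (O := (CohB1.ProjSpace n A).sheaf) ((Scheme.Modules.pushforward r).obj (Coh.structureModule X)) j).obj G)) :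
    Coh.IsCoh ω := by
  haveI := isLocallyNoetherian_closed r
  haveI : IsLocallyNoetherian (CohB1.ProjSpace n A) :=
    haveI := InvPow.isProper_toSpec n A
    LocallyOfFiniteType.isLocallyNoetherian (CohB1.ProjSpace.toSpec n A)
  obtain ⟨e⟩ := hω
  haveI := ClosedExt.isIso_counit r ω
  have hc : Coh.IsCoh (X := CohB1.ProjSpace n A)
      ((ModSite.extSh (O := (CohB1.ProjSpace n A).sheaf) ((Scheme.Modules.pushforward r).obj (Coh.structureModule X)) j).obj G) :=
    @isCoh_extSh_proj n A _ _ ‹_› ((Scheme.Modules.pushforward r).obj (Coh.structureModule X)) G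
      (QCohLib.isCoh_pushforward r (InvPow.isCoh_of_isInvertible (InvGlue.isInvertible_unit X))) hG ‹_› j
  exact QCohLib.isCoh_of_iso ((Scheme.Modules.pullback r).mapIso e.symm ≪≫
      asIso ((Scheme.Modules.pullbackPushforwardAdjunction r).counit.app ω))
    (QCohLib.isCoh_pullback r _ hc)

include r in
/-- `Ext^{>0}(O(-m), ω) = 0` for `m ≫ 0`. -/
theorem exists_ext_tw_vanishing [X.Over (Spec (CommRingCat.of A))] [HasExt.{u} X.Modules] (ω : X.Modules)
    (hω : Coh.IsCoh ω) :
    ∃ m₀ : ℕ, ∀ m : ℕ, m₀ ≤ m → ∀ i, 0 < i → Subsingleton (Ext.{u} (tw r (-(m : ℤ))) ω i) := by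
  obtain ⟨m₀, hm₀⟩ := exists_vanishing_closed r ω hω
  refine ⟨m₀, fun m hm i hi => ?_⟩
  haveI : ModSite.HasSheafHom (O := X.sheaf) (tw r (-(m : ℤ))) := hasSheafHom (O := X.sheaf) (tw r (-(m : ℤ)))
  obtain ⟨e⟩ := nonempty_ext_linearEquiv_HH (A := A) (tw r (-(m : ℤ)))
    (InvPow.isFinLocFree_of_isInvertible (isInvertible_tw r _)) ω i
  obtain ⟨e'⟩ := nonempty_homMod_iso_of_inverse (tw r (m : ℤ)) (tw r (-(m : ℤ))) (isInverseOf_tw r _)
    (isInverseOf_tw' r _) ω
  haveI : Subsingleton (Coh.HH X ((homX (tw r (-(m : ℤ)))).obj ω) i) :=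
    CohVanish.subsingleton_HH_of_iso e'.symm i (h := hm₀ m hm i hi)
  exact e.injective.subsingleton

end Groth.Agent.CohDual
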