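import Groth.Agent.CohDual.PushDual

/-!
# The trace of a dualizing module of a closed subscheme
-/

set_option autoImplicit false
set_option linter.style.haveILetI false

universe u

open CategoryTheory CategoryTheory.Limits CategoryTheory.Abelian AlgebraicGeometry


namespace Groth.Agent.CohDual

section Over

variable {k : Type u} [Field k] {P X : Scheme.{u}} [P.Over (Spec (CommRingCat.of k))]
  [X.Over (Spec (CommRingCat.of k))] (i : X ⟶ P) [IsClosedImmersion i] [HasExt.{u} P.Modules]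
  {ω : P.Modules} {N : ℕ} {t : Coh.HH P ω N →ₗ[k] k}

variable [EnoughInjectives P.Modules] [HasInjectiveResolutions P.Modules]
  [ModSite.HasSheafHom (O := P.sheaf) ((Scheme.Modules.pushforward i).obj (Coh.structureModule X))]

/-- **The dualizing property.** -/
theorem exists_dualizing_trace [IsLocallyNoetherian X] (D : DualData (X := P) t Coh.IsCoh) {q c : ℕ}
    (hqc : q + c = N)
    (push : ∀ M : X.Modules, Coh.IsCoh M →
      Coh.HH P ((Scheme.Modules.pushforward i).obj M) q ≃ₗ[k] Coh.HH X M q)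
    (hpush : ∀ (M M' : X.Modules) (hM : Coh.IsCoh M) (hM' : Coh.IsCoh M') (f : M ⟶ M')
      (x : Coh.HH P ((Scheme.Modules.pushforward i).obj M) q),
      push M' hM' (Sheaf.H.map ((QCohLib.toSh P).map ((Scheme.Modules.pushforward i).map f)) q x) =
        Sheaf.H.map ((QCohLib.toSh X).map f) q (push M hM x))
    (hcoh : Coh.IsCoh (X := P) (((homS i).rightDerived c).obj ω))
    (hvan : ∀ l, l < c → IsZero (((homS i).rightDerived l).obj ω))
    (ωX : X.Modules) (hω : (Scheme.Modules.pushforward i).obj ωX ≅ ((homS i).rightDerived c).obj ω) :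
    ∃ t' : Coh.HH X ωX q →ₗ[k] k, ∀ F : X.Modules, Coh.IsCoh F → ∀ ψ : Coh.HH X F q →ₗ[k] k,
      ∃! φ : F ⟶ ωX, ∀ x : Coh.HH X F q,
        ψ x = t' (Sheaf.H.map ((SheafOfModules.toSheaf X.ringCatSheaf).map φ) q x) := by
  obtain ⟨e, he⟩ := exists_ext_push_equiv i ω c hvan
  obtain ⟨Φ, hΦ⟩ := exists_ext_push_dual i D hqc push hpush
  have hωc : Coh.IsCoh ωX := QCohLib.isCoh_of_iso
    ((Scheme.Modules.pullback i).mapIso hω.symm ≪≫
      @asIso _ _ _ _ ((Scheme.Modules.pullbackPushforwardAdjunction i).counit.app ωX) (ClosedExt.isIso_counit i ωX))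
    (QCohLib.isCoh_pullback i _ hcoh)
  -- `Hom(F, ω) ≅ H^q(F)^*`
  let toExt : ∀ F : X.Modules, (F ⟶ ωX) ≃ Ext.{u} ((Scheme.Modules.pushforward i).obj F) ω c := fun F =>
    ((ClosedExt.pushFF i).homEquiv.trans (Iso.homCongr (Iso.refl _) hω)).trans (e F).symm.toEquiv
  have htoExt : ∀ (F : X.Modules) (φ : F ⟶ ωX), toExt F φ =
      (Ext.mk₀ ((Scheme.Modules.pushforward i).map φ)).comp (toExt ωX (𝟙 ωX)) (zero_add c) := fun F φ => by
    refine (e F).injective ?_
    have h1 : ∀ (G : X.Modules) (ψ : G ⟶ ωX), e G (toExt G ψ) = (Scheme.Modules.pushforward i).map ψ ≫ hω.hom :=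
      fun G ψ => ((e G).apply_symm_apply _).trans (Category.id_comp ((Scheme.Modules.pushforward i).map ψ ≫ hω.hom))
    rw [h1, he ωX F φ, h1, CategoryTheory.Functor.map_id, Category.id_comp]
  refine ⟨Φ ωX hωc (toExt ωX (𝟙 ωX)), fun F hF ψ => ?_⟩
  have key : ∀ (φ : F ⟶ ωX) (x : Coh.HH X F q), Φ F hF (toExt F φ) x =
      Φ ωX hωc (toExt ωX (𝟙 ωX)) (Sheaf.H.map ((QCohLib.toSh X).map φ) q x) := fun φ x => by
    rw [htoExt F φ, hΦ F ωX hF hωc]
  obtain ⟨φ, hφ⟩ := ((toExt F).trans (Φ F hF).toEquiv).surjective ψ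
  refine ⟨φ, fun x => ?_, fun φ' hφ' => ((toExt F).trans (Φ F hF).toEquiv).injective ?_⟩
  · rw [← hφ]
    exact key φ x
  · rw [hφ]
    exact LinearMap.ext fun x => (key φ' x).trans (hφ' x).symm

end Over

end Groth.Agent.CohDual
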