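import Mathlib
import Groth.Agent.GrpdDim.Equidim

/-!
# Local rings at closed points of an equidimensional scheme of finite type over a field
-/

set_option autoImplicit false
universe u

open CategoryTheory Limits AlgebraicGeometry

namespace Groth.Agent.CohDual

open Groth.Agent.GrpdDim

/-- At a closed point of a scheme locally of finite type over a field all of whose components have
the same dimension, the local ring has the dimension of the scheme. -/
theorem ringKrullDim_stalk_eq_of_equidim {k : Type u} [Field k] {X : Scheme.{u}}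
    (f : X ⟶ Spec (CommRingCat.of k)) [LocallyOfFiniteType f]
    (heq : ∀ η : X, (∀ η', η' ⤳ η → η' = η) → topologicalKrullDim (closure ({η} : Set X)) = topologicalKrullDim X)
    (r : X) (hr : IsClosed ({r} : Set X)) :
    (ringKrullDim (X.presheaf.stalk r) : WithBot ℕ∞) = topologicalKrullDim X := by
  refine le_antisymm ?_ ?_
  · refine le_of_eq_of_le (ringKrullDim_stalk_eq_coheight r) ?_
    let _ := specializationOrder X
    rw [show topologicalKrullDim X = Order.krullDim X from Order.krullDim_eq_of_orderIso irreducibleSetEquivPoints,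
      Order.krullDim_eq_iSup_coheight]
    exact le_iSup (fun a => (Order.coheight a : WithBot ℕ∞)) r
  obtain ⟨η, hη, hmax⟩ := exists_maximal r
  obtain ⟨U, hU, hrU, -⟩ := exists_isAffineOpen_mem_and_subset (X := X) (x := r) (U := ⊤) trivial
  have hηU : η ∈ U := hη.mem_open U.isOpen hrU
  let q := hU.primeIdealOf ⟨η, hηU⟩
  let m := hU.primeIdealOf ⟨r, hrU⟩
  obtain ⟨ψ, hψ⟩ := Spec.map_surjective (R := CommRingCat.of k) (hU.fromSpec ≫ f)
  let : Algebra k Γ(X, U) := ψ.hom.toAlgebra
  have : Algebra.FiniteType k Γ(X, U) :=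
    RingHom.finiteType_algebraMap.mp ((HasRingHomProperty.Spec_iff (P := @LocallyOfFiniteType)).mp (hψ ▸ inferInstance))
  have hm : m.asIdeal.IsMaximal := by
    refine (PrimeSpectrum.isClosed_singleton_iff_isMaximal m).mp ?_
    rw [show ({m} : Set (PrimeSpectrum Γ(X, U))) = hU.fromSpec ⁻¹' {r} from ?_]
    · exact hr.preimage hU.fromSpec.continuous
    refine Set.ext fun w => ?_
    refine ⟨fun h => h ▸ hU.fromSpec_primeIdealOf ⟨r, hrU⟩, fun h => ?_⟩
    exact hU.fromSpec.isOpenEmbedding.injective (h.trans (hU.fromSpec_primeIdealOf ⟨r, hrU⟩).symm)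
  have hle : q.asIdeal ≤ m.asIdeal := (PrimeSpectrum.le_iff_specializes q m).mpr
    (hU.fromSpec.isOpenEmbedding.isInducing.specializes_iff.mp (by
      rw [hU.fromSpec_primeIdealOf, hU.fromSpec_primeIdealOf]; exact hη))
  obtain ⟨N, hN, hN'⟩ := ComodBasic.exists_height_eq_of_isMaximal k (Γ(X, U) ⧸ q.asIdeal)
  let := (X.presheaf.germ U r hrU).hom.toAlgebra
  have := hU.isLocalization_stalk ⟨r, hrU⟩
  rw [IsLocalization.AtPrime.ringKrullDim_eq_height m.asIdeal (X.presheaf.stalk r),
    ← heq η hmax]
  refine le_of_eq_of_le ?_ (WithBot.coe_le_coe.mpr (?_ : (m.asIdeal.map (Ideal.Quotient.mk q.asIdeal)).height ≤ m.asIdeal.height))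
  · have hmax' : (m.asIdeal.map (Ideal.Quotient.mk q.asIdeal)).IsMaximal :=
      (Ideal.map_eq_top_or_isMaximal_of_surjective _ Ideal.Quotient.mk_surjective hm).resolve_left fun h => by
        have := congrArg (Ideal.comap (Ideal.Quotient.mk q.asIdeal)) h
        rw [Ideal.comap_map_of_surjective' _ Ideal.Quotient.mk_surjective, Ideal.mk_ker, sup_eq_left.2 hle,
          Ideal.comap_top] at this
        exact hm.ne_top this
    rw [hN' _ hmax']
    rw [show η = hU.fromSpec q from (hU.fromSpec_primeIdealOf ⟨η, hηU⟩).symm,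
      FibDim.dim_closure_openImmersion hU.fromSpec f,
      DimTrdeg.topologicalKrullDim_closure_inter, hN]
    rfl
  · have : (m.asIdeal.map (Ideal.Quotient.mk q.asIdeal)).IsPrime :=
      Ideal.map_isPrime_of_surjective Ideal.Quotient.mk_surjective (Ideal.mk_ker.trans_le hle)
    let M : PrimeSpectrum (Γ(X, U) ⧸ q.asIdeal) := ⟨_, this⟩
    have hM : PrimeSpectrum.comap (Ideal.Quotient.mk q.asIdeal) M = m := by
      refine PrimeSpectrum.ext ?_
      exact (Ideal.comap_map_of_surjective' _ Ideal.Quotient.mk_surjective _).trans (by rw [Ideal.mk_ker, sup_eq_left.2 hle])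
    rw [show (m.asIdeal.map (Ideal.Quotient.mk q.asIdeal)).height = Order.height M from PrimeSpectrum.height_eq_orderHeight M,
      PrimeSpectrum.height_eq_orderHeight m]
    refine le_trans (Order.height_le_height_apply_of_strictMono (PrimeSpectrum.comap (Ideal.Quotient.mk q.asIdeal))
      (fun P Q h => lt_of_le_of_ne (Ideal.comap_mono h.le) fun heq => h.ne (PrimeSpectrum.ext
        (Ideal.comap_injective_of_surjective _ Ideal.Quotient.mk_surjective (congrArg PrimeSpectrum.asIdeal heq)))) M) ?_
    rw [hM]

end Groth.Agent.CohDual
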