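import Groth.Agent.CohDual.TwistExt
import Groth.Agent.CohDual.ClosedAdj
import Groth.Agent.SSExist.ExtSheafHom
import Groth.Agent.ModGroth.SheafHomExact
import Groth.Agent.ModGroth.FinLocFree
import Groth.Agent.ModGroth.Basic
import Groth.Agent.InvGlue.Main
import Groth.Agent.InvPow.Resolution

/-!
# `Ext^i(F, M) = H^0(ℰxt^i(F, M))` when the lower Ext sheaves have no higher cohomology
-/

set_option autoImplicit false
set_option linter.style.haveILetI false

universe u

open CategoryTheory CategoryTheory.Limits CategoryTheory.Abelian AlgebraicGeometry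

namespace Groth.Agent.CohDual

open Groth.Agent.ModGroth Groth.Agent.SSExist

variable {A : Type u} [CommRing A] {X : Scheme.{u}} [X.Over (Spec (CommRingCat.of A))] [HasExt.{u} X.Modules]

lemma isFinLocFree_unit : FlatMod.IsFinLocFree (Coh.structureModule X) :=
  InvPow.isFinLocFree_of_isInvertible (InvGlue.isInvertible_unit X)

/-- `Ext` out of the structure sheaf is cohomology. -/
theorem nonempty_ext_unit_HH (M : X.Modules) (n : ℕ) :
    Nonempty (Ext.{u} (Coh.structureModule X) M n ≃ₗ[A] Coh.HH X M n) := by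
  haveI : ModSite.HasSheafHom (O := X.sheaf) (Coh.structureModule X) :=
    hasSheafHom (O := X.sheaf) (Coh.structureModule X)
  obtain ⟨e⟩ := nonempty_ext_linearEquiv_HH (A := A) (Coh.structureModule X) isFinLocFree_unit M n
  obtain ⟨e'⟩ := nonempty_HH_linearEquiv_of_iso (A := A)
    (((ModSite.sheafHomAdj (O := X.sheaf) (Coh.structureModule X)).ofNatIsoLeft
      ((tensorSymm (O := X.sheaf) (Coh.structureModule X)).symm ≪≫ unitTensorNat)).rightAdjointUniq
        (Adjunction.id (C := X.Modules)) |>.app M) n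
  exact ⟨e.trans e'⟩

/-- The Ext sheaf functor, on the category of modules of the scheme. -/
noncomputable abbrev extX (F : X.Modules) [ModSite.HasSheafHom (O := X.sheaf) F]
    [HasInjectiveResolutions (ModSite.Mod X.sheaf)] (l : ℕ) : X.Modules ⥤ X.Modules :=
  ModSite.extSh (O := X.sheaf) F l

/-- `- ⊗ F`, on the category of modules of the scheme. -/
noncomputable abbrev tF (F : X.Modules) : X.Modules ⥤ X.Modules := tR (O := X.sheaf) F

variable (F : X.Modules) [ModSite.HasSheafHom (O := X.sheaf) F] [HasInjectiveResolutions (ModSite.Mod X.sheaf)]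

omit [HasInjectiveResolutions (ModSite.Mod X.sheaf)] in
lemma subsingleton_ext_homX_injective (I : X.Modules) (hI : Injective I) (G : X.Modules)
    (hG : FlatMod.IsFlat G) (j : ℕ) : Subsingleton (Ext.{u} G ((homX F).obj I) (j + 1)) := by
  haveI : Injective (C := ModSite.Mod X.sheaf) I := hI
  haveI : HasExt.{u} (ModSite.Mod X.sheaf) := inferInstanceAs (HasExt.{u} X.Modules)
  exact subsingleton_ext_flat (O := X.sheaf) (flatInj_sheafHom (O := X.sheaf) F I) ((isFlat_iff_flatMod G).2 hG) j

/-- The comparison, before linearity. -/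
theorem exists_ext_sections (M : X.Modules) (i : ℕ)
    (hvan : ∀ l, l < i → ∀ p, Subsingleton
      (Ext.{u} (Coh.structureModule X) ((extX F l).obj M) (p + 1))) :
    ∃ e : Ext.{u} ((tF F).obj (Coh.structureModule X)) M i ≃+
        ((Coh.structureModule X) ⟶ (extX F i).obj M),
      ∀ (a : Coh.structureModule X ⟶ Coh.structureModule X)
        (x : Ext.{u} ((tF F).obj (Coh.structureModule X)) M i),
        e ((Ext.mk₀ ((tF F).map a)).comp x (zero_add i)) = a ≫ e x := by
  haveI : IsGrothendieckAbelian.{u} X.Modules := sheaf_isGrothendieckAbelian X.ringCatSheaf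
  haveI : HasInjectiveResolutions X.Modules := ‹HasInjectiveResolutions (ModSite.Mod X.sheaf)›
  let adj : (tF F) ⊣ homX F := ModSite.sheafHomAdj (O := X.sheaf) F
  haveI : (homX F).IsRightAdjoint := adj.isRightAdjoint
  haveI : (tF F).IsLeftAdjoint := adj.isLeftAdjoint
  haveI : (homX F).Additive :=
    haveI := preservesBinaryBiproducts_of_preservesBinaryProducts (homX F)
    Functor.additive_of_preservesBinaryBiproducts _
  haveI : (tF F).Additive :=
    haveI := preservesBinaryBiproducts_of_preservesBinaryCoproducts (tF F)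
    Functor.additive_of_preservesBinaryBiproducts _
  haveI : PreservesFiniteLimits (homX F) :=
    haveI : PreservesLimitsOfSize.{0, 0} (homX F) := adj.rightAdjoint_preservesLimits
    PreservesLimitsOfSize.preservesFiniteLimits _
  obtain _ | c := i
  · refine ⟨(Ext.addEquiv₀ (C := X.Modules)).trans ((adj.homAddEquiv _ M).trans
      { toFun := fun φ => φ ≫ (homX F).rightDerivedZeroIsoSelf.inv.app M
        invFun := fun φ => φ ≫ (homX F).rightDerivedZeroIsoSelf.hom.app M
        left_inv := fun φ => (Category.assoc _ _ _).trans ((congrArg (φ ≫ ·) (Iso.inv_hom_id_app _ _)).trans (Category.comp_id _))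
        right_inv := fun φ => (Category.assoc _ _ _).trans ((congrArg (φ ≫ ·) (Iso.hom_inv_id_app _ _)).trans (Category.comp_id _))
        map_add' := fun φ φ' => Preadditive.add_comp _ _ _ _ _ _ }), fun a x => ?_⟩
    obtain ⟨φ, rfl⟩ := (Ext.mk₀_bijective _ _).2 x
    rw [Ext.mk₀_comp_mk₀]
    simp only [AddEquiv.trans_apply]
    have e : ∀ {P Q : X.Modules} (h : P ⟶ Q), (Ext.addEquiv₀ (Ext.mk₀ h : Ext.{u} P Q 0) : P ⟶ Q) = h :=
      fun h => Ext.addEquiv₀.apply_symm_apply h
    rw [e, e]
    exact (congrArg (· ≫ _) (adj.homEquiv_naturality_left a φ)).trans (Category.assoc _ _ _)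
  · let D := extData (T := (tF F)) (R := homX F)
      (fun G => G = Coh.structureModule X) (fun I hI G hG a => by
        subst hG
        exact subsingleton_ext_homX_injective F I hI _ (Perf.isFlat_of_isFinLocFree isFinLocFree_unit) a)
    have hacy : ∀ l, l ≤ c → ∀ G, G = Coh.structureModule X → ∀ p,
        Subsingleton (Ext.{u} G (((homX F).rightDerived l).obj M) (p + 1)) := fun l hl G hG p => by
      subst hG
      exact hvan l (Nat.lt_succ_of_le hl) p
    obtain ⟨e, he⟩ := exists_ext_equiv adj D c M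
      (D.ofIso ((homX F).rightDerivedZeroIsoSelf.app M) (hacy 0 (Nat.zero_le c))) fun j _ hj => hacy j hj
    exact ⟨e _ rfl, fun a x => he _ _ rfl rfl a x⟩

/-- **`Ext^i(F, M) ≅ H^0(ℰxt^i(F, M))`**, linearly over the base. -/
theorem nonempty_ext_H0 (M : X.Modules) (i : ℕ)
    (hvan : ∀ l, l < i → ∀ p, 0 < p → Subsingleton
      (Coh.HH X ((extX F l).obj M) p)) :
    Nonempty (Ext.{u} F M i ≃ₗ[A] Coh.HH X ((extX F i).obj M) 0) := by
  obtain ⟨e, he⟩ := exists_ext_sections F M i fun l hl p => by
    obtain ⟨e⟩ := nonempty_ext_unit_HH (A := A) ((extX F l).obj M) (p + 1)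
    haveI := hvan l hl (p + 1) (Nat.succ_pos p)
    exact e.injective.subsingleton
  let u : (tF F).obj (Coh.structureModule X) ≅ F := unitTensorIso X.sheaf F
  let pre : Ext.{u} F M i ≃+ Ext.{u} ((tF F).obj (Coh.structureModule X)) M i :=
    { toFun := fun x => (Ext.mk₀ u.hom).comp x (zero_add i)
      invFun := fun x => (Ext.mk₀ u.inv).comp x (zero_add i)
      left_inv := fun x => by dsimp only; rw [Ext.mk₀_comp_mk₀_assoc, u.inv_hom_id, Ext.mk₀_id_comp]
      right_inv := fun x => by dsimp only; rw [Ext.mk₀_comp_mk₀_assoc, u.hom_inv_id, Ext.mk₀_id_comp]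
      map_add' := fun x y => Ext.comp_add _ _ _ _ }
  let E : Ext.{u} F M i ≃ₗ[A] ((Coh.structureModule X) ⟶ (extX F i).obj M) :=
    AddEquiv.toLinearEquiv (pre.trans e) fun a x => by
      have h1 : a • x = (Ext.mk₀ (Formal.smulMod A F a)).comp x (zero_add i) := by
        rw [← KLin.smul_id, Ext.mk₀_smul, Ext.smul_comp, Ext.mk₀_id_comp]
      change e ((Ext.mk₀ u.hom).comp (a • x) (zero_add i)) =
        Formal.smulMod A (Coh.structureModule X) a ≫ e ((Ext.mk₀ u.hom).comp x (zero_add i))
      rw [← he, h1, Ext.mk₀_comp_mk₀_assoc, Ext.mk₀_comp_mk₀_assoc]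
      refine congrArg (fun z => e ((Ext.mk₀ z).comp x (zero_add i))) ?_
      exact (KLin.comp_smulModΓ u.hom _).trans
        (congrArg (· ≫ u.hom) (SheafHomExact.tR_map_smulModΓ F (Coh.structureModule X) _).symm)
  obtain ⟨e'⟩ := nonempty_ext_unit_HH (A := A) ((extX F i).obj M) 0
  exact ⟨(E.trans (Ext.linearEquiv₀ (R := A)).symm).trans e'⟩

end Groth.Agent.CohDual
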