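import Groth.Agent.CohDual.ClosedAdj

/-!
# `Ext` out of a direct image in the lowest degree with a nonzero Ext sheaf
-/

set_option autoImplicit false
set_option linter.style.haveILetI false

universe u

open CategoryTheory CategoryTheory.Limits CategoryTheory.Abelian AlgebraicGeometry

namespace Groth.Agent.CohDual

section Abstract

universe w v u'

variable {C : Type u'} [Category.{v} C] [Abelian C] [EnoughInjectives C] [HasInjectiveResolutions C] [HasExt.{w} C]
  {T R : C ⥤ C} [R.Additive]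

omit [EnoughInjectives C] [HasInjectiveResolutions C] [R.Additive] in
/-- Precomposition with an isomorphism. -/
lemma bijective_precomp_iso {X Y : C} (f : X ⟶ Y) [IsIso f] (M : C) (n : ℕ) :
    Function.Bijective (fun x : Ext.{w} Y M n => (Ext.mk₀ f).comp x (zero_add n)) := by
  refine Function.bijective_iff_has_inverse.2 ⟨fun x => (Ext.mk₀ (inv f)).comp x (zero_add n), fun x => ?_, fun x => ?_⟩
  · dsimp only
    rw [Ext.mk₀_comp_mk₀_assoc, IsIso.inv_hom_id, Ext.mk₀_id_comp]
  · dsimp only
    rw [Ext.mk₀_comp_mk₀_assoc, IsIso.hom_inv_id, Ext.mk₀_id_comp]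

variable [T.Additive] [PreservesFiniteLimits R] (adj : T ⊣ R) (μ : 𝟭 C ⟶ T)

include adj in
/-- On fixed objects, `Ext^c(G, M) ≅ Hom(G, R^c M)` when the lower derived functors vanish at `M`. -/
theorem exists_ext_hom_equiv (hepi : ∀ X, Epi (μ.app X)) (hT : ∀ X, IsIso (T.map (μ.app X))) (M : C) (c : ℕ)
    (hvan : ∀ j, j < c → IsZero ((R.rightDerived j).obj M)) :
    ∃ e : ∀ G, Idem.InK μ G → (Ext.{w} G M c ≃+ (G ⟶ (R.rightDerived c).obj M)),
      ∀ G G' (hG : Idem.InK μ G) (hG' : Idem.InK μ G') (a : G' ⟶ G) (x : Ext.{w} G M c),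
        e G' hG' ((Ext.mk₀ a).comp x (zero_add c)) = a ≫ e G hG x := by
  let pre : ∀ G, Idem.InK μ G → (Ext.{w} (T.obj G) M c ≃+ Ext.{w} G M c) := fun G hG =>
    AddEquiv.ofBijective ((Ext.mk₀ (μ.app G)).precomp M (zero_add c))
      (@bijective_precomp_iso _ _ _ _ _ _ (μ.app G) hG M c)
  have hpre : ∀ G G' (hG : Idem.InK μ G) (hG' : Idem.InK μ G') (a : G' ⟶ G) (y : Ext.{w} (T.obj G) M c),
      pre G' hG' ((Ext.mk₀ (T.map a)).comp y (zero_add c)) = (Ext.mk₀ a).comp (pre G hG y) (zero_add c) := by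
    intro G G' hG hG' a y
    change (Ext.mk₀ (μ.app G')).comp ((Ext.mk₀ (T.map a)).comp y (zero_add c)) (zero_add c) =
      (Ext.mk₀ a).comp ((Ext.mk₀ (μ.app G)).comp y (zero_add c)) (zero_add c)
    rw [Ext.mk₀_comp_mk₀_assoc, Ext.mk₀_comp_mk₀_assoc]
    exact congrArg (fun z => (Ext.mk₀ z).comp y (zero_add c)) (μ.naturality a).symm
  suffices h : ∃ e : ∀ G, Idem.InK μ G → (Ext.{w} (T.obj G) M c ≃+ (G ⟶ (R.rightDerived c).obj M)),
      ∀ G G' (hG : Idem.InK μ G) (hG' : Idem.InK μ G') (a : G' ⟶ G) (x : Ext.{w} (T.obj G) M c),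
        e G' hG' ((Ext.mk₀ (T.map a)).comp x (zero_add c)) = a ≫ e G hG x by
    obtain ⟨e, he⟩ := h
    refine ⟨fun G hG => (pre G hG).symm.trans (e G hG), fun G G' hG hG' a x => ?_⟩
    obtain ⟨y, rfl⟩ := (pre G hG).surjective x
    rw [← hpre G G' hG hG' a y]
    simp only [AddEquiv.trans_apply, AddEquiv.symm_apply_apply]
    exact he G G' hG hG' a y
  obtain _ | c := c
  · refine ⟨fun G _ => Ext.addEquiv₀.trans ((adj.homAddEquiv G M).trans
      { toFun := fun φ => φ ≫ R.rightDerivedZeroIsoSelf.inv.app M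
        invFun := fun φ => φ ≫ R.rightDerivedZeroIsoSelf.hom.app M
        left_inv := fun φ => by simp
        right_inv := fun φ => by simp
        map_add' := fun φ φ' => Preadditive.add_comp _ _ _ _ _ _ }), fun G G' _ _ a x => ?_⟩
    obtain ⟨φ, rfl⟩ := (Ext.mk₀_bijective _ _).2 x
    rw [Ext.mk₀_comp_mk₀]
    simp only [AddEquiv.trans_apply]
    have e : ∀ {A B : C} (h : A ⟶ B), (Ext.addEquiv₀ (Ext.mk₀ h : Ext.{w} A B 0) : A ⟶ B) = h :=
      fun h => Ext.addEquiv₀.apply_symm_apply h
    rw [e, e]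
    exact (congrArg (· ≫ _) (adj.homEquiv_naturality_left a φ)).trans (Category.assoc _ _ _)
  · have h0 : Idem.Extends μ (R.obj M) :=
      Idem.extends_of_isZero ((hvan 0 (Nat.succ_pos c)).of_iso (R.rightDerivedZeroIsoSelf.app M).symm)
    exact exists_ext_equiv adj (Idem.acyData adj hepi hT) c M h0
      fun j _ hj => Idem.extends_of_isZero (hvan j (by omega))

omit [HasExt.{w} C] in
include adj in
/-- The derived functors of the right adjoint take fixed values. -/
theorem inK_rightDerived [PreservesFiniteColimits T] (hepi : ∀ X, Epi (μ.app X))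
    (hT : ∀ X, IsIso (T.map (μ.app X))) (j : ℕ) : ∀ M, Idem.InK μ ((R.rightDerived j).obj M) := by
  induction j with
  | zero => exact fun M => Idem.inK_of_iso hepi (R.rightDerivedZeroIsoSelf.app M).symm (Idem.inK_obj adj hepi hT M)
  | succ j ih =>
    exact fun M => @Idem.inK_of_epi _ _ _ _ _ _ _ hepi _ _ (KerDerived.dl R j M) (KerDerived.epi_dl R j M) (ih _)

end Abstract

variable {X P : Scheme.{u}} (i : X ⟶ P) [IsClosedImmersion i] [HasExt.{u} P.Modules]
  [EnoughInjectives P.Modules] [HasInjectiveResolutions P.Modules]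
  [ModSite.HasSheafHom (O := P.sheaf) ((Scheme.Modules.pushforward i).obj (Coh.structureModule X))]

instance homS_additive : (homS i).Additive :=
  haveI : (homS i).IsRightAdjoint := (monadAdj i).isRightAdjoint
  haveI := preservesBinaryBiproducts_of_preservesBinaryProducts (homS i)
  Functor.additive_of_preservesBinaryBiproducts _

instance homS_preservesFiniteLimits : PreservesFiniteLimits (homS i) :=
  haveI : PreservesLimitsOfSize.{0, 0} (homS i) := (monadAdj i).rightAdjoint_preservesLimits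
  PreservesLimitsOfSize.preservesFiniteLimits _

instance monadT_preservesFiniteColimits : PreservesFiniteColimits (monadT i) :=
  haveI : PreservesColimitsOfSize.{0, 0} (monadT i) := (monadAdj i).leftAdjoint_preservesColimits
  PreservesColimitsOfSize.preservesFiniteColimits _

omit [HasExt.{u} P.Modules] in
lemma inK_ext (M : P.Modules) (j : ℕ) :
    Idem.InK (monadUnit i) (((homS i).rightDerived j).obj M) :=
  inK_rightDerived (monadAdj i) (monadUnit i) (epi_monadUnit i) (isIso_map_monadUnit i) j M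

/-- **`Ext^c(i_*N, M) ≅ Hom(i_*N, ℰxt^c(i_*O, M))`**, naturally in `N`. -/
theorem exists_ext_push_equiv (M : P.Modules) (c : ℕ)
    (hvan : ∀ j, j < c → IsZero (((homS i).rightDerived j).obj M)) :
    ∃ e : ∀ N : X.Modules, Ext.{u} ((Scheme.Modules.pushforward i).obj N) M c ≃+
        ((Scheme.Modules.pushforward i).obj N ⟶ ((homS i).rightDerived c).obj M),
      ∀ (N N' : X.Modules) (a : N' ⟶ N) (x : Ext.{u} ((Scheme.Modules.pushforward i).obj N) M c),
        e N' ((Ext.mk₀ ((Scheme.Modules.pushforward i).map a)).comp x (zero_add c)) =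
          (Scheme.Modules.pushforward i).map a ≫ e N x := by
  obtain ⟨e, he⟩ := exists_ext_hom_equiv (monadAdj i) (monadUnit i) (epi_monadUnit i) (isIso_map_monadUnit i) M c hvan
  exact ⟨fun N => e _ (inK_pushforward i N), fun N N' a x => he _ _ _ _ _ x⟩

end Groth.Agent.CohDual
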