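import Groth.Agent.CohDual.ExtShRes
import Groth.Agent.ModGroth.SheafHomExact
import Groth.Agent.QCohLib.Coherent
import Groth.Prelude.Def_Coh

/-!
# Coherence of the Ext sheaves
-/

set_option autoImplicit false
set_option linter.style.haveILetI false

universe u

open CategoryTheory CategoryTheory.Limits AlgebraicGeometry

namespace Groth.Agent.CohDual

open Groth.Agent.ModGroth

section Additive

variable {C : Type u} [SmallCategory C] {J : GrothendieckTopology C} {O : Sheaf J CommRingCat.{u}}

lemma sheafHomMap_app_add {M M' : ModSite.Mod O} [ModSite.HasSheafHom M] [ModSite.HasSheafHom M']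
    (a b : M' ⟶ M) (I : ModSite.Mod O) :
    (ExtSupp.sheafHomMap (a + b)).app I = (ExtSupp.sheafHomMap a).app I + (ExtSupp.sheafHomMap b).app I := by
  apply ((ModSite.sheafHomAdj M').homEquiv _ I).symm.injective
  have hsymm : ∀ x y : (ModSite.sheafHom M).obj I ⟶ (ModSite.sheafHom M').obj I,
      ((ModSite.sheafHomAdj M').homEquiv _ I).symm (x + y) = ((ModSite.sheafHomAdj M').homEquiv _ I).symm x +
        ((ModSite.sheafHomAdj M').homEquiv _ I).symm y := fun x y => by
    haveI := tR_additive M'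
    rw [Adjunction.homEquiv_counit, Adjunction.homEquiv_counit, Adjunction.homEquiv_counit]
    exact (congrArg (· ≫ _) (Functor.map_add (F := tR M') (f := x) (g := y))).trans (Preadditive.add_comp _ _ _ _ _ _)
  have key : ∀ c : M' ⟶ M, ((ModSite.sheafHomAdj M').homEquiv _ I).symm ((ExtSupp.sheafHomMap c).app I) =
      (tL ((ModSite.sheafHom M).obj I)).map c ≫ ((ModSite.sheafHomAdj M).homEquiv _ I).symm (𝟙 _) := fun c => by
    rw [← homEquiv_symm_sheafHomMap, Category.id_comp]
  haveI := tL_additive ((ModSite.sheafHom M).obj I)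
  rw [hsymm, key, key, key]
  exact (congrArg (· ≫ _) (Functor.map_add (F := tL _) (f := a) (g := b))).trans (Preadditive.add_comp _ _ _ _ _ _)

/-- The contravariant internal hom, at a fixed argument, as an additive map. -/
noncomputable def sheafHomMapHom (M M' : ModSite.Mod O) [ModSite.HasSheafHom M] [ModSite.HasSheafHom M']
    (I : ModSite.Mod O) : (M' ⟶ M) →+ ((ModSite.sheafHom M).obj I ⟶ (ModSite.sheafHom M').obj I) :=
  AddMonoidHom.mk' (fun a => (ExtSupp.sheafHomMap a).app I) fun a b => sheafHomMap_app_add a b I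

lemma sheafHomMap_app_id (M : ModSite.Mod O) [ModSite.HasSheafHom M] (I : ModSite.Mod O) :
    (ExtSupp.sheafHomMap (𝟙 M)).app I = 𝟙 _ := by
  apply ((ModSite.sheafHomAdj M).homEquiv _ I).symm.injective
  rw [← Category.id_comp ((ExtSupp.sheafHomMap (𝟙 M)).app I), homEquiv_symm_sheafHomMap]
  exact (congrArg (· ≫ _) ((tL _).map_id M)).trans (Category.id_comp _)

end Additive

variable {X : Scheme.{u}}

/-- `Hom(M, G)`, in the category of modules of the scheme. -/
noncomputable abbrev homMod (M : X.Modules) [ModSite.HasSheafHom (O := X.sheaf) M] (G : X.Modules) : X.Modules :=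
  (ModSite.sheafHom (O := X.sheaf) M).obj G

/-- The contravariant internal hom, as an additive map between the hom groups of the category of modules. -/
noncomputable def sheafHomMapX (M M' : X.Modules) [ModSite.HasSheafHom (O := X.sheaf) M]
    [ModSite.HasSheafHom (O := X.sheaf) M'] (G : X.Modules) : (M' ⟶ M) →+ (homMod M G ⟶ homMod M' G) :=
  AddMonoidHom.mk' (fun a => (ExtSupp.sheafHomMap (O := X.sheaf) a).app G)
    fun a b => sheafHomMap_app_add (O := X.sheaf) a b G

attribute [local instance] Abelian.hasFiniteBiproducts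

variable [IsLocallyNoetherian X]

/-- A retract of a coherent module is coherent. -/
lemma isCoh_of_retract {M N : X.Modules} (s : M ⟶ N) (r : N ⟶ M) (h : s ≫ r = 𝟙 M) (hN : Coh.IsCoh N) :
    Coh.IsCoh M := by
  have w : s ≫ (𝟙 N - r ≫ s) = 0 := by rw [Preadditive.comp_sub, Category.comp_id, ← Category.assoc, h, Category.id_comp, sub_self]
  have hi : IsLimit (KernelFork.ofι s w) := KernelFork.IsLimit.ofι _ _ (fun g _ => g ≫ r)
    (fun g hg => by rw [Preadditive.comp_sub, Category.comp_id, sub_eq_zero] at hg; rw [Category.assoc]; exact hg.symm)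
    (fun g _ m hm => by rw [← hm, Category.assoc, h, Category.comp_id])
  exact QCohLib.isCoh_of_iso (IsLimit.conePointUniqueUpToIso (kernelIsKernel _) hi)
    (QCohLib.isCoh_kernel (𝟙 N - r ≫ s) hN hN.1)

/-- `Hom` out of a finite sum. -/
theorem isCoh_homMod_sum {r : ℕ} (B : Fin r → X.Modules) [∀ c, ModSite.HasSheafHom (O := X.sheaf) (B c)]
    (P : X.Modules) [ModSite.HasSheafHom (O := X.sheaf) P] (ι : ∀ c, B c ⟶ P) (π : ∀ c, P ⟶ B c)
    (htot : ∑ c, π c ≫ ι c = 𝟙 P) (G : X.Modules)
    (h : Coh.IsCoh (⨁ fun c => homMod (B c) G)) : Coh.IsCoh (homMod P G) := by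
  let s : homMod P G ⟶ ⨁ fun c => homMod (B c) G :=
    biproduct.lift fun c => (ExtSupp.sheafHomMap (O := X.sheaf) (ι c)).app G
  let t : (⨁ fun c => homMod (B c) G) ⟶ homMod P G :=
    biproduct.desc fun c => (ExtSupp.sheafHomMap (O := X.sheaf) (π c)).app G
  refine isCoh_of_retract s t ?_ h

  refine biproduct.lift_desc.trans ?_
  refine (Finset.sum_congr rfl fun c _ =>
    sheafHomMap_app_comp (O := X.sheaf) (π c) (ι c) (π c ≫ ι c) rfl G).trans ?_
  refine (map_sum (sheafHomMapX P P G) _ _).symm.trans ?_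
  exact (congrArg (sheafHomMapX P P G) htot).trans (sheafHomMap_app_id (O := X.sheaf) P G)

variable [HasInjectiveResolutions (ModSite.Mod X.sheaf)] (G : X.Modules)

/-- The internal hom and its derived functors, acyclic and coherent at `E`. -/
structure GoodAt (E : X.Modules) : Prop where
  coh : Coh.IsCoh E
  hom : ∀ [ModSite.HasSheafHom (O := X.sheaf) E], Coh.IsCoh (homMod E G)
  acyclic : ∀ [ModSite.HasSheafHom (O := X.sheaf) E] (p : ℕ),
    IsZero (C := X.Modules) ((ModSite.extSh (O := X.sheaf) E (p + 1)).obj G)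

/-- Coherence of `Hom(M, G)`, given good covers. -/
lemma isCoh_homMod (hcov : ∀ M : X.Modules, Coh.IsCoh M → ∃ (E : X.Modules) (π : E ⟶ M), Epi π ∧ GoodAt G E)
    (M : X.Modules) (hM : Coh.IsCoh M) [ModSite.HasSheafHom (O := X.sheaf) M] : Coh.IsCoh (homMod M G) := by
  haveI : ∀ N : X.Modules, ModSite.HasSheafHom (O := X.sheaf) N := fun N => hasSheafHom (O := X.sheaf) N
  haveI : ∀ N : ModSite.Mod X.sheaf, ModSite.HasSheafHom N := hasSheafHom
  obtain ⟨E, π, hπ, hE⟩ := hcov M hM
  obtain ⟨E₁, π₁, hπ₁, hE₁⟩ := hcov (kernel π) (QCohLib.isCoh_kernel π hE.coh hM.1)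
  haveI := hπ; haveI := hπ₁
  let S : ShortComplex X.Modules := ShortComplex.mk (kernel.ι π) π (kernel.condition π)
  have hS : S.ShortExact := { exact := ShortComplex.exact_kernel π }
  haveI : Mono (C := X.Modules) ((ExtSupp.sheafHomMap (O := X.sheaf) π₁).app G) :=
    mono_sheafHomMap (O := X.sheaf) (S := ShortComplex.mk (kernel.ι π₁) π₁ (kernel.condition π₁))
      { exact := ShortComplex.exact_kernel π₁, mono_f := inferInstanceAs (Mono (kernel.ι π₁)), epi_g := hπ₁ } G
  obtain ⟨w, hw⟩ := exact_comp_mono (A := X.Modules) (exact_sheafHomMap (O := X.sheaf) (S := S) hS G)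
    ((ExtSupp.sheafHomMap (O := X.sheaf) π₁).app G) rfl
  haveI : Mono (C := X.Modules) ((ExtSupp.sheafHomMap (O := X.sheaf) π).app G) :=
    mono_sheafHomMap (O := X.sheaf) (S := S) hS G
  exact QCohLib.isCoh_of_iso (IsLimit.conePointUniqueUpToIso (kernelIsKernel _) hw.fIsKernel)
    (QCohLib.isCoh_kernel _ hE.hom hE₁.hom.1)

/-- **The Ext sheaves of coherent modules are coherent**, given good covers. -/
theorem isCoh_extSh (hcov : ∀ M : X.Modules, Coh.IsCoh M → ∃ (E : X.Modules) (π : E ⟶ M), Epi π ∧ GoodAt G E)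
    (j : ℕ) : ∀ (M : X.Modules) [ModSite.HasSheafHom (O := X.sheaf) M], Coh.IsCoh M →
      Coh.IsCoh (X := X) ((ModSite.extSh (O := X.sheaf) M j).obj G) := by
  haveI : ∀ N : X.Modules, ModSite.HasSheafHom (O := X.sheaf) N := fun N => hasSheafHom (O := X.sheaf) N
  haveI : ∀ N : ModSite.Mod X.sheaf, ModSite.HasSheafHom N := hasSheafHom
  induction j with
  | zero =>
    intro M _ hM
    haveI : (ModSite.sheafHom (O := X.sheaf) M).Additive := ModSite.sheafHom_additive (O := X.sheaf) M
    exact QCohLib.isCoh_of_iso ((ModSite.sheafHom (O := X.sheaf) M).rightDerivedZeroIsoSelf.app G).symm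
      (isCoh_homMod G hcov M hM)
  | succ j ih =>
    intro M _ hM
    obtain ⟨E, π, hπ, hE⟩ := hcov M hM
    haveI := hπ
    have hK : Coh.IsCoh (kernel π) := QCohLib.isCoh_kernel π hE.coh hM.1
    have hS : (ShortComplex.mk (kernel.ι π) π (kernel.condition π)).ShortExact :=
      { exact := ShortComplex.exact_kernel π }
    obtain _ | p := j
    · obtain ⟨δ, w, hδ, hδe⟩ := exists_extSh_one (O := X.sheaf) (ShortComplex.mk (kernel.ι π) π (kernel.condition π))
        hS G (hE.acyclic 0)
      haveI : Epi (C := X.Modules) δ := hδe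
      exact QCohLib.isCoh_of_iso (IsColimit.coconePointUniqueUpToIso (cokernelIsCokernel _) hδ.gIsCokernel)
        (QCohLib.isCoh_cokernel _ hE.hom.1 (isCoh_homMod G hcov _ hK))
    · obtain ⟨e⟩ := nonempty_extSh_shift (O := X.sheaf) (ShortComplex.mk (kernel.ι π) π (kernel.condition π))
        hS G p (hE.acyclic p) (hE.acyclic (p + 1))
      exact QCohLib.isCoh_of_iso (X := X) e (ih (kernel π) hK)

end Groth.Agent.CohDual
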