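import Groth.Agent.CohDual.InjStalk
import Groth.Agent.ModGroth.StalkFun
import Groth.Agent.ModGroth.StalkTensor
import Groth.Agent.ModGroth.SheafHomExact
import Groth.Agent.QCohLib.StalkLoc
import Groth.Agent.QCohLib.Coherent
import Groth.Prelude.Def_DerSch

/-!
# The stalk of the internal hom out of a coherent module
-/

set_option autoImplicit false
set_option linter.style.haveILetI false

universe u

open CategoryTheory CategoryTheory.Limits Opposite AlgebraicGeometry TopologicalSpace MonoidalCategory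
open scoped TensorProduct

namespace Groth.Agent.CohDual.StalkHom

open Groth.Agent.ModGroth Stalk LocBasis

variable {X : Scheme.{u}}

/-- The stalks of a coherent module are presented by relations between sections on an affine open. -/
lemma exists_pres [IsLocallyNoetherian X] (F : X.Modules) (hF : Coh.IsCoh F) {U : X.Opens} (hU : IsAffineOpen U) :
    ∃ (m l : ℕ) (e : Fin m → Γ(F, U)) (r : Fin l → Fin m → Γ(X, U)),
      (∀ j, ∑ i, r j i • e i = 0) ∧
      (∀ (y : X) (hy : y ∈ U) (z : F.presheaf.stalk y),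
        ∃ c : Fin m → X.presheaf.stalk y, ∑ i, c i • F.presheaf.germ U y hy (e i) = z) ∧
      ∀ (y : X) (hy : y ∈ U) (c : Fin m → X.presheaf.stalk y),
        ∑ i, c i • F.presheaf.germ U y hy (e i) = 0 →
          c ∈ Submodule.span (X.presheaf.stalk y)
            (Set.range fun j => fun i => X.presheaf.germ U y hy (r j i)) := by
  haveI : F.IsQuasicoherent := hF.1
  haveI : IsNoetherianRing Γ(X, U) := IsLocallyNoetherian.component_noetherian ⟨U, hU⟩
  haveI : Module.Finite Γ(X, U) Γ(F, U) := (QCohLib.isCoh_iff.1 hF).2 ⟨U, hU⟩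
  obtain ⟨m, e, he⟩ := Module.Finite.exists_fin (R := Γ(X, U)) (M := Γ(F, U))
  obtain ⟨l, r, hr⟩ := Submodule.fg_iff_exists_fin_generating_family.1
    (IsNoetherian.noetherian (LinearMap.ker (Fintype.linearCombination Γ(X, U) e)))
  refine ⟨m, l, e, r, fun j => ?_, fun y hy z => ?_, fun y hy c hc => ?_⟩
  · have h : r j ∈ LinearMap.ker (Fintype.linearCombination Γ(X, U) e) :=
      hr ▸ Submodule.subset_span ⟨j, rfl⟩
    rwa [LinearMap.mem_ker, Fintype.linearCombination_apply] at h
  all_goals
    let _ : Algebra Γ(X, U) (X.presheaf.stalk y) := (X.presheaf.germ U y hy).hom.toAlgebra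
    have hloc := hU.isLocalization_stalk ⟨y, hy⟩
    let p := (hU.primeIdealOf ⟨y, hy⟩).asIdeal.primeCompl
    haveI : IsLocalization p (X.presheaf.stalk y) := hloc
  · obtain ⟨f, s, hyf, hfs⟩ := QCohLib.exists_smul_eq_germ (M := F) hU y hy z
    have hf : IsUnit (X.presheaf.germ U y hy f) := (X.mem_basicOpen f y hy).mp hyf
    have hs : s ∈ Submodule.span Γ(X, U) (Set.range e) := he ▸ Submodule.mem_top
    rw [Submodule.mem_span_range_iff_exists_fun] at hs
    obtain ⟨d, rfl⟩ := hs
    refine ⟨fun i => (↑hf.unit⁻¹ : X.presheaf.stalk y) * X.presheaf.germ U y hy (d i), ?_⟩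
    rw [← hf.smul_left_cancel, hfs, map_sum, Finset.smul_sum]
    refine Finset.sum_congr rfl fun i _ => ?_
    rw [QCohLib.germ_smul, smul_smul, ← mul_assoc, IsUnit.mul_val_inv, one_mul]
  · obtain ⟨⟨b, hb⟩, hb'⟩ := IsLocalization.exist_integer_multiples_of_finite p c
    choose d hd using hb'
    simp only [Algebra.smul_def] at hd
    have h0 : F.presheaf.germ U y hy (∑ i, d i • e i) = 0 := by
      rw [map_sum]
      simp only [QCohLib.germ_smul]
      refine Eq.trans (Finset.sum_congr rfl fun i _ => ?_)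
        ((Finset.smul_sum (r := X.presheaf.germ U y hy b)
          (f := fun i => c i • F.presheaf.germ U y hy (e i)) (s := Finset.univ)).symm.trans
          ((congrArg (_ • ·) hc).trans (smul_zero _)))
      rw [smul_smul]
      exact congrArg (· • _) (hd i)
    obtain ⟨t, hyt, ht'⟩ := (QCohLib.germ_eq_zero_iff (M := F) hU y hy _).1 h0
    have hk : (fun i => t * d i) ∈ LinearMap.ker (Fintype.linearCombination Γ(X, U) e) := by
      rw [LinearMap.mem_ker, Fintype.linearCombination_apply]
      simp only [mul_smul]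
      rw [← Finset.smul_sum, ht']
    rw [← hr] at hk
    let g : (Fin m → Γ(X, U)) →ₗ[Γ(X, U)] (Fin m → X.presheaf.stalk y) :=
      (Algebra.linearMap Γ(X, U) (X.presheaf.stalk y)).compLeft (Fin m)
    have hu : IsUnit (algebraMap Γ(X, U) (X.presheaf.stalk y) (t * b)) := by
      rw [map_mul]
      exact ((X.mem_basicOpen t y hy).mp hyt).mul (IsLocalization.map_units (X.presheaf.stalk y) (⟨b, hb⟩ : p))
    have hmem : g (fun i => t * d i) ∈ Submodule.span (X.presheaf.stalk y)
        (Set.range fun j => g (r j)) := by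
      refine Submodule.span_le_restrictScalars Γ(X, U) _ _ ?_
      have h := Submodule.mem_map_of_mem (f := g) hk
      rw [Submodule.map_span, ← Set.range_comp] at h
      exact h
    have heq : g (fun i => t * d i) = algebraMap Γ(X, U) (X.presheaf.stalk y) (t * b) • c := funext fun i => by
      change algebraMap _ _ (t * d i) = algebraMap _ _ (t * b) * c i
      rw [map_mul, map_mul, hd, mul_assoc]
    rw [heq] at hmem
    exact (Submodule.smul_mem_iff_of_isUnit _ hu).1 hmem

variable (F : X.Modules) [ModSite.HasSheafHom (O := X.sheaf) F] (x : X)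

/-- `Hom(F, G)`, as a module on the scheme. -/
noncomputable abbrev hm (G : X.Modules) : X.Modules := (ModSite.sheafHom (O := X.sheaf) F).obj G

/-- The comparison of the stalk of `Hom(F, G)` with the homomorphisms of the stalks. -/
noncomputable def theta (G : X.Modules) :
    (hm F G).presheaf.stalk x →ₗ[X.presheaf.stalk x]
      (F.presheaf.stalk x →ₗ[X.presheaf.stalk x] G.presheaf.stalk x) :=
  TensorProduct.curry (psiLin (R := X.presheaf) (A := toPres.obj (hm F G))
    (F := toPres.obj F) (P := toPres.obj G) (beta (O := X.sheaf) F G) x)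

lemma theta_germ (G : X.Modules) {W : X.Opens} (hx : x ∈ W)
    (t : ((fg X.sheaf).obj ((ModSite.sheafHom (O := X.sheaf) F).obj G)).obj (op W))
    (f : ((fg X.sheaf).obj F).obj (op W)) :
    theta F x G (gm (toPres.obj (hm F G)) hx t) (gm (toPres.obj F) hx f) =
      gm (toPres.obj G) hx (evSec (O := X.sheaf) F G t f) :=
  psiLin_gm (R := X.presheaf) (A := toPres.obj (hm F G))
    (F := toPres.obj F) (P := toPres.obj G) (beta (O := X.sheaf) F G) hx t f

/-- Naturality of the comparison. -/
lemma theta_natural {G G' : X.Modules} (g : G ⟶ G')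
    (z : (hm F G).presheaf.stalk x) (w : F.presheaf.stalk x) :
    theta F x G' (Algz.stalkMapₗ (show hm F G ⟶ hm F G' from (ModSite.sheafHom (O := X.sheaf) F).map g) x z) w =
      Algz.stalkMapₗ g x (theta F x G z w) := by
  obtain ⟨W, hW, t, f, rfl, rfl⟩ := exists_pair (toPres.obj (hm F G)) (toPres.obj F) z w
  rw [theta_germ]
  refine Eq.trans (congrArg (fun q => theta F x G' q (gm (toPres.obj F) hW f))
    (DerSch.stalkFunctor_map_germ x ((ModSite.sheafHom (O := X.sheaf) F).map g) W hW t)) ?_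
  refine (theta_germ F x G' hW _ f).trans ?_
  refine Eq.trans ?_ (DerSch.stalkFunctor_map_germ x g W hW _).symm
  exact congrArg (gm (toPres.obj G') hW) (evSec_map (O := X.sheaf) F G g t f)

/-- A section of `Hom(F, G)` vanishes if all its values do. -/
lemma eq_zero_of_evSec (G : X.Modules) {V : X.Opens}
    (t : ((fg X.sheaf).obj ((ModSite.sheafHom (O := X.sheaf) F).obj G)).obj (op V))
    (h : ∀ (W : X.Opens) (k : W ⟶ V) (f : ((fg X.sheaf).obj F).obj (op W)),
      evSec (O := X.sheaf) F G (res (O := X.sheaf) ((fg X.sheaf).obj ((ModSite.sheafHom (O := X.sheaf) F).obj G)) k.op t) f = 0) :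
    t = 0 := by
  let a : ((fg X.sheaf).obj ((ModSite.sheafHom (O := X.sheaf) F).obj G)).obj (op V) ≃
      (freeP X.sheaf V ⟶ (fg X.sheaf).obj ((ModSite.sheafHom (O := X.sheaf) F).obj G)) :=
    PresheafOfModules.freeYonedaEquiv.symm
  have key : ∀ s, (∀ (W : X.Opens) (k : W ⟶ V) (f : ((fg X.sheaf).obj F).obj (op W)),
      evSec (O := X.sheaf) F G (res (O := X.sheaf) ((fg X.sheaf).obj ((ModSite.sheafHom (O := X.sheaf) F).obj G)) k.op s) f = 0) →
      uncurryP (O := X.sheaf) F G (freeP X.sheaf V) (a s) = 0 := fun s hs => by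
    refine PresheafOfModules.hom_ext fun W' => ModuleCat.hom_ext ?_
    obtain ⟨W⟩ := W'
    change appB F G (uncurryP (O := X.sheaf) F G (freeP X.sheaf V) (a s)) W = appB F G 0 W
    refine TensorProduct.ext' fun p f => ?_
    have hp := mem_span_gen (O := X.sheaf) (U := V) (W := W) p
    induction hp using Submodule.span_induction with
    | zero => rw [TensorProduct.zero_tmul, map_zero, map_zero]
    | add p q _ _ hp hq => rw [TensorProduct.add_tmul, map_add, map_add, hp, hq]
    | smul c p _ hp => rw [← TensorProduct.smul_tmul', map_smul, map_smul, hp]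
    | mem p hp =>
      obtain ⟨k, rfl⟩ := hp
      refine Eq.trans ?_ (hs W k f)
      change (beta (O := X.sheaf) F G).app (op W) (((a s).app (op W)).hom (gen k) ⊗ₜ[X.sheaf.obj.obj (op W)] f) =
        (beta (O := X.sheaf) F G).app (op W) (res (O := X.sheaf) ((fg X.sheaf).obj (hm F G)) k.op s ⊗ₜ[X.sheaf.obj.obj (op W)] f)
      refine congrArg (fun q => (beta (O := X.sheaf) F G).app (op W) (q ⊗ₜ[X.sheaf.obj.obj (op W)] f)) ?_
      have h1 : resP k (gen (O := X.sheaf) (𝟙 V)) = gen (O := X.sheaf) k := by rw [resP_gen, Category.comp_id]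
      rw [← h1]
      refine (res_app (O := X.sheaf) (a s) k.op _).trans (congrArg (res (O := X.sheaf) _ k.op) ?_)
      exact PresheafOfModules.freeYonedaEquiv_symm_app _ _ _
  have h0 : uncurryP (O := X.sheaf) F G (freeP X.sheaf V) (a t) = uncurryP (O := X.sheaf) F G (freeP X.sheaf V) (a 0) :=
    (key t h).trans (key 0 fun W k f => by
      rw [map_zero]
      exact (congrArg ((beta (O := X.sheaf) F G).app (op W)) (TensorProduct.zero_tmul _ f)).trans (map_zero _)).symm
  exact a.injective ((bijective_uncurryP (O := X.sheaf) F G _).1 h0)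

/-- The values of a section of `Hom(F, G)` can be prescribed by a compatible family of linear maps. -/
lemma exists_section (G : X.Modules) {V : X.Opens}
    (ψ : ∀ (W : X.Opens), (W ⟶ V) → (((fg X.sheaf).obj F).obj (op W) →ₗ[X.sheaf.obj.obj (op W)]
      ((fg X.sheaf).obj G).obj (op W)))
    (hψ : ∀ (W W' : X.Opens) (l : W' ⟶ W) (k : W ⟶ V) (f : ((fg X.sheaf).obj F).obj (op W)),
      res (O := X.sheaf) ((fg X.sheaf).obj G) l.op (ψ W k f) = ψ W' (l ≫ k) (res (O := X.sheaf) ((fg X.sheaf).obj F) l.op f)) :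
    ∃ t : ((fg X.sheaf).obj ((ModSite.sheafHom (O := X.sheaf) F).obj G)).obj (op V),
      ∀ f, evSec (O := X.sheaf) F G t f = ψ V (𝟙 V) f := by
  let app : ∀ W : X.Opens, FP X.sheaf V W ⊗[X.sheaf.obj.obj (op W)] ((fg X.sheaf).obj F).obj (op W) →ₗ[X.sheaf.obj.obj (op W)]
      ((fg X.sheaf).obj G).obj (op W) := fun W =>
    TensorProduct.lift (Finsupp.linearCombination (X.sheaf.obj.obj (op W)) (ψ W))
  have happ : ∀ (W : X.Opens) (k : W ⟶ V) f, app W (gen k ⊗ₜ[X.sheaf.obj.obj (op W)] f) = ψ W k f := fun W k f => by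
    change TensorProduct.lift (Finsupp.linearCombination (X.sheaf.obj.obj (op W)) (ψ W)) (gen k ⊗ₜ[X.sheaf.obj.obj (op W)] f) = _
    rw [TensorProduct.lift.tmul, gen, Finsupp.linearCombination_single, one_smul]
  have hres : ∀ (W W' : X.Opens) (l : W' ⟶ W) (p : FP X.sheaf V W) (f : ((fg X.sheaf).obj F).obj (op W)),
      app W' (resP l p ⊗ₜ[X.sheaf.obj.obj (op W')] res (O := X.sheaf) ((fg X.sheaf).obj F) l.op f) =
        res (O := X.sheaf) ((fg X.sheaf).obj G) l.op (app W (p ⊗ₜ[X.sheaf.obj.obj (op W)] f)) := by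
    intro W W' l p f
    have hp := mem_span_gen (O := X.sheaf) p
    induction hp using Submodule.span_induction with
    | zero => simp only [map_zero, TensorProduct.zero_tmul]
    | add x y _ _ hx hy => simp only [map_add, TensorProduct.add_tmul, hx, hy]
    | smul r x _ hx =>
      rw [resP_smul, ← TensorProduct.smul_tmul', ← TensorProduct.smul_tmul', map_smul, map_smul, res_smul (O := X.sheaf), hx]
    | mem x hx =>
      obtain ⟨k, rfl⟩ := hx
      rw [resP_gen, happ, happ, hψ]
  let φ : freeP X.sheaf V ⊗ (fg X.sheaf).obj F ⟶ (fg X.sheaf).obj G :=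
    { app := fun W => ModuleCat.ofHom (app W.unop)
      naturality := fun {W W'} l => by
        obtain ⟨W⟩ := W
        obtain ⟨W'⟩ := W'
        obtain ⟨l, rfl⟩ : ∃ l' : W' ⟶ W, l = l'.op := ⟨l.unop, rfl⟩
        exact ModuleCat.MonoidalCategory.tensor_ext fun p f => hres W W' l p f }
  obtain ⟨σ, hσ⟩ := (bijective_uncurryP (O := X.sheaf) F G (freeP X.sheaf V)).2 φ
  refine ⟨(σ.app (op V)).hom (gen (𝟙 V)), fun f => ?_⟩
  refine Eq.trans ?_ (happ V (𝟙 V) f)
  exact congrArg (fun q : freeP X.sheaf V ⊗ (fg X.sheaf).obj F ⟶ (fg X.sheaf).obj G =>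
    (q.app (op V)).hom (gen (𝟙 V) ⊗ₜ[X.sheaf.obj.obj (op V)] f)) hσ

set_option maxHeartbeats 1000000 in
/-- **The stalk of the internal hom out of a coherent module.** -/
theorem bijective_theta [IsLocallyNoetherian X] (hF : Coh.IsCoh F) (G : X.Modules) :
    Function.Bijective (theta F x G) := by
  classical
  obtain ⟨U, hU, hxU, -⟩ := exists_isAffineOpen_mem_and_subset (X := X) (x := x) (U := ⊤) trivial
  obtain ⟨m, l, e, r, hr, hgen, hrel⟩ := exists_pres F hF hU
  refine ⟨(injective_iff_map_eq_zero _).2 fun z hz => ?_, fun L => ?_⟩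
  · obtain ⟨W, hxW, t, rfl⟩ := exists_gm (toPres.obj (hm F G)) z
    let V₀ := W ⊓ U
    let t₀ := res (O := X.sheaf) ((fg X.sheaf).obj ((ModSite.sheafHom (O := X.sheaf) F).obj G))
      (homOfLE (inf_le_left : V₀ ≤ W)).op t
    let e₀ : Fin m → ((fg X.sheaf).obj F).obj (op V₀) := fun i =>
      res (O := X.sheaf) ((fg X.sheaf).obj F) (homOfLE (inf_le_right : V₀ ≤ U)).op (e i)
    have hv : ∀ i, gm (toPres.obj G) (⟨hxW, hxU⟩ : x ∈ V₀) (evSec (O := X.sheaf) F G t₀ (e₀ i)) = 0 := fun i => by
      rw [← theta_germ, show gm (toPres.obj (hm F G)) (⟨hxW, hxU⟩ : x ∈ V₀) t₀ =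
        gm (toPres.obj (hm F G)) hxW t from gm_res _ inf_le_left _ t, hz]
      rfl
    have hxV₀ : x ∈ V₀ := ⟨hxW, hxU⟩
    choose V hxV iV iV' eV using fun i => gm_eq (toPres.obj G) hxV₀ hxV₀
      ((hv i).trans (map_zero (gm (toPres.obj G) hxV₀)).symm)
    let V' : X.Opens := V₀ ⊓ Finset.univ.inf V
    have hxV' : x ∈ V' := ⟨⟨hxW, hxU⟩, Finset.inf_induction (p := fun Z : X.Opens => x ∈ Z) trivial
      (fun _ h₁ _ h₂ => ⟨h₁, h₂⟩) fun j _ => hxV j⟩
    have h0 : res (O := X.sheaf) ((fg X.sheaf).obj ((ModSite.sheafHom (O := X.sheaf) F).obj G))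
        (homOfLE (inf_le_left : V' ≤ V₀)).op t₀ = 0 := by
      refine eq_zero_of_evSec F G _ fun W' k f => QCohLib.section_ext _ _ fun y hy => ?_
      have hyU : y ∈ U := (k.le hy).1.2
      obtain ⟨c, hc⟩ := hgen y hyU (gm (toPres.obj F) hy f)
      refine Eq.trans (theta_germ F y G hy _ f).symm (Eq.trans ?_ (map_zero (gm (toPres.obj G) hy)).symm)
      rw [← hc, map_sum]
      refine Finset.sum_eq_zero fun i _ => ?_
      rw [map_smul]
      refine (congrArg (c i • ·) ?_).trans (smul_zero _)
      have e1 : gm (toPres.obj (hm F G)) hy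
          (res (O := X.sheaf) ((fg X.sheaf).obj ((ModSite.sheafHom (O := X.sheaf) F).obj G)) k.op
            (res (O := X.sheaf) ((fg X.sheaf).obj ((ModSite.sheafHom (O := X.sheaf) F).obj G))
              (homOfLE (inf_le_left : V' ≤ V₀)).op t₀)) =
          gm (toPres.obj (hm F G)) (k.le hy).1 t₀ :=
        (gm_res _ k.le hy _).trans (gm_res _ inf_le_left _ t₀)
      rw [e1]
      have e2 : F.presheaf.germ U y hyU (e i) = gm (toPres.obj F) (k.le hy).1 (e₀ i) :=
        (gm_res (toPres.obj F) inf_le_right (k.le hy).1 (e i)).symm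
      rw [e2, theta_germ]
      have hj : y ∈ V i := (Finset.inf_le (Finset.mem_univ i) : Finset.univ.inf V ≤ V i) (k.le hy).2
      have e3 := congrArg (gm (toPres.obj G) hj) (eV i)
      rw [map_zero (rs (toPres.obj G) _), map_zero] at e3
      exact (gm_res _ (iV i) hj _).symm.trans e3
    rw [show gm (toPres.obj (hm F G)) hxW t =
      gm (toPres.obj (hm F G)) hxV'
        (res (O := X.sheaf) ((fg X.sheaf).obj ((ModSite.sheafHom (O := X.sheaf) F).obj G))
          (homOfLE (inf_le_left : V' ≤ V₀)).op t₀) from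
      ((gm_res _ inf_le_left hxV' t₀).trans (gm_res _ inf_le_left _ t)).symm, h0, map_zero]
    rfl
  · -- sections with the prescribed values
    have H : ∀ (k : ℕ) (t : Fin k → G.presheaf.stalk x), ∃ (W : X.Opens) (_ : W ≤ U) (hxW : x ∈ W)
        (g : Fin k → Γ(G, W)), ∀ i, G.presheaf.germ W x hxW (g i) = t i := by
      intro k
      induction k with
      | zero => exact fun t => ⟨U, le_rfl, hxU, fun i => i.elim0, fun i => i.elim0⟩
      | succ k ih =>
        intro t
        obtain ⟨W, hWU, hxW, s, hs⟩ := ih fun i => t i.succ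
        obtain ⟨W', hxW', s', hs'⟩ := G.presheaf.exists_germ_eq (t 0)
        refine ⟨W ⊓ W', inf_le_left.trans hWU, ⟨hxW, hxW'⟩,
          Fin.cons (G.presheaf.map (homOfLE inf_le_right).op s') (fun i => G.presheaf.map (homOfLE inf_le_left).op (s i)),
          Fin.cases ?_ fun i => ?_⟩
        · rw [Fin.cons_zero]
          exact (TopCat.Presheaf.germ_res_apply G.presheaf _ x _ s').trans hs'
        · rw [Fin.cons_succ]
          exact (TopCat.Presheaf.germ_res_apply G.presheaf _ x _ (s i)).trans (hs i)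
    obtain ⟨W, hWU, hxW, g, hg⟩ := H m fun i => L (F.presheaf.germ U x hxU (e i))
    have hrel' : ∀ j, G.presheaf.germ W x hxW (∑ i, X.presheaf.map (homOfLE hWU).op (r j i) • g i) = 0 := fun j => by
      rw [map_sum]
      simp only [QCohLib.germ_smul, TopCat.Presheaf.germ_res_apply, hg]
      simp only [← map_smul, ← map_sum, ← QCohLib.germ_smul, hr, map_zero]
    choose V hxV iV iV' eV using fun j => TopCat.Presheaf.germ_eq G.presheaf x hxW hxW _ _
      ((hrel' j).trans (map_zero (G.presheaf.germ W x hxW).hom).symm)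
    let V' : X.Opens := W ⊓ Finset.univ.inf V
    have hV'W : V' ≤ W := inf_le_left
    have hV'U : V' ≤ U := hV'W.trans hWU
    have hxV' : x ∈ V' := ⟨hxW, Finset.inf_induction (p := fun Z : X.Opens => x ∈ Z) trivial
      (fun _ h₁ _ h₂ => ⟨h₁, h₂⟩) fun j _ => hxV j⟩
    have hy0 : ∀ (y : X) (hy : y ∈ V') (c : Fin m → X.presheaf.stalk y),
        ∑ i, c i • F.presheaf.germ U y (hV'U hy) (e i) = 0 → ∑ i, c i • G.presheaf.germ W y (hV'W hy) (g i) = 0 := by
      intro y hy c hc
      refine Submodule.span_induction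
        (p := fun c _ => ∑ i, c i • G.presheaf.germ W y (hV'W hy) (g i) = 0) ?_ ?_ ?_ ?_ (hrel y (hV'U hy) c hc)
      · rintro _ ⟨j, rfl⟩
        have hj : y ∈ V j := (Finset.inf_le (Finset.mem_univ j) : Finset.univ.inf V ≤ V j) hy.2
        have e' := congrArg (G.presheaf.germ (V j) y hj).hom (eV j)
        erw [map_zero, map_zero] at e'
        erw [TopCat.Presheaf.germ_res_apply, map_sum] at e'
        simp only [QCohLib.germ_smul, TopCat.Presheaf.germ_res_apply] at e'
        exact e'
      · simp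
      · intro c d _ _ hc hd
        simp only [Pi.add_apply, add_smul, Finset.sum_add_distrib, hc, hd, add_zero]
      · intro t c _ hc
        simp only [Pi.smul_apply, smul_eq_mul, mul_smul, ← Finset.smul_sum, hc, smul_zero]
    have hLy : ∀ (y : X) (hy : y ∈ V'), ∃ Ly : F.presheaf.stalk y →ₗ[X.presheaf.stalk y] G.presheaf.stalk y,
        ∀ i, Ly (F.presheaf.germ U y (hV'U hy) (e i)) = G.presheaf.germ W y (hV'W hy) (g i) := by
      intro y hy
      let P := Fintype.linearCombination (X.presheaf.stalk y) (fun i => F.presheaf.germ U y (hV'U hy) (e i))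
      let Q := Fintype.linearCombination (X.presheaf.stalk y) (fun i => G.presheaf.germ W y (hV'W hy) (g i))
      have hP : Function.Surjective P := fun z => by
        obtain ⟨c, hc⟩ := hgen y (hV'U hy) z
        exact ⟨c, (Fintype.linearCombination_apply _ _ _).trans hc⟩
      have hle : LinearMap.ker P ≤ LinearMap.ker Q := fun c hc => by
        rw [LinearMap.mem_ker, Fintype.linearCombination_apply] at hc ⊢
        exact hy0 y hy c hc
      refine ⟨(LinearMap.ker P).liftQ Q hle ∘ₗ (LinearMap.quotKerEquivOfSurjective P hP).symm.toLinearMap,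
        fun i => ?_⟩
      have e1 : P (Pi.single i 1) = F.presheaf.germ U y (hV'U hy) (e i) := by
        rw [Fintype.linearCombination_apply_single, one_smul]
      rw [← e1, LinearMap.comp_apply, LinearEquiv.coe_coe, LinearMap.quotKerEquivOfSurjective_symm_apply]
      refine ((LinearMap.ker P).liftQ_apply Q (Pi.single i 1)).trans ?_
      exact (Fintype.linearCombination_apply_single _ _ _ _).trans (one_smul _ _)
    choose Ly hLy' using hLy
    have hex : ∀ (Z : X.Opens) (k : Z ⟶ V') (f : Γ(F, Z)), ∃ s : Γ(G, Z),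
        ∀ (y : X) (hy : y ∈ Z), G.presheaf.germ Z y hy s = Ly y (k.le hy) (F.presheaf.germ Z y hy f) := by
      intro Z k f
      have hloc : ∀ y : Z, ∃ (N : X.Opens) (_ : (y : X) ∈ N) (hN : N ≤ Z) (s : Γ(G, N)),
          ∀ (w : X) (hw : w ∈ N), G.presheaf.germ N w hw s = Ly w (k.le (hN hw)) (F.presheaf.germ Z w (hN hw) f) := by
        rintro ⟨y, hy⟩
        obtain ⟨a, ha⟩ := hgen y (hV'U (k.le hy)) (F.presheaf.germ Z y hy f)
        obtain ⟨N₁, hN₁, hyN₁, c, hc⟩ := exists_common a hy
        obtain rfl : a = fun i => (X.presheaf.germ N₁ y hyN₁).hom (c i) := funext fun i => (hc i).symm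
        have e1 : F.presheaf.germ N₁ y hyN₁
            (∑ i, c i • F.presheaf.map (homOfLE (hN₁.trans (k.le.trans hV'U))).op (e i)) =
            F.presheaf.germ N₁ y hyN₁ (F.presheaf.map (homOfLE hN₁).op f) := by
          rw [map_sum]
          simp only [QCohLib.germ_smul, TopCat.Presheaf.germ_res_apply]
          exact ha
        obtain ⟨N, hyN, i₁, i₂, eN⟩ := TopCat.Presheaf.germ_eq F.presheaf y hyN₁ hyN₁ _ _ e1
        refine ⟨N, hyN, i₁.le.trans hN₁, G.presheaf.map i₁.op
          (∑ i, c i • G.presheaf.map (homOfLE (hN₁.trans (k.le.trans hV'W))).op (g i)), fun w hw => ?_⟩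
        have e2 := congrArg (F.presheaf.germ N w hw).hom eN
        erw [TopCat.Presheaf.germ_res_apply, TopCat.Presheaf.germ_res_apply, map_sum, TopCat.Presheaf.germ_res_apply] at e2
        simp only [QCohLib.germ_smul, TopCat.Presheaf.germ_res_apply] at e2
        erw [← e2, TopCat.Presheaf.germ_res_apply]
        rw [map_sum, map_sum]
        refine Finset.sum_congr rfl fun i _ => ?_
        refine Eq.trans ?_ ((map_smul (Ly w _) _ _).trans (congrArg (_ • ·) (hLy' w _ i))).symm
        rw [QCohLib.germ_smul, TopCat.Presheaf.germ_res_apply]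
      choose N hyN hN s hs using hloc
      obtain ⟨s', hs', -⟩ := TopCat.Sheaf.existsUnique_gluing' ⟨G.presheaf, G.isSheaf⟩ N Z (fun y => homOfLE (hN y))
        (fun y hy => Opens.mem_iSup.2 ⟨⟨y, hy⟩, hyN ⟨y, hy⟩⟩) s (fun a b => by
          refine QCohLib.section_ext _ _ fun w hw => ?_
          erw [TopCat.Presheaf.germ_res_apply, TopCat.Presheaf.germ_res_apply, hs, hs])
      refine ⟨s', fun y hy => ?_⟩
      have e3 := congrArg (G.presheaf.germ (N ⟨y, hy⟩) y (hyN ⟨y, hy⟩)).hom (hs' ⟨y, hy⟩)
      erw [TopCat.Presheaf.germ_res_apply, hs] at e3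
      exact e3
    choose ψ₀ hψ₀ using hex
    let ψ : ∀ (Z : X.Opens), (Z ⟶ V') → (Γ(F, Z) →ₗ[Γ(X, Z)] Γ(G, Z)) := fun Z k =>
      { toFun := ψ₀ Z k
        map_add' := fun a b => QCohLib.section_ext _ _ fun y hy => by
          rw [map_add, hψ₀, hψ₀, hψ₀, map_add, map_add]
        map_smul' := fun c a => QCohLib.section_ext _ _ fun y hy => by
          rw [RingHom.id_apply, QCohLib.germ_smul, hψ₀, hψ₀, QCohLib.germ_smul, map_smul] }
    obtain ⟨t, ht⟩ := exists_section F G (V := V') ψ (fun Z Z' q k f => QCohLib.section_ext _ _ fun y hy => by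
      refine (TopCat.Presheaf.germ_res_apply G.presheaf q y hy _).trans ?_
      refine (hψ₀ Z k f y (q.le hy)).trans ((congrArg (Ly y _) ?_).trans (hψ₀ Z' (q ≫ k) _ y hy).symm)
      exact (TopCat.Presheaf.germ_res_apply F.presheaf q y hy f).symm)
    refine ⟨gm (toPres.obj (hm F G)) hxV' t, LinearMap.ext fun z => ?_⟩
    obtain ⟨c, rfl⟩ := hgen x hxU z
    rw [map_sum, map_sum]
    refine Finset.sum_congr rfl fun i _ => ?_
    rw [map_smul, map_smul]
    refine congrArg (c i • ·) ?_
    rw [show F.presheaf.germ U x hxU (e i) = gm (toPres.obj F) hxV'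
      (F.presheaf.map (homOfLE hV'U).op (e i)) from (TopCat.Presheaf.germ_res_apply F.presheaf _ x hxV' (e i)).symm]
    refine (theta_germ F x G hxV' t _).trans ?_
    rw [ht]
    refine (hψ₀ V' (𝟙 V') _ x hxV').trans ?_
    erw [TopCat.Presheaf.germ_res_apply, hLy', hg]

end Groth.Agent.CohDual.StalkHom
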