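import Groth.Agent.CohDual.AdjExt

/-!
# The right adjoint of an idempotent quotient monad

`μ : 𝟭 ⟶ T` componentwise epi with every `T μ` invertible, `T ⊣ R`: the objects with `μ` invertible contain the
values of `R`, are closed under subobjects, and give acyclicity data by the extension property.
-/

set_option autoImplicit false
set_option linter.style.haveILetI false

open CategoryTheory CategoryTheory.Limits CategoryTheory.Abelian

namespace Groth.Agent.CohDual.Idem

universe v u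

variable {C : Type u} [Category.{v} C] [Abelian C] {T R : C ⥤ C} (μ : 𝟭 C ⟶ T)

/-- The objects fixed by the monad. -/
def InK (X : C) : Prop := IsIso (μ.app X)

variable {μ}

/-- The unit is invertible at the values of the right adjoint. -/
lemma inK_obj (adj : T ⊣ R) (hepi : ∀ X, Epi (μ.app X)) (hT : ∀ X, IsIso (T.map (μ.app X))) (Z : C) :
    InK μ (R.obj Z) := by
  haveI := hepi (R.obj Z)
  haveI := hT (R.obj Z)
  let r : T.obj (R.obj Z) ⟶ R.obj Z :=
    adj.homEquiv _ _ (inv (T.map (μ.app (R.obj Z))) ≫ adj.counit.app Z)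
  have h : μ.app (R.obj Z) ≫ r = 𝟙 _ := by
    refine (adj.homEquiv_naturality_left _ _).symm.trans ?_
    rw [IsIso.hom_inv_id_assoc]
    exact (adj.homEquiv_unit _ _ _).trans (adj.right_triangle_components Z)
  haveI : IsSplitMono (μ.app (R.obj Z)) := IsSplitMono.mk' ⟨r, h⟩
  exact isIso_of_mono_of_epi _

lemma inK_of_mono (hepi : ∀ X, Epi (μ.app X)) {X Y : C} (f : X ⟶ Y) [Mono f] (hY : InK μ Y) : InK μ X := by
  haveI := hepi X
  haveI : IsIso (μ.app Y) := hY
  haveI : Mono (f ≫ μ.app Y) := mono_comp _ _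
  haveI : Mono (μ.app X ≫ T.map f) := by
    rw [← μ.naturality f]
    exact inferInstanceAs (Mono (f ≫ μ.app Y))
  haveI : Mono (μ.app X) := mono_of_mono _ (T.map f)
  exact isIso_of_mono_of_epi _

lemma inK_of_iso (hepi : ∀ X, Epi (μ.app X)) {X Y : C} (e : X ≅ Y) (hX : InK μ X) : InK μ Y :=
  inK_of_mono hepi e.inv hX

lemma inK_biprod [T.Additive] {X Y : C} (hX : InK μ X) (hY : InK μ Y) : InK μ (X ⊞ Y) := by
  haveI : IsIso (μ.app X) := hX
  haveI : IsIso (μ.app Y) := hY
  refine ⟨⟨T.map biprod.fst ≫ inv (μ.app X) ≫ biprod.inl + T.map biprod.snd ≫ inv (μ.app Y) ≫ biprod.inr,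
    ?_, ?_⟩⟩
  · rw [Preadditive.comp_add, ← μ.naturality_assoc, ← μ.naturality_assoc]
    simp only [Functor.id_map, IsIso.hom_inv_id_assoc]
    exact biprod.total
  · simp only [Preadditive.add_comp, Category.assoc]
    have e₁ : biprod.inl ≫ μ.app (X ⊞ Y) = μ.app X ≫ T.map biprod.inl := μ.naturality biprod.inl
    have e₂ : biprod.inr ≫ μ.app (X ⊞ Y) = μ.app Y ≫ T.map biprod.inr := μ.naturality biprod.inr
    erw [e₁, e₂]
    simp only [IsIso.inv_hom_id_assoc]
    rw [← T.map_comp, ← T.map_comp, ← T.map_add, biprod.total, T.map_id]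

lemma inK_of_epi [PreservesFiniteColimits T] [T.Additive] (hepi : ∀ X, Epi (μ.app X)) {X Y : C} (f : X ⟶ Y)
    [Epi f] (hX : InK μ X) : InK μ Y := by
  haveI := hepi
  haveI : IsIso (μ.app X) := hX
  let S : ShortComplex C := ShortComplex.mk (kernel.ι f) f (kernel.condition f)
  have hS : S.ShortExact := { exact := ShortComplex.exact_kernel f }
  obtain ⟨hex, hepi'⟩ := ((Functor.preservesFiniteColimits_tfae T).out 3 0 rfl rfl).1 inferInstance S hS
  haveI : Epi (T.map f) := hepi'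
  haveI : Epi (S.map T).g := hepi'
  have hw : T.map (kernel.ι f) ≫ inv (μ.app X) ≫ f = 0 := by
    rw [← cancel_epi (μ.app (kernel f)), comp_zero, ← μ.naturality_assoc]
    simp
  obtain ⟨k, hk⟩ : ∃ k : T.obj X ⟶ Y, k = inv (μ.app X) ≫ f := ⟨_, rfl⟩
  rw [← hk] at hw
  let r : T.obj Y ⟶ Y := hex.desc k hw
  have hr : T.map f ≫ r = inv (μ.app X) ≫ f := (hex.g_desc k hw).trans hk
  have h : μ.app Y ≫ r = 𝟙 Y := by
    rw [← cancel_epi f, Category.comp_id]
    have e : f ≫ μ.app Y = μ.app X ≫ T.map f := μ.naturality f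
    rw [← Category.assoc]
    erw [e]
    rw [Category.assoc, hr, IsIso.hom_inv_id_assoc]
  haveI : IsSplitMono (μ.app Y) := IsSplitMono.mk' ⟨r, h⟩
  exact isIso_of_mono_of_epi _

variable (μ)

/-- The extension property against monomorphisms into fixed objects. -/
def Extends (M : C) : Prop :=
  ∀ (A B : C) (f : A ⟶ B), Mono f → InK μ B → ∀ g : A ⟶ M, ∃ h, f ≫ h = g

variable {μ}

lemma extends_obj_injective (adj : T ⊣ R) (hepi : ∀ X, Epi (μ.app X)) (I : C) (hI : Injective I) :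
    Extends μ (R.obj I) := by
  intro A B f hf hB g
  haveI : IsIso (μ.app A) := inK_of_mono hepi f hB
  haveI : IsIso (μ.app B) := hB
  haveI : Mono (T.map f) := by
    have e : T.map f = inv (μ.app A) ≫ f ≫ μ.app B := by
      rw [show f ≫ μ.app B = μ.app A ≫ T.map f from μ.naturality f, IsIso.inv_hom_id_assoc]
    rw [e]
    exact mono_comp _ _
  refine ⟨adj.homEquiv _ _ (Injective.factorThru ((adj.homEquiv _ _).symm g) (T.map f)), ?_⟩
  rw [← adj.homEquiv_naturality_left, Injective.comp_factorThru, Equiv.apply_symm_apply]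

lemma exists_lift [T.Additive] (hepi : ∀ X, Epi (μ.app X)) (S : ShortComplex C) (hS : S.ShortExact)
    (h₁ : Extends μ S.X₁) (h₂ : InK μ S.X₂) {G : C} (hG : InK μ G) (φ : G ⟶ S.X₃) :
    ∃ ψ, ψ ≫ S.g = φ := by
  haveI := hS.mono_f
  haveI := hS.epi_g
  let ι : pullback S.g φ ⟶ S.X₂ ⊞ G := biprod.lift (pullback.fst S.g φ) (pullback.snd S.g φ)
  haveI : Mono ι := ⟨fun a b h => pullback.hom_ext
    (by simpa [ι] using congrArg (· ≫ biprod.fst) h) (by simpa [ι] using congrArg (· ≫ biprod.snd) h)⟩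
  have hE : InK μ (pullback S.g φ) := inK_of_mono hepi ι (inK_biprod h₂ hG)
  let j : S.X₁ ⟶ pullback S.g φ := pullback.lift S.f 0 (by rw [S.zero, zero_comp])
  have hj : Mono j := by
    have : Mono (j ≫ pullback.fst S.g φ) := by rw [pullback.lift_fst]; infer_instance
    exact mono_of_mono j (pullback.fst S.g φ)
  obtain ⟨r, hr⟩ := h₁ _ _ j hj hE (𝟙 _)
  have hk : kernel.ι (pullback.snd S.g φ) ≫ (pullback.fst S.g φ - r ≫ S.f) = 0 := by
    obtain ⟨l, hl⟩ : ∃ l, l ≫ S.f = kernel.ι (pullback.snd S.g φ) ≫ pullback.fst S.g φ :=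
      ⟨hS.exact.lift _ (by rw [Category.assoc, pullback.condition, kernel.condition_assoc, zero_comp]),
        hS.exact.lift_f _ _⟩
    have e : kernel.ι (pullback.snd S.g φ) = l ≫ j :=
      pullback.hom_ext (by rw [Category.assoc, pullback.lift_fst, hl])
        (by rw [Category.assoc, pullback.lift_snd, comp_zero, kernel.condition])
    rw [e, Category.assoc, Preadditive.comp_sub, pullback.lift_fst, ← Category.assoc j, hr, Category.id_comp,
      sub_self, comp_zero]
  refine ⟨Abelian.epiDesc (pullback.snd S.g φ) _ hk, ?_⟩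
  rw [← cancel_epi (pullback.snd S.g φ), ← Category.assoc, Abelian.comp_epiDesc, Preadditive.sub_comp,
    Category.assoc, S.zero, comp_zero, sub_zero, pullback.condition]

lemma extends_X₃ [T.Additive] (hepi : ∀ X, Epi (μ.app X)) (S : ShortComplex C) (hS : S.ShortExact)
    (h₁ : Extends μ S.X₁) (h₂ : Extends μ S.X₂) (hK : InK μ S.X₂) : Extends μ S.X₃ := by
  intro A B f hf hB g
  obtain ⟨ψ, hψ⟩ := exists_lift hepi S hS h₁ hK (inK_of_mono hepi f hB) g
  obtain ⟨h, hh⟩ := h₂ A B f hf hB ψ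
  exact ⟨h ≫ S.g, by rw [← Category.assoc, hh, hψ]⟩

lemma extends_X₂ [T.Additive] (hepi : ∀ X, Epi (μ.app X)) (S : ShortComplex C) (hS : S.ShortExact)
    (h₁ : Extends μ S.X₁) (h₃ : Extends μ S.X₃) (hK : InK μ S.X₂) : Extends μ S.X₂ := by
  intro A B f hf hB g
  obtain ⟨h3, hh3⟩ := h₃ A B f hf hB (g ≫ S.g)
  obtain ⟨h, hh⟩ := exists_lift hepi S hS h₁ hK hB h3
  haveI := hS.mono_f
  obtain ⟨l, hl⟩ : ∃ l, l ≫ S.f = g - f ≫ h :=
    ⟨hS.exact.lift _ (by rw [Preadditive.sub_comp, Category.assoc, hh, hh3, sub_self]), hS.exact.lift_f _ _⟩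
  obtain ⟨m, hm⟩ := h₁ A B f hf hB l
  exact ⟨h + m ≫ S.f, by rw [Preadditive.comp_add, ← Category.assoc f m, hm, hl, add_sub_cancel]⟩

lemma extends_of_isZero {M : C} (hM : IsZero M) : Extends μ M :=
  fun _ _ _ _ _ g => ⟨0, hM.eq_of_tgt _ g⟩

/-- The acyclicity data. -/
noncomputable def acyData [T.Additive] (adj : T ⊣ R) (hepi : ∀ X, Epi (μ.app X))
    (hT : ∀ X, IsIso (T.map (μ.app X))) : AcyData T R where
  Acy := Extends μ
  InK := InK μ
  InG := InK μ
  inK := inK_obj adj hepi hT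
  acy_inj := extends_obj_injective adj hepi
  quot := extends_X₃ hepi
  mid := extends_X₂ hepi
  ofIso e h A B f hf hB g := by
    obtain ⟨m, hm⟩ := h A B f hf hB (g ≫ e.inv)
    exact ⟨m ≫ e.hom, by rw [← Category.assoc, hm, Category.assoc, e.inv_hom_id, Category.comp_id]⟩
  lift S hS h₁ h₂ _ hG φ := exists_lift hepi S hS h₁ h₂ hG φ

end Groth.Agent.CohDual.Idem
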