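import Groth.Agent.ModGroth.StalkBasis
import Groth.Agent.ModGroth.SheafHomExact
import Groth.Agent.QCohLib.StalkLoc
import Mathlib.Algebra.Module.Injective
import Mathlib.CategoryTheory.Abelian.Basic
import Mathlib.RingTheory.Noetherian.Basic

/-!
# Stalks of injective sheaves of modules on locally Noetherian schemes
-/

set_option autoImplicit false
set_option linter.style.haveILetI false

universe u

open CategoryTheory CategoryTheory.Limits Opposite AlgebraicGeometry TopologicalSpace

namespace Groth.Agent.CohDual.InjStalk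

open Groth.Agent.ModGroth Stalk

variable {X : Scheme.{u}}

/-- Relations between germs of functions on an affine open come from relations between the functions. -/
lemma exists_rel {U : X.Opens} (hU : IsAffineOpen U) {m : ℕ} (α : Fin m → Γ(X, U)) [IsNoetherianRing Γ(X, U)] :
    ∃ (l : ℕ) (r : Fin l → Fin m → Γ(X, U)), (∀ j, ∑ i, r j i * α i = 0) ∧
      ∀ (y : X) (hy : y ∈ U) (c : Fin m → X.presheaf.stalk y),
        ∑ i, c i * X.presheaf.germ U y hy (α i) = 0 →
          c ∈ Submodule.span (X.presheaf.stalk y)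
            (Set.range fun j => fun i => X.presheaf.germ U y hy (r j i)) := by
  obtain ⟨l, r, hr⟩ := Submodule.fg_iff_exists_fin_generating_family.1
    (IsNoetherian.noetherian (LinearMap.ker (Fintype.linearCombination Γ(X, U) α)))
  refine ⟨l, r, fun j => ?_, fun y hy c hc => ?_⟩
  · have h : r j ∈ LinearMap.ker (Fintype.linearCombination Γ(X, U) α) :=
      hr ▸ Submodule.subset_span ⟨j, rfl⟩
    rw [LinearMap.mem_ker, Fintype.linearCombination_apply] at h
    simpa only [smul_eq_mul] using h
  · let _ : Algebra Γ(X, U) (X.presheaf.stalk y) := (X.presheaf.germ U y hy).hom.toAlgebra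
    have hloc := hU.isLocalization_stalk ⟨y, hy⟩
    let p := (hU.primeIdealOf ⟨y, hy⟩).asIdeal.primeCompl
    haveI : IsLocalization p (X.presheaf.stalk y) := hloc
    obtain ⟨⟨b, hb⟩, hb'⟩ := IsLocalization.exist_integer_multiples_of_finite p c
    choose e he using hb'
    simp only [Algebra.smul_def] at he
    have h0 : algebraMap Γ(X, U) (X.presheaf.stalk y) (∑ i, e i * α i) =
        algebraMap Γ(X, U) (X.presheaf.stalk y) 0 := by
      rw [map_sum, map_zero]
      simp only [map_mul, he, mul_assoc]
      rw [← Finset.mul_sum]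
      exact mul_eq_zero_of_right _ hc
    obtain ⟨⟨t, ht⟩, ht'⟩ := (IsLocalization.eq_iff_exists p (X.presheaf.stalk y)).1 h0
    have hk : (fun i => t * e i) ∈ LinearMap.ker (Fintype.linearCombination Γ(X, U) α) := by
      rw [LinearMap.mem_ker, Fintype.linearCombination_apply]
      simp only [smul_eq_mul, mul_assoc]
      rw [← Finset.mul_sum, ht', mul_zero]
    rw [← hr] at hk
    let g : (Fin m → Γ(X, U)) →ₗ[Γ(X, U)] (Fin m → X.presheaf.stalk y) :=
      (Algebra.linearMap Γ(X, U) (X.presheaf.stalk y)).compLeft (Fin m)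
    have hu : IsUnit (algebraMap Γ(X, U) (X.presheaf.stalk y) (t * b)) :=
      IsLocalization.map_units (X.presheaf.stalk y) (⟨t, ht⟩ * ⟨b, hb⟩ : p)
    have hmem : g (fun i => t * e i) ∈ Submodule.span (X.presheaf.stalk y)
        (Set.range fun j => g (r j)) := by
      refine Submodule.span_le_restrictScalars Γ(X, U) _ _ ?_
      have h := Submodule.mem_map_of_mem (f := g) hk
      rw [Submodule.map_span, ← Set.range_comp] at h
      exact h
    have heq : g (fun i => t * e i) = algebraMap Γ(X, U) (X.presheaf.stalk y) (t * b) • c := funext fun i => by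
      change algebraMap _ _ (t * e i) = algebraMap _ _ (t * b) * c i
      rw [map_mul, map_mul, he, mul_assoc]
    rw [heq] at hmem
    exact (Submodule.smul_mem_iff_of_isUnit _ hu).1 hmem

/-- In an abelian category, `b` factors through an adjoint of an injective object if it kills the kernel. -/
lemma exists_extend_adj {A B : Type*} [Category A] [Category B] [Abelian A] [HasZeroMorphisms B]
    {L : A ⥤ B} {R : B ⥤ A} (adj : L ⊣ R) [L.PreservesMonomorphisms] {Q P : A} (I : B) [Injective I]
    (a : Q ⟶ P) (b : Q ⟶ R.obj I) (h : kernel.ι a ≫ b = 0) : ∃ τ : P ⟶ R.obj I, a ≫ τ = b := by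
  let e := Abelian.factorThruImage a
  have hka : kernel.ι e ≫ a = 0 := by
    refine (congrArg (kernel.ι e ≫ ·) (Abelian.image.fac a).symm).trans ?_
    exact (kernel.condition_assoc e _).trans zero_comp
  have hcok : kernel.ι e ≫ b = 0 := by
    refine (congrArg (· ≫ b) (kernel.lift_ι a _ hka).symm).trans ?_
    rw [Category.assoc, h, comp_zero]
  let β : Abelian.image a ⟶ R.obj I :=
    (Abelian.epiIsCokernelOfKernel _ (kernelIsKernel e)).desc (CokernelCofork.ofπ b hcok)
  have hβ : e ≫ β = b := (Abelian.epiIsCokernelOfKernel _ (kernelIsKernel e)).fac _ WalkingParallelPair.one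
  let β' : L.obj (Abelian.image a) ⟶ I := (adj.homEquiv _ I).symm β
  refine ⟨adj.homEquiv _ I (Injective.factorThru β' (L.map (Abelian.image.ι a))), ?_⟩
  have h1 : Abelian.image.ι a ≫ adj.homEquiv _ I (Injective.factorThru β' (L.map (Abelian.image.ι a))) = β := by
    rw [← Adjunction.homEquiv_naturality_left, Injective.comp_factorThru]
    exact Equiv.apply_symm_apply _ _
  refine (congrArg (· ≫ _) (Abelian.image.fac a).symm).trans ?_
  rw [Category.assoc, h1]
  exact hβ

section Extend

variable (V : X.Opens) (m : ℕ)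

/-- `m` copies of the opens contained in `V`. -/
noncomputable abbrev copies : X.Opensᵒᵖ ⥤ Type u where
  obj W := (W.unop ⟶ V) × ULift.{u} (Fin m)
  map {W W'} k := ↾fun p => (k.unop ≫ p.1, p.2)

/-- The free presheaf on them. -/
noncomputable abbrev freeC : PM X.sheaf :=
  (PresheafOfModules.free (X.sheaf.obj ⋙ forget₂ CommRingCat.{u} RingCat.{u})).obj (copies V m)

variable {V m}

/-- The map sending the copies to given sections. -/
noncomputable def descC (G : PM X.sheaf) (v : Fin m → G.obj (op V)) : freeC V m ⟶ G :=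
  PresheafOfModules.freeHomEquiv.symm
    { app := fun W => ↾fun p => res (O := X.sheaf) G p.1.op (v p.2.down)
      naturality := fun W W' k => by
        refine ConcreteCategory.hom_ext _ _ fun p => ?_
        exact (res_comp (O := X.sheaf) G p.1.op k (v p.2.down)) }

lemma descC_single (G : PM X.sheaf) (v : Fin m → G.obj (op V)) {W : X.Opens} (p : (copies V m).obj (op W))
    (c : Γ(X, W)) :
    ((descC G v).app (op W)).hom (Finsupp.single p c) = c • res (O := X.sheaf) G p.1.op (v p.2.down) := by
  have h : ((descC G v).app (op W)).hom (ModuleCat.freeMk p) = res (O := X.sheaf) G p.1.op (v p.2.down) :=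
    ModuleCat.freeDesc_apply _ _
  have h' : (Finsupp.single p c : (freeC V m).obj (op W)) = c • (ModuleCat.freeMk (R := Γ(X, W)) p) := by
    exact ((Finsupp.smul_single c p (1 : Γ(X, W))).trans (congrArg (Finsupp.single p) (mul_one c))).symm
  exact (congrArg _ h').trans ((map_smul _ c _).trans (congrArg (c • ·) h))

lemma descC_sum (G : PM X.sheaf) (v : Fin m → G.obj (op V)) {W : X.Opens}
    (z : ((copies V m).obj (op W)) →₀ Γ(X, W)) :
    ((descC G v).app (op W)).hom z = z.sum fun p c => c • res (O := X.sheaf) G p.1.op (v p.2.down) := by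
  refine z.induction_linear ?_ (fun a b ha hb => ?_) fun p c => ?_
  · rw [Finsupp.sum_zero_index]; exact map_zero _
  · rw [Finsupp.sum_add_index' (by simp) (fun p (a b : Γ(X, W)) => add_smul a b _)]
    exact (map_add _ a b).trans (congrArg₂ (· + ·) ha hb)
  · rw [Finsupp.sum_single_index (by simp)]
    exact descC_single G v p c

/-- **Sections of an injective module extend along ideals of functions**: if the germs of `s` satisfy all
the relations of the germs of `α`, then `s = α σ` for a section `σ`. -/
theorem exists_extend (I : X.Modules) [Injective I] {m : ℕ} (α : Fin m → Γ(X, V))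
    (s : Fin m → Γ(I, V))
    (h : ∀ (y : X) (hy : y ∈ V) (c : Fin m → X.presheaf.stalk y),
      ∑ i, c i * X.presheaf.germ V y hy (α i) = 0 → ∑ i, c i • I.presheaf.germ V y hy (s i) = 0) :
    ∃ σ : Γ(I, V), ∀ i, α i • σ = s i := by
  let P : PM X.sheaf := LocBasis.freeP X.sheaf V
  let G : PM X.sheaf := (fg X.sheaf).obj I
  let g₀ : P.obj (op V) := LocBasis.gen (O := X.sheaf) (𝟙 V)
  let a : freeC V m ⟶ P := descC P fun i => α i • g₀
  let b : freeC V m ⟶ G := descC G s
  have key : ∀ (W : X.Opens) (z : ((copies V m).obj (op W)) →₀ Γ(X, W)),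
      (a.app (op W)).hom z = 0 → (b.app (op W)).hom z = 0 := by
    intro W z hz
    by_cases hW : W ≤ V
    swap
    · have : IsEmpty ((copies V m).obj (op W)) := ⟨fun p => hW p.1.le⟩
      rw [Subsingleton.elim z 0]
      exact map_zero (b.app (op W)).hom
    let k : W ⟶ V := homOfLE hW
    have hg : ∀ i : ULift.{u} (Fin m), res (O := X.sheaf) P k.op (α i.down • g₀) =
        Finsupp.single (M := Γ(X, W)) k ((X.presheaf.map k.op).hom (α i.down)) := fun i => by
      refine (res_smul (O := X.sheaf) P k.op _ g₀).trans ?_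
      refine (congrArg (_ • ·) (LocBasis.resP_gen (O := X.sheaf) k (𝟙 V))).trans ?_
      rw [Category.comp_id, LocBasis.gen]
      exact (Finsupp.smul_single _ _ _).trans (congrArg (Finsupp.single k) (mul_one _))
    let d : Fin m → Γ(X, W) := fun i => z (k, ⟨i⟩)
    have hsum : ∀ {N : Type u} [AddCommMonoid N] (f : (copies V m).obj (op W) → Γ(X, W) → N)
        (_ : ∀ p, f p 0 = 0),
        Finsupp.sum z f = ∑ i, f (k, ⟨i⟩) (d i) := by
      intro N _ f hf
      let eq : Fin m ≃ (copies V m).obj (op W) :=
        { toFun := fun i => (k, ⟨i⟩)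
          invFun := fun p => p.2.down
          left_inv := fun i => rfl
          right_inv := fun p => Prod.ext (Subsingleton.elim _ _) rfl }
      haveI : Fintype ((copies V m).obj (op W)) := Fintype.ofEquiv _ eq
      rw [Finsupp.sum_fintype _ _ hf]
      exact (Fintype.sum_equiv eq _ _ fun i => rfl).symm
    have h1 : ∑ i, d i * (X.presheaf.map k.op).hom (α i) = 0 := by
      have e := (descC_sum P (fun i => α i • g₀) z).symm.trans hz
      rw [hsum (fun p c => c • res (O := X.sheaf) P p.1.op (α p.2.down • g₀)) (fun p => zero_smul _ _)] at e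
      simp only [hg] at e
      have e' := congrArg (fun q : (W ⟶ V) →₀ Γ(X, W) => q k) e
      refine Eq.trans ?_ e'
      refine Eq.trans ?_ (Finsupp.finset_sum_apply _ _ _).symm
      refine Finset.sum_congr rfl fun i _ => ?_
      exact ((Finsupp.smul_apply _ _ _).trans (congrArg (_ * ·) Finsupp.single_eq_same)).symm
    refine (descC_sum G s z).trans ((hsum (fun p c => c • res (O := X.sheaf) G p.1.op (s p.2.down)) (fun p => zero_smul _ _)).trans ?_)
    refine QCohLib.section_ext _ _ fun y hy => ?_
    have h2 := congrArg (X.presheaf.germ W y hy).hom h1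
    rw [map_sum, map_zero] at h2
    simp only [map_mul] at h2
    erw [map_zero, map_sum]
    refine Eq.trans ?_ (h y (hW hy) (fun i => X.presheaf.germ W y hy (d i)) ?_)
    · refine Finset.sum_congr rfl fun i _ => ?_
      refine (QCohLib.germ_smul W y hy (d i) _).trans ?_
      exact congrArg (_ • ·) (TopCat.Presheaf.germ_res_apply I.presheaf k y hy (s i))
    · refine Eq.trans (Finset.sum_congr rfl fun i _ => ?_) h2
      exact congrArg (_ * ·) (TopCat.Presheaf.germ_res_apply X.presheaf k y hy (α i)).symm
  have he : kernel.ι a ≫ b = 0 := by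
    refine PresheafOfModules.hom_ext fun W => ModuleCat.hom_ext (LinearMap.ext fun z => ?_)
    refine key W.unop _ ?_
    exact congrArg (fun φ : kernel a ⟶ P => (φ.app W).hom z) (kernel.condition a)
  haveI : Injective (C := ModSite.Mod X.sheaf) I := inferInstanceAs (Injective (C := X.Modules) I)
  haveI : PreservesFiniteLimits (sh X.sheaf) := inferInstanceAs (PreservesFiniteLimits
    (PresheafOfModules.sheafification.{u} (𝟙 (ModSite.ringSh X.sheaf).obj)))
  haveI : (sh X.sheaf).PreservesMonomorphisms :=
    preservesMonomorphisms_of_preservesLimitsOfShape (sh X.sheaf)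
  obtain ⟨τ, hτ⟩ := exists_extend_adj (adjn X.sheaf) (L := sh X.sheaf) I a b he
  refine ⟨(τ.app (op V)).hom g₀, fun i => ?_⟩
  have h3 := congrArg (fun φ : freeC V m ⟶ G => (φ.app (op V)).hom (Finsupp.single ((𝟙 V, ⟨i⟩) : (copies V m).obj (op V)) (1 : Γ(X, V)))) hτ
  change (τ.app (op V)).hom ((a.app (op V)).hom _) = (b.app (op V)).hom _ at h3
  rw [descC_single, descC_single, one_smul, one_smul] at h3
  erw [res_id (O := X.sheaf), res_id (O := X.sheaf), map_smul] at h3
  exact h3

end Extend

/-- **The stalks of an injective module on a locally Noetherian scheme are injective.** -/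
theorem injective_stalk [IsLocallyNoetherian X] (I : X.Modules) (hI : Injective I) (x : X) :
    Module.Injective (X.presheaf.stalk x) (I.presheaf.stalk x) := by
  refine Module.Baer.injective fun a φ => ?_
  obtain ⟨U, hU, hxU, -⟩ := exists_isAffineOpen_mem_and_subset (X := X) (x := x) (U := ⊤) trivial
  haveI : IsNoetherianRing Γ(X, U) := IsLocallyNoetherian.component_noetherian ⟨U, hU⟩
  let _ : Algebra Γ(X, U) (X.presheaf.stalk x) := (X.presheaf.germ U x hxU).hom.toAlgebra
  haveI hloc := hU.isLocalization_stalk ⟨x, hxU⟩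
  haveI : IsNoetherianRing (X.presheaf.stalk x) :=
    IsLocalization.isNoetherianRing (hU.primeIdealOf ⟨x, hxU⟩).asIdeal.primeCompl _ inferInstance
  let 𝔞 := a.comap (algebraMap Γ(X, U) (X.presheaf.stalk x))
  obtain ⟨m, α, hα⟩ := Submodule.fg_iff_exists_fin_generating_family.1 (IsNoetherian.noetherian 𝔞)
  have hαmem : ∀ i, algebraMap Γ(X, U) (X.presheaf.stalk x) (α i) ∈ a := fun i =>
    show α i ∈ 𝔞 from hα ▸ Submodule.subset_span ⟨i, rfl⟩
  have hgen : a = Ideal.span (Set.range fun i => algebraMap Γ(X, U) (X.presheaf.stalk x) (α i)) := by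
    rw [← IsLocalization.map_comap (hU.primeIdealOf ⟨x, hxU⟩).asIdeal.primeCompl (X.presheaf.stalk x) a]
    change Ideal.map _ 𝔞 = _
    rw [show 𝔞 = Ideal.span (Set.range α) from hα.symm, Ideal.map_span, ← Set.range_comp]
    rfl
  obtain ⟨l, r, hr, hr'⟩ := exists_rel hU α
  obtain ⟨W, hWU, hxW, s, hs⟩ : ∃ (W : X.Opens) (_ : W ≤ U) (hxW : x ∈ W) (s : Fin m → Γ(I, W)),
      ∀ i, I.presheaf.germ W x hxW (s i) = φ ⟨_, hαmem i⟩ := by
    suffices H : ∀ (k : ℕ) (t : Fin k → I.presheaf.stalk x), ∃ (W : X.Opens) (_ : W ≤ U) (hxW : x ∈ W)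
        (s : Fin k → Γ(I, W)), ∀ i, I.presheaf.germ W x hxW (s i) = t i from H m fun i => φ ⟨_, hαmem i⟩
    intro k
    induction k with
    | zero => exact fun t => ⟨U, le_rfl, hxU, fun i => i.elim0, fun i => i.elim0⟩
    | succ k ih =>
      intro t
      obtain ⟨W, hWU, hxW, s, hs⟩ := ih fun i => t i.succ
      obtain ⟨W', hxW', s', hs'⟩ := I.presheaf.exists_germ_eq (t 0)
      refine ⟨W ⊓ W', inf_le_left.trans hWU, ⟨hxW, hxW'⟩,
        Fin.cons (I.presheaf.map (homOfLE inf_le_right).op s') (fun i => I.presheaf.map (homOfLE inf_le_left).op (s i)),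
        Fin.cases ?_ fun i => ?_⟩
      · rw [Fin.cons_zero]
        exact (TopCat.Presheaf.germ_res_apply I.presheaf _ x _ s').trans hs'
      · rw [Fin.cons_succ]
        exact (TopCat.Presheaf.germ_res_apply I.presheaf _ x _ (s i)).trans (hs i)
  have hrel : ∀ j, I.presheaf.germ W x hxW (∑ i, X.presheaf.map (homOfLE hWU).op (r j i) • s i) = 0 := fun j => by
    rw [map_sum]
    simp only [QCohLib.germ_smul, TopCat.Presheaf.germ_res_apply, hs]
    simp only [← map_smul, ← map_sum]
    refine (congrArg φ (Subtype.ext ?_)).trans (map_zero φ)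
    rw [AddSubmonoidClass.coe_finset_sum]
    change ∑ i, algebraMap Γ(X, U) (X.presheaf.stalk x) (r j i) * algebraMap Γ(X, U) (X.presheaf.stalk x) (α i) = 0
    simp only [← map_mul, ← map_sum, hr, map_zero]
  obtain ⟨V, hxV, hVW, hV⟩ : ∃ (V : X.Opens) (_ : x ∈ V) (hVW : V ≤ W),
      ∀ j, I.presheaf.map (homOfLE hVW).op (∑ i, X.presheaf.map (homOfLE hWU).op (r j i) • s i) = 0 := by
    choose V hxV iV iV' eV using fun j => TopCat.Presheaf.germ_eq I.presheaf x hxW hxW _ _
      ((hrel j).trans (map_zero (I.presheaf.germ W x hxW).hom).symm)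
    refine ⟨W ⊓ Finset.univ.inf V, ⟨hxW, ?_⟩, inf_le_left, fun j => ?_⟩
    · exact Finset.inf_induction (p := fun Z : X.Opens => x ∈ Z) trivial (fun _ h₁ _ h₂ => ⟨h₁, h₂⟩) fun j _ => hxV j
    · have hj : W ⊓ Finset.univ.inf V ≤ V j := inf_le_right.trans (Finset.inf_le (Finset.mem_univ j))
      have e := congrArg (I.presheaf.map (homOfLE hj).op).hom (eV j)
      erw [map_zero, map_zero] at e
      rw [Subsingleton.elim (homOfLE inf_le_left) (homOfLE hj ≫ iV j), op_comp, I.presheaf.map_comp]
      exact e
  obtain ⟨σ, hσ⟩ := exists_extend I (fun i => X.presheaf.map (homOfLE (hVW.trans hWU)).op (α i))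
    (fun i => I.presheaf.map (homOfLE hVW).op (s i)) fun y hy c hc => by
      simp only [TopCat.Presheaf.germ_res_apply] at hc ⊢
      have hc' := hr' y (hWU (hVW hy)) c hc
      refine Submodule.span_induction
        (p := fun c _ => ∑ i, c i • I.presheaf.germ W y (hVW hy) (s i) = 0) ?_ ?_ ?_ ?_ hc'
      · rintro _ ⟨j, rfl⟩
        have e := congrArg (I.presheaf.germ V y hy).hom (hV j)
        rw [map_zero] at e
        erw [TopCat.Presheaf.germ_res_apply, map_sum] at e
        simp only [QCohLib.germ_smul, TopCat.Presheaf.germ_res_apply] at e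
        exact e
      · simp
      · intro c d _ _ hc hd
        simp only [Pi.add_apply, add_smul, Finset.sum_add_distrib, hc, hd, add_zero]
      · intro t c _ hc
        simp only [Pi.smul_apply, smul_eq_mul, mul_smul, ← Finset.smul_sum, hc, smul_zero]
  refine ⟨LinearMap.toSpanSingleton _ _ (I.presheaf.germ V x hxV σ), fun c hc => ?_⟩
  rw [LinearMap.toSpanSingleton_apply]
  have hc' : c ∈ Ideal.span (Set.range fun i => algebraMap Γ(X, U) (X.presheaf.stalk x) (α i)) := hgen ▸ hc
  revert hc
  refine Submodule.span_induction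
    (p := fun c _ => ∀ hc : c ∈ a, c • I.presheaf.germ V x hxV σ = φ ⟨c, hc⟩) ?_ ?_ ?_ ?_ hc'
  · rintro _ ⟨i, rfl⟩ _
    have e := congrArg (I.presheaf.germ V x hxV).hom (hσ i)
    erw [QCohLib.germ_smul, TopCat.Presheaf.germ_res_apply, TopCat.Presheaf.germ_res_apply] at e
    exact e.trans (hs i)
  · exact fun hc => (zero_smul _ _).trans (map_zero φ).symm
  · intro c d hc hd h₁ h₂ hcd
    have hca : c ∈ a := hgen ▸ hc
    have hda : d ∈ a := hgen ▸ hd
    rw [add_smul, h₁ hca, h₂ hda, ← map_add]
    rfl
  · intro t c hc h₁ htc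
    have hca : c ∈ a := hgen ▸ hc
    refine (smul_assoc t c _).trans ?_
    rw [h₁ hca, ← map_smul]
    rfl

end Groth.Agent.CohDual.InjStalk
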