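import Groth.Agent.CohDual.ExtShVanish
import Groth.Agent.NegVanish.Depth
import Groth.Agent.LocCohLib.DualityReg
import Groth.Agent.ComodBasic.AffineHeight
import Groth.Agent.ProjCoh.Serre

/-!
# Vanishing of negative twists and local cohomology at the closed points
-/

set_option autoImplicit false
set_option linter.style.haveILetI false

universe u

open CategoryTheory CategoryTheory.Limits CategoryTheory.Abelian AlgebraicGeometry TopologicalSpace

namespace Groth.Agent.CohDual.LocCohCriterion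

open Groth.Agent.ModGroth

section Local

variable {A : Type u} [CommRing A] [IsRegularLocalRing A] {r : ℕ}

/-- Over a regular local ring of dimension `r`, `H^i_m(M) = 0` iff `Ext^j(M, A) = 0` for `i + j = r`. -/
theorem subsingleton_H_iff_ext (hr : ringKrullDim A = r) (M : Type u) [AddCommGroup M] [Module A M]
    [Module.Finite A M] {i j : ℕ} (hij : i + j = r) :
    Subsingleton (LocCoh.H (IsLocalRing.maximalIdeal A) i M) ↔
      Subsingleton (Ext (ModuleCat.of A M) (ModuleCat.of A A) j) := by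
  haveI := LocCohLib.isRegularRing_of_isRegularLocalRing A
  obtain ⟨d⟩ := LocCohLib.nonempty_duality hr j i hij (ModuleCat.of A M)
  rw [d.toEquiv.subsingleton_congr]
  refine ⟨fun h => ?_, fun h => inferInstance⟩
  by_contra hE
  rw [not_subsingleton_iff_nontrivial] at hE
  obtain ⟨g, hg⟩ := LocCohLib.exists_injectiveHull_H_top hr
  haveI : Module.Finite A (Ext (ModuleCat.of A M) (ModuleCat.of A A) j) := inferInstance
  let E := Ext (ModuleCat.of A M) (ModuleCat.of A A) j
  haveI : Nontrivial (Submodule A E) := inferInstance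
  obtain ⟨N', hN⟩ : ∃ N' : Submodule A E, IsCoatom N' := by
    obtain h | ⟨a, ha, -⟩ := IsCoatomic.eq_top_or_exists_le_coatom (⊥ : Submodule A E)
    · exact absurd h bot_ne_top
    · exact ⟨a, ha⟩
  haveI := isSimpleModule_iff_isCoatom.2 hN
  obtain ⟨I, hI, ⟨e⟩⟩ := (isSimpleModule_iff_quot_maximal (R := A) (M := E ⧸ N')).1 ‹_›
  obtain rfl := IsLocalRing.eq_maximalIdeal hI
  let g' : (A ⧸ IsLocalRing.maximalIdeal A) →ₗ[A] LocCoh.H (IsLocalRing.maximalIdeal A) r A := g
  have hg' : Function.Injective g' := hg.injective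
  have h0 : g' ∘ₗ e.toLinearMap ∘ₗ N'.mkQ = 0 := h.elim _ _
  refine hN.1 (eq_top_iff.2 fun x _ => (Submodule.Quotient.mk_eq_zero N').1 (e.injective ?_))
  rw [map_zero]
  exact hg' (by rw [map_zero]; exact LinearMap.congr_fun h0 x)

end Local

section Proj

attribute [local instance 10000] CommRing.toRing

variable {N : ℕ} {k : Type u} [Field k]

local notation "𝒜" => CohB1.polyGrading N k

/-- At a closed point the local ring of `P^N` has dimension `N`. -/
theorem ringKrullDim_stalk_closed (x : (Proj 𝒜 : Scheme.{u})) (hx : IsClosed ({x} : Set (Proj 𝒜 : Scheme.{u}))) :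
    ringKrullDim ((Proj 𝒜).presheaf.stalk x) = (N : WithBot ℕ∞) := by
  obtain ⟨i, hi⟩ := Opens.mem_iSup.mp
    ((ProjPoint.iSup_basicOpen_X (R := k) (n := N)).ge (Opens.mem_top x))
  let B := HomogeneousLocalization.Away 𝒜 (MvPolynomial.X i)
  let j : Spec (CommRingCat.of B) ⟶ Proj 𝒜 :=
    Proj.awayι 𝒜 (MvPolynomial.X i) (ProjPoint.X_mem i) one_pos
  rw [← Proj.opensRange_awayι 𝒜 (MvPolynomial.X i) (ProjPoint.X_mem i) one_pos] at hi
  obtain ⟨p, rfl⟩ := hi
  obtain ⟨e⟩ := NegVanish.nonempty_chartEquiv (k := k) i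
  haveI hp : p.asIdeal.IsMaximal := by
    refine (PrimeSpectrum.isClosed_singleton_iff_isMaximal p).mp ?_
    have h := hx.preimage j.continuous
    rwa [show (j ⁻¹' {j p}) = ({p} : Set _) from Set.ext fun w =>
      ⟨fun h => j.isOpenEmbedding.injective h, fun h => h ▸ rfl⟩] at h
  letI : Algebra B ((Spec (CommRingCat.of B)).presheaf.stalk p) :=
    (StructureSheaf.toStalk B p).hom.toAlgebra
  haveI : IsLocalization p.asIdeal.primeCompl ((Spec (CommRingCat.of B)).presheaf.stalk p) :=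
    StructureSheaf.IsLocalization.to_stalk B p
  let e₁ : ((Proj 𝒜).presheaf.stalk (j p)) ≃+* ((Spec (CommRingCat.of B)).presheaf.stalk p) :=
    (asIso (j.stalkMap p)).commRingCatIsoToRingEquiv
  haveI : (p.asIdeal.comap e).IsMaximal := Ideal.comap_isMaximal_of_surjective _ e.surjective
  rw [ringKrullDim_eq_of_ringEquiv e₁, IsLocalization.AtPrime.ringKrullDim_eq_height p.asIdeal,
    ← RingEquiv.height_comap e p.asIdeal,
    ComodBasic.height_eq_of_isMaximal_mvPolynomial k N _ inferInstance]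
  rfl

/-- Projective space over the field. -/
noncomputable local instance overProjW : (Proj (CohB1.polyGrading N k)).Over (Spec (CommRingCat.of k)) :=
  ⟨CohB1.ProjSpace.toSpec N k⟩

theorem vanish_iff_localCohomology (F : (Proj 𝒜).Modules) (hF : Coh.IsCoh F) (i : ℕ) :
    (∃ m₀ : ℤ, ∀ m : ℤ, m₀ ≤ m → Subsingleton (Coh.HH (Proj 𝒜)
        (CohB1.tensorMod F (Twist.twist 𝒜 (-m))) i)) ↔
      ∀ x : (Proj 𝒜 : Scheme.{u}), IsClosed ({x} : Set (Proj 𝒜 : Scheme.{u})) →
        Subsingleton (LocCoh.H (IsLocalRing.maximalIdeal ((Proj 𝒜).presheaf.stalk x)) i (F.presheaf.stalk x)) := by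
  haveI : HasExt.{u} (Proj 𝒜).Modules := sheaf_hasExt _
  haveI : ModSite.HasSheafHom (O := (Proj 𝒜).sheaf) F := hasSheafHom (O := (Proj 𝒜).sheaf) F
  haveI : IsGrothendieckAbelian.{u} (ModSite.Mod (Proj 𝒜).sheaf) := sheaf_isGrothendieckAbelian _
  haveI : HasInjectiveResolutions (ModSite.Mod (Proj 𝒜).sheaf) := inferInstance
  haveI : IsProper (CohB1.ProjSpace.toSpec N k) := InvPow.isProper_toSpec N k
  haveI hN : IsLocallyNoetherian (CohB1.ProjSpace N k) :=
    LocallyOfFiniteType.isLocallyNoetherian (CohB1.ProjSpace.toSpec N k)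
  haveI : IsLocallyNoetherian (Proj 𝒜) := hN
  haveI hcs : CompactSpace (CohB1.ProjSpace N k) :=
    QuasiCompact.compactSpace_of_compactSpace (CohB1.ProjSpace.toSpec N k)
  haveI : CompactSpace (Proj 𝒜 : Scheme.{u}) := hcs
  rcases lt_or_ge N i with hi | hi
  · refine iff_of_true ⟨0, fun m _ => ?_⟩ fun x hx => ?_
    · exact ProjCoh.subsingleton_HH_of_gt (n := N) (R := k) _
        (HilbPoly.isCoh_tensorMod hF (isInvertible_twistProjSpace (A := k) (n := N) (-m))).1 hi
    · haveI := (NegVanish.stalk_regular x).1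
      exact LocCohLib.subsingleton_H_gt (ringKrullDim_stalk_closed x hx) (ModuleCat.of _ _) hi
  have hij : i + (N - i) = N := by omega
  rw [← isZero_extX_iff_proj (N := N) (k := k) F hF hij]
  have hω := isInvertible_twistProjSpace (A := k) (n := N) (-((N : ℤ) + 1))
  refine ⟨fun hz x hx => ?_, fun h => ?_⟩
  · haveI := (NegVanish.stalk_regular x).1
    haveI := NegVanish.finite_stalk hF x
    exact (subsingleton_H_iff_ext (ringKrullDim_stalk_closed x hx) _ hij).2
      ((isZero_extX_iff_stalks (X := Proj 𝒜) F _ hF hω _).1 hz x)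
  haveI : IsClosedImmersion (X := Proj 𝒜) (Y := CohB1.ProjSpace N k) (𝟙 (CohB1.ProjSpace N k)) :=
    inferInstanceAs (IsClosedImmersion (𝟙 (Proj 𝒜)))
  have hE := isCoh_extX (X := Proj 𝒜) (A := k) (n := N) (𝟙 (CohB1.ProjSpace N k)) F
    (Twist.twist 𝒜 (-((N : ℤ) + 1))) hF (ProjCoh.isCoh_twist_self _) (N - i)
  refine QCohLib.isZero_of_subsingleton_stalk fun y => ?_
  by_contra hy
  obtain ⟨x, hxs, hxc⟩ := IsClosed.exists_closed_singleton (QCohLib.isClosed_support hE.2) ⟨y, hy⟩
  haveI := (NegVanish.stalk_regular x).1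
  haveI := NegVanish.finite_stalk hF x
  have hExt := (subsingleton_H_iff_ext (ringKrullDim_stalk_closed x hxc) (F.presheaf.stalk x) hij).1 (h x hxc)
  obtain ⟨e⟩ := nonempty_stalk_extSh (X := Proj 𝒜) F hF (Twist.twist 𝒜 (-((N : ℤ) + 1))) x (N - i)
  obtain ⟨u⟩ := nonempty_stalk_invertible hω x
  obtain ⟨c⟩ := nonempty_extCongr (Iso.refl (ModuleCat.of ((Proj 𝒜).presheaf.stalk x) (F.presheaf.stalk x)))
    (u.symm.toModuleIso : ModuleCat.of ((Proj 𝒜).presheaf.stalk x) ((Twist.twist 𝒜 (-((N : ℤ) + 1))).presheaf.stalk x) ≅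
      ModuleCat.of ((Proj 𝒜).presheaf.stalk x) ((Proj 𝒜).presheaf.stalk x)) (N - i)
  exact hxs (@Function.Injective.subsingleton _ _ _ (e ≪≫ c.toModuleIso).toLinearEquiv.injective hExt)

end Proj

end Groth.Agent.CohDual.LocCohCriterion
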