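import Groth.Agent.ModGroth.Functors
import Groth.Agent.QCohLib.Basic
import Groth.Prelude.Def_Coh
import Groth.Prelude.Def_KLin
import Mathlib.Algebra.Homology.DerivedCategory.Ext.Linear
import Mathlib.Algebra.Homology.DerivedCategory.Ext.Map
import Mathlib.Algebra.Homology.DerivedCategory.Ext.ExactSequences
import Mathlib.LinearAlgebra.Dual.Lemmas

/-!
# The duality pairing by Yoneda composition, and its perfection by dimension shifting

For a scheme over a field with a trace `t : H^n(ω) → k` perfect in degree zero, and covers killing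
`H^{<n}` and `Ext^{>0}(-, ω)`, the maps `Ext^i(F, ω) → H^q(F)^*`, `q + i = n`, are bijective; they are
natural by construction.
-/

set_option autoImplicit false
set_option linter.style.haveILetI false

universe u

open CategoryTheory CategoryTheory.Limits CategoryTheory.Abelian AlgebraicGeometry

namespace Groth.Agent.CohDual

variable {X : Scheme.{u}}

instance toSh_additive : (QCohLib.toSh X).Additive :=
  inferInstanceAs (SheafOfModules.toSheaf.{u} X.ringCatSheaf).Additive

instance toSh_preservesFiniteLimits : PreservesFiniteLimits (QCohLib.toSh X) :=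
  haveI : PreservesLimitsOfSize.{u, u} (QCohLib.toSh X) := ModGroth.toSheaf_preservesLimits X.ringCatSheaf
  PreservesLimitsOfSize.preservesFiniteLimits _

variable [HasExt.{u} X.Modules]

/-- Yoneda action of `Ext` on cohomology. -/
noncomputable def cup {F G : X.Modules} {q i n : ℕ} (h : q + i = n) (x : Ext.{u} F G i)
    (y : Coh.HH X F q) : Coh.HH X G n :=
  y.comp (x.mapExactFunctor (QCohLib.toSh X)) h

lemma cup_add_left {F G : X.Modules} {q i n : ℕ} (h : q + i = n) (x x' : Ext.{u} F G i) (y : Coh.HH X F q) :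
    cup h (x + x') y = cup h x y + cup h x' y := by
  rw [cup, Ext.mapExactFunctor_add, Ext.comp_add]; rfl

lemma cup_add_right {F G : X.Modules} {q i n : ℕ} (h : q + i = n) (x : Ext.{u} F G i) (y y' : Coh.HH X F q) :
    cup h x (y + y') = cup h x y + cup h x y' :=
  Ext.add_comp _ _ _ _

lemma cup_mk₀ {F G : X.Modules} (φ : F ⟶ G) {q : ℕ} (y : Coh.HH X F q) :
    cup (add_zero q) (Ext.mk₀ φ) y = Sheaf.H.map ((QCohLib.toSh X).map φ) q y := by
  rw [cup, Ext.mapExactFunctor_mk₀]; rfl

lemma cup_comp {F G K : X.Modules} {q a b m n : ℕ} (x : Ext.{u} F G a) (z : Ext.{u} G K b)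
    (hqa : q + a = m) (hmb : m + b = n) (c : ℕ) (hab : a + b = c) (y : Coh.HH X F q) :
    cup (show q + c = n by omega) (x.comp z hab) y = cup hmb z (cup hqa x y) := by
  rw [cup, cup, cup, Ext.mapExactFunctor_comp]
  exact (Ext.comp_assoc _ _ _ _ _ (by omega)).symm

lemma cup_mk₀_comp {F G K : X.Modules} {q b n : ℕ} (φ : F ⟶ G) (z : Ext.{u} G K b) (h : q + b = n)
    (y : Coh.HH X F q) :
    cup h ((Ext.mk₀ φ).comp z (zero_add b)) y =
      cup h z (Sheaf.H.map ((QCohLib.toSh X).map φ) q y) := by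
  rw [← cup_mk₀ φ y]
  exact cup_comp (Ext.mk₀ φ) z (add_zero q) h b (zero_add b) y

variable {k : Type u} [Field k] [X.Over (Spec (CommRingCat.of k))]

lemma cup_smul_left {F G : X.Modules} {q i n : ℕ} (h : q + i = n) (a : k) (x : Ext.{u} F G i)
    (y : Coh.HH X F q) : cup h (a • x) y = a • cup h x y := by
  rw [Ext.smul_eq_comp_mk₀, KLin.smul_id]
  refine (cup_comp x (Ext.mk₀ (Formal.smulMod k G a)) h (add_zero n) i (add_zero i) y).trans ?_
  exact (cup_mk₀ _ _).trans rfl

lemma cup_smul_right {F G : X.Modules} {q i n : ℕ} (h : q + i = n) (a : k) (x : Ext.{u} F G i)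
    (y : Coh.HH X F q) : cup h x (a • y) = a • cup h x y := by
  rw [← cup_smul_left]
  have e : a • x = (Ext.mk₀ (Formal.smulMod k F a)).comp x (zero_add i) := by
    rw [← KLin.smul_id, Ext.mk₀_smul, Ext.smul_comp, Ext.mk₀_id_comp]
  rw [e, cup_mk₀_comp]
  rfl

variable {ω : X.Modules} {n : ℕ} (t : Coh.HH X ω n →ₗ[k] k)

/-- **The duality map.** -/
noncomputable def theta (F : X.Modules) {q i : ℕ} (h : q + i = n) :
    Ext.{u} F ω i →ₗ[k] Module.Dual k (Coh.HH X F q) where
  toFun x :=
    { toFun := fun y => t (cup h x y)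
      map_add' := fun y y' => by rw [cup_add_right, map_add]
      map_smul' := fun a y => by rw [cup_smul_right, map_smul, RingHom.id_apply] }
  map_add' x x' := LinearMap.ext fun y => by
    change t (cup h (x + x') y) = t (cup h x y) + t (cup h x' y)
    rw [cup_add_left, map_add]
  map_smul' a x := LinearMap.ext fun y => by
    change t (cup h (a • x) y) = a • t (cup h x y)
    rw [cup_smul_left, map_smul]

lemma theta_apply (F : X.Modules) {q i : ℕ} (h : q + i = n) (x : Ext.{u} F ω i) (y : Coh.HH X F q) :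
    theta t F h x y = t (cup h x y) := rfl

lemma theta_natural {F G : X.Modules} (φ : F ⟶ G) {q i : ℕ} (h : q + i = n) (x : Ext.{u} G ω i)
    (y : Coh.HH X F q) :
    theta t F h ((Ext.mk₀ φ).comp x (zero_add i)) y =
      theta t G h x (Sheaf.H.map ((QCohLib.toSh X).map φ) q y) := by
  rw [theta_apply, theta_apply, cup_mk₀_comp]

/-- The hypotheses of dimension shifting. -/
structure DualData (Coh' : X.Modules → Prop) : Prop where
  top : ∀ F, Coh' F → ∀ ψ : Coh.HH X F n →ₗ[k] k, ∃! φ : F ⟶ ω, ∀ y : Coh.HH X F n,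
    ψ y = t (Sheaf.H.map ((QCohLib.toSh X).map φ) n y)
  cover : ∀ F, Coh' F → ∃ (L : X.Modules) (g : L ⟶ F), Epi g ∧ Coh' L ∧ Coh' (kernel g) ∧
    (∀ p, p < n → Subsingleton (Coh.HH X L p)) ∧ ∀ i, 0 < i → Subsingleton (Ext.{u} L ω i)

variable {t} {Coh' : X.Modules → Prop}

theorem bijective_theta_zero (D : DualData t Coh') (F : X.Modules) (hF : Coh' F) (h : n + 0 = n) :
    Function.Bijective (theta t F h) := by
  refine ⟨fun x x' e => ?_, fun ψ => ?_⟩
  · obtain ⟨φ, rfl⟩ := (Ext.mk₀_bijective _ _).2 x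
    obtain ⟨φ', rfl⟩ := (Ext.mk₀_bijective _ _).2 x'
    obtain ⟨φ₀, -, hu⟩ := D.top F hF (theta t F h (Ext.mk₀ φ))
    have e₁ := hu φ fun y => by rw [theta_apply, cup_mk₀]
    have e₂ := hu φ' fun y => by rw [LinearMap.congr_fun e y, theta_apply, cup_mk₀]
    rw [e₁, e₂]
  · obtain ⟨φ, hφ, -⟩ := D.top F hF ψ
    exact ⟨Ext.mk₀ φ, LinearMap.ext fun y => by rw [theta_apply, cup_mk₀]; exact (hφ y).symm⟩

/-- The connecting map on cohomology. -/
noncomputable def cupClass {S : ShortComplex X.Modules} (hS : S.ShortExact) (q : ℕ) :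
    Coh.HH X S.X₃ q →ₗ[k] Coh.HH X S.X₁ (q + 1) where
  toFun := cup rfl hS.extClass
  map_add' _ _ := cup_add_right _ _ _ _
  map_smul' a y := cup_smul_right _ a _ y

lemma exists_cupClass_eq {S : ShortComplex X.Modules} (hS : S.ShortExact) (q : ℕ) (y : Coh.HH X S.X₁ (q + 1))
    (hy : Sheaf.H.map ((QCohLib.toSh X).map S.f) (q + 1) y = 0) :
    ∃ z, cupClass (k := k) hS q z = y := by
  obtain ⟨z, hz⟩ := Ext.covariant_sequence_exact₁ _ (hS.map_of_exact (QCohLib.toSh X))
    y hy rfl
  exact ⟨z, (congrArg (fun e => Ext.comp z e rfl)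
    (Ext.mapExactFunctor_extClass (QCohLib.toSh X) hS)).trans hz⟩

lemma injective_cupClass {S : ShortComplex X.Modules} (hS : S.ShortExact) (q : ℕ)
    (h : Subsingleton (Coh.HH X S.X₂ q)) : Function.Injective (cupClass (k := k) hS q) := by
  refine (injective_iff_map_eq_zero _).2 fun y hy => ?_
  obtain ⟨z, rfl⟩ := Ext.covariant_sequence_exact₃ _ (hS.map_of_exact (QCohLib.toSh X))
    y (rfl : q + 1 = q + 1) ((congrArg (fun e => Ext.comp y e rfl)
      (Ext.mapExactFunctor_extClass (QCohLib.toSh X) hS)).symm.trans hy)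
  exact (congrArg (fun w : Coh.HH X S.X₂ q => Ext.comp w _ (add_zero q)) (h.elim z 0)).trans
    (Ext.zero_comp _ _ _ _ _)

lemma theta_extClass_comp {S : ShortComplex X.Modules} (hS : S.ShortExact) {q i : ℕ} (h : q + 1 + i = n)
    (h' : q + (i + 1) = n) (z : Ext.{u} S.X₁ ω i) (y : Coh.HH X S.X₃ q) :
    theta t S.X₃ h' (hS.extClass.comp z (add_comm 1 i)) y = theta t S.X₁ h z (cupClass (k := k) hS q y) := by
  rw [theta_apply, theta_apply]
  exact congrArg t (cup_comp hS.extClass z (rfl : q + 1 = q + 1) h (i + 1) (add_comm 1 i) y)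

/-- **Duality.** -/
theorem bijective_theta (D : DualData t Coh') (i : ℕ) : ∀ (F : X.Modules), Coh' F →
    ∀ {q : ℕ} (h : q + i = n), Function.Bijective (theta t F h) := by
  induction i with
  | zero =>
    intro F hF q h
    obtain rfl : n = q := by omega
    exact bijective_theta_zero D F hF h
  | succ i ih =>
    intro F hF q h
    obtain ⟨L, g, hg, hL, hK, hLH, hLE⟩ := D.cover F hF
    haveI := hg
    let S : ShortComplex X.Modules := ShortComplex.mk (kernel.ι g) g (kernel.condition g)
    have hS : S.ShortExact := { exact := ShortComplex.exact_of_f_is_kernel _ (kernelIsKernel g) }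
    have h₁ : q + 1 + i = n := by omega
    have hK' := ih (kernel g) hK h₁
    have hL' := ih L hL h₁
    have hlift : ∀ x : Ext.{u} F ω (i + 1), ∃ z, hS.extClass.comp z (add_comm 1 i) = x := fun x =>
      Ext.contravariant_sequence_exact₃ hS ω x
        ((hLE (i + 1) (Nat.succ_pos i)).elim _ _) (add_comm 1 i)
    have hinj := injective_cupClass (k := k) hS q (hLH q (by omega))
    refine ⟨(injective_iff_map_eq_zero _).2 fun x hx => ?_, fun ψ => ?_⟩
    · obtain ⟨z, rfl⟩ := hlift x
      have hz : ∀ y, theta t S.X₁ h₁ z (cupClass (k := k) hS q y) = 0 := fun y => by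
        rw [← theta_extClass_comp hS h₁ h]
        exact LinearMap.congr_fun hx y
      let m : Coh.HH X S.X₁ (q + 1) →ₗ[k] Coh.HH X S.X₂ (q + 1) :=
        { toFun := fun y => Sheaf.H.map ((QCohLib.toSh X).map S.f) (q + 1) y
          map_add' := fun y y' => map_add _ y y'
          map_smul' := fun a y => by
            rw [RingHom.id_apply, ← cup_mk₀, ← cup_mk₀, cup_smul_right] }
      obtain ⟨w, hw⟩ : ∃ w, m.dualMap w = theta t S.X₁ h₁ z := by
        rw [← LinearMap.mem_range, LinearMap.range_dualMap_eq_dualAnnihilator_ker, Submodule.mem_dualAnnihilator]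
        intro y hy
        obtain ⟨y', rfl⟩ := exists_cupClass_eq (k := k) hS q y hy
        exact hz y'
      obtain ⟨v, hv⟩ := hL'.2 w
      have e : (Ext.mk₀ S.f).comp v (zero_add i) = z := hK'.1 (LinearMap.ext fun y => by
        rw [theta_natural, hv]
        exact LinearMap.congr_fun hw y)
      rw [← e, ShortComplex.ShortExact.extClass_comp_assoc hS]
    · obtain ⟨ψ', hψ'⟩ := LinearMap.dualMap_surjective_of_injective hinj ψ
      obtain ⟨z, hz⟩ := hK'.2 ψ'
      refine ⟨hS.extClass.comp z (add_comm 1 i), LinearMap.ext fun y => ?_⟩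
      refine (theta_extClass_comp hS h₁ h z y).trans ?_
      rw [hz]
      exact LinearMap.congr_fun hψ' y

end Groth.Agent.CohDual
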