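import Groth.Agent.CohDual.ExtPush
import Groth.Agent.CohDual.NaturalDual
import Groth.Agent.CohVanish.Free
import Groth.Agent.QCohLib.Pullback
import Groth.Agent.ModPush.Acyclic

/-!
# Duality for direct images along a closed immersion
-/

set_option autoImplicit false
set_option linter.style.haveILetI false

universe u

open CategoryTheory CategoryTheory.Limits CategoryTheory.Abelian AlgebraicGeometry


namespace Groth.Agent.CohDual

section Over

variable {k : Type u} [Field k] {P X : Scheme.{u}} [P.Over (Spec (CommRingCat.of k))]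
  [X.Over (Spec (CommRingCat.of k))] (i : X ⟶ P) [IsClosedImmersion i] [HasExt.{u} P.Modules]
  {ω : P.Modules} {N : ℕ} {t : Coh.HH P ω N →ₗ[k] k}

omit [P.Over (Spec (CommRingCat.of k))] [X.Over (Spec (CommRingCat.of k))] [HasExt.{u} P.Modules] in
/-- A bijection onto a dual, transported. -/
lemma trans_dualMap_apply {E V W : Type u} [AddCommGroup E] [Module k E] [AddCommGroup V] [Module k V]
    [AddCommGroup W] [Module k W] (f : E →ₗ[k] Module.Dual k V) (hf : Function.Bijective f) (p : V ≃ₗ[k] W)
    (x : E) (y : W) : (LinearEquiv.ofBijective f hf).trans p.symm.dualMap x y = f x (p.symm y) := rfl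

/-- Duality on the direct image, as a natural bijection. -/
theorem exists_ext_push_dual (D : DualData (X := P) t Coh.IsCoh) {q c : ℕ} (hqc : q + c = N)
    (push : ∀ M : X.Modules, Coh.IsCoh M →
      Coh.HH P ((Scheme.Modules.pushforward i).obj M) q ≃ₗ[k] Coh.HH X M q)
    (hpush : ∀ (M M' : X.Modules) (hM : Coh.IsCoh M) (hM' : Coh.IsCoh M') (f : M ⟶ M')
      (x : Coh.HH P ((Scheme.Modules.pushforward i).obj M) q),
      push M' hM' (Sheaf.H.map ((QCohLib.toSh P).map ((Scheme.Modules.pushforward i).map f)) q x) =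
        Sheaf.H.map ((QCohLib.toSh X).map f) q (push M hM x)) :
    ∃ Φ : ∀ M : X.Modules, Coh.IsCoh M →
        (Ext.{u} ((Scheme.Modules.pushforward i).obj M) ω c ≃ₗ[k] Module.Dual k (Coh.HH X M q)),
      ∀ (M M' : X.Modules) (hM : Coh.IsCoh M) (hM' : Coh.IsCoh M') (f : M ⟶ M')
        (x : Ext.{u} ((Scheme.Modules.pushforward i).obj M') ω c) (y : Coh.HH X M q),
        Φ M hM ((Ext.mk₀ ((Scheme.Modules.pushforward i).map f)).comp x (zero_add c)) y =
          Φ M' hM' x (Sheaf.H.map ((QCohLib.toSh X).map f) q y) := by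
  refine ⟨fun M hM => (LinearEquiv.ofBijective (theta t _ hqc)
    (bijective_theta D c _ (QCohLib.isCoh_pushforward i hM) hqc)).trans (push M hM).symm.dualMap,
    fun M M' hM hM' f x y => ?_⟩
  obtain ⟨z, rfl⟩ := (push M hM).surjective y
  rw [trans_dualMap_apply, trans_dualMap_apply, LinearEquiv.symm_apply_apply, ← hpush M M' hM hM', LinearEquiv.symm_apply_apply, theta_natural]

variable [EnoughInjectives P.Modules] [HasInjectiveResolutions P.Modules]
  [ModSite.HasSheafHom (O := P.sheaf) ((Scheme.Modules.pushforward i).obj (Coh.structureModule X))]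

/-- Vanishing of the Ext sheaves where the cohomology of `X` vanishes. -/
theorem isZero_extSh_of_vanish [IsLocallyNoetherian X] (D : DualData (X := P) t Coh.IsCoh)
    (push : ∀ (q : ℕ) (M : X.Modules), Coh.IsCoh M →
      Coh.HH P ((Scheme.Modules.pushforward i).obj M) q ≃ₗ[k] Coh.HH X M q)
    (hpush : ∀ (q : ℕ) (M M' : X.Modules) (hM : Coh.IsCoh M) (hM' : Coh.IsCoh M') (f : M ⟶ M')
      (x : Coh.HH P ((Scheme.Modules.pushforward i).obj M) q),
      push q M' hM' (Sheaf.H.map ((QCohLib.toSh P).map ((Scheme.Modules.pushforward i).map f)) q x) =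
        Sheaf.H.map ((QCohLib.toSh X).map f) q (push q M hM x))
    (hcoh : ∀ j, Coh.IsCoh (X := P) (((homS i).rightDerived j).obj ω)) (j : ℕ) (hj : j ≤ N)
    (hH : ∀ q M, N - j ≤ q → Coh.IsCoh M → Subsingleton (Coh.HH X M q)) :
    IsZero (((homS i).rightDerived j).obj ω) := by
  induction j using Nat.strong_induction_on with
  | _ j ih =>
    have hvan : ∀ l, l < j → IsZero (((homS i).rightDerived l).obj ω) := fun l hl =>
      ih l hl (by omega) fun q M hq hM => hH q M (by omega) hM
    obtain ⟨e, -⟩ := exists_ext_push_equiv i ω j hvan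
    let h := ((homS i).rightDerived j).obj ω
    obtain ⟨Φ, -⟩ := exists_ext_push_dual i D (show N - j + j = N by omega) (push _) (hpush _)
    have hc : Coh.IsCoh ((Scheme.Modules.pullback i).obj h) := QCohLib.isCoh_pullback i h (hcoh j)
    haveI := hH (N - j) _ le_rfl hc
    haveI : Subsingleton (Ext.{u} ((Scheme.Modules.pushforward i).obj ((Scheme.Modules.pullback i).obj h)) ω j) :=
      (Φ _ hc).injective.subsingleton
    haveI : Subsingleton ((Scheme.Modules.pushforward i).obj ((Scheme.Modules.pullback i).obj h) ⟶ h) :=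
      (e _).symm.injective.subsingleton
    have hK := inK_ext i ω j
    refine (IsZero.iff_id_eq_zero _).2 ?_
    rw [← (inKIso i hK).inv_hom_id, Subsingleton.elim (inKIso i hK).hom 0, comp_zero]

end Over

end Groth.Agent.CohDual
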