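import Groth.Agent.CohDual.PartialDual
import Groth.Agent.CohDual.DualVanish

/-!
# Duality in a range on closed subschemes of projective space
-/

set_option autoImplicit false
set_option linter.style.haveILetI false

universe u

open CategoryTheory CategoryTheory.Limits CategoryTheory.Abelian AlgebraicGeometry

namespace Groth.Agent.CohDual

attribute [local instance] Abelian.hasFiniteBiproducts

variable {n : ℕ} {k : Type u} [Field k] {X : Scheme.{u}} [X.Over (Spec (CommRingCat.of k))]
  (r : X ⟶ CohB1.ProjSpace n k) [IsClosedImmersion r] [HasExt.{u} X.Modules]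

include r in
/-- **`Ext^i(F, ω) ≅ H^{d-i}(F)^*`** for a dualizing `ω` and the degrees where very negative twists have no
cohomology. -/
theorem nonempty_ext_dual_range (d s : ℕ) (ω : X.Modules) (hωc : Coh.IsCoh ω) (t : Coh.HH X ω d →ₗ[k] k)
    (ht : ∀ F : X.Modules, Coh.IsCoh F → ∀ ψ : Coh.HH X F d →ₗ[k] k, ∃! φ : F ⟶ ω, ∀ x : Coh.HH X F d,
      ψ x = t (Sheaf.H.map ((SheafOfModules.toSheaf X.ringCatSheaf).map φ) d x))
    (hvan : ∀ p, p < d → d ≤ p + s → ∃ m₀ : ℤ, ∀ m : ℤ, m₀ ≤ m → Subsingleton (Coh.HH X (tw r (-m)) p))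
    (F : X.Modules) (hF : Coh.IsCoh F) (i : ℕ) (hi : i ≤ s) (hid : i ≤ d) :
    Nonempty (Ext.{u} F ω i ≃ₗ[k] Module.Dual k (Coh.HH X F (d - i))) := by
  haveI := isLocallyNoetherian_closed r
  choose b hb using hvan
  obtain ⟨m₁, hm₁⟩ := exists_ext_tw_vanishing (A := k) r ω hωc
  let B : ℕ := max m₁ ((Finset.range d).sup fun p => if h : p < d ∧ d ≤ p + s then (b p h.1 h.2).toNat else 0)
  have D : RangeData t Coh.IsCoh s := by
    refine ⟨fun F hF ψ => ht F hF ψ, fun M hM => ?_⟩
    obtain ⟨q, c, g, hq, hg⟩ := exists_epi_tw_ge r M hM B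
    haveI := hg
    have hL : Coh.IsCoh (⨁ fun _ : Fin c => tw r (-(q : ℤ))) :=
      CohFinite.isCoh_biproduct (InvPow.isCoh_of_isInvertible (isInvertible_tw r _)) c
    refine ⟨_, biproduct.desc g, hg, hL, QCohLib.isCoh_kernel _ hL hM.1, fun p hp hps => ?_, fun a ha => ?_⟩
    · refine subsingleton_HH_biproduct _ p fun _ => hb p hp hps q ?_
      have h1 : (b p hp hps).toNat ≤ B := le_trans (by
        have := Finset.le_sup (f := fun p => if h : p < d ∧ d ≤ p + s then (b p h.1 h.2).toNat else 0)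
          (Finset.mem_range.2 hp)
        simpa [hp, hps] using this) (le_max_right _ _)
      exact le_trans (Int.self_le_toNat _) (by exact_mod_cast h1.trans hq)
    · exact ProjCoh.subsingleton_ext_biproduct ω (fun _ : Fin c => tw r (-(q : ℤ))) a fun _ => hm₁ q ((le_max_left _ _).trans hq) a ha
  exact ⟨LinearEquiv.ofBijective (theta t F (Nat.sub_add_cancel hid))
    (bijective_theta_range D i hi F hF (Nat.sub_add_cancel hid))⟩

end Groth.Agent.CohDual
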