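import Groth.Agent.CohDual.DerivedSeq
import Groth.Agent.ModGroth.FlatSeq
import Groth.Prelude.Def_ExtSupp
import Mathlib.Algebra.Category.ModuleCat.Presheaf.Generator

/-!
# The internal hom of a short exact sequence
-/

set_option autoImplicit false
set_option linter.style.haveILetI false

universe u

open CategoryTheory CategoryTheory.Limits Opposite

namespace Groth.Agent.CohDual

open Groth.Agent.ModGroth

variable {C : Type u} [SmallCategory C] {J : GrothendieckTopology C} {O : Sheaf J CommRingCat.{u}}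

/-- The adjunct of `k ≫ g^*` is `(1 ⊗ g) ≫` the adjunct of `k`. -/
lemma homEquiv_symm_sheafHomMap {M M' : ModSite.Mod O} [ModSite.HasSheafHom M] [ModSite.HasSheafHom M']
    (g : M' ⟶ M) {G I : ModSite.Mod O} (k : G ⟶ (ModSite.sheafHom M).obj I) :
    ((ModSite.sheafHomAdj M').homEquiv G I).symm (k ≫ (ExtSupp.sheafHomMap g).app I) =
      (tL G).map g ≫ ((ModSite.sheafHomAdj M).homEquiv G I).symm k := by
  rw [Adjunction.homEquiv_counit, Adjunction.homEquiv_counit, Functor.map_comp, Category.assoc,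
    conjugateEquiv_counit]
  exact ((((ModSite.tensorBi O).flip.map g).naturality_assoc k _).trans rfl)

lemma homEquiv_symm_app {M M' : ModSite.Mod O} [ModSite.HasSheafHom M] [ModSite.HasSheafHom M']
    (g : M' ⟶ M) {G I : ModSite.Mod O} (h : ((ModSite.tensorBi O).flip.obj M).obj G ⟶ I) :
    (ModSite.sheafHomAdj M).homEquiv G I h ≫ (ExtSupp.sheafHomMap g).app I =
      (ModSite.sheafHomAdj M').homEquiv G I ((tL G).map g ≫ h) := by
  apply ((ModSite.sheafHomAdj M').homEquiv G I).symm.injective
  rw [homEquiv_symm_sheafHomMap, Equiv.symm_apply_apply, Equiv.symm_apply_apply]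

variable (S : ShortComplex (ModSite.Mod O))
  [ModSite.HasSheafHom S.X₁] [ModSite.HasSheafHom S.X₂] [ModSite.HasSheafHom S.X₃]

lemma sheafHomMap_zero (I : ModSite.Mod O) :
    (ExtSupp.sheafHomMap S.g).app I ≫ (ExtSupp.sheafHomMap S.f).app I = 0 := by
  rw [← Category.id_comp ((ExtSupp.sheafHomMap S.g).app I), Category.assoc]
  apply ((ModSite.sheafHomAdj S.X₁).homEquiv _ I).symm.injective
  rw [← Category.assoc, homEquiv_symm_sheafHomMap]
  refine (congrArg (_ ≫ ·) (homEquiv_symm_sheafHomMap S.g (𝟙 ((ModSite.sheafHom S.X₃).obj I)))).trans ?_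
  haveI := tL_additive ((ModSite.sheafHom S.X₃).obj I)
  rw [← Category.assoc]
  refine (congrArg (· ≫ _) ((((tL ((ModSite.sheafHom S.X₃).obj I)).map_comp S.f S.g).symm.trans
    ((congrArg (tL ((ModSite.sheafHom S.X₃).obj I)).map S.zero).trans (Functor.map_zero _ _ _))))).trans ?_
  rw [zero_comp, Adjunction.homEquiv_counit]
  haveI := tR_additive S.X₁
  exact ((congrArg (· ≫ _) ((tR S.X₁).map_zero _ _)).trans zero_comp).symm

variable {S}

omit [ModSite.HasSheafHom S.X₁] in
lemma mono_sheafHomMap (hS : S.ShortExact) (I : ModSite.Mod O) :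
    Mono ((ExtSupp.sheafHomMap S.g).app I) := ⟨fun {G} k k' h => by
  apply ((ModSite.sheafHomAdj S.X₃).homEquiv G I).symm.injective
  have h' := congrArg ((ModSite.sheafHomAdj S.X₂).homEquiv G I).symm h
  rw [homEquiv_symm_sheafHomMap, homEquiv_symm_sheafHomMap] at h'
  haveI := tL_additive G
  haveI : Epi ((tL G).map S.g) := (tL_exact G S hS).2
  exact (cancel_epi ((tL G).map S.g)).1 h'⟩

/-- Left exactness. -/
lemma exact_sheafHomMap (hS : S.ShortExact) (I : ModSite.Mod O) :
    (ShortComplex.mk _ _ (sheafHomMap_zero S I)).Exact := by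
  haveI := mono_sheafHomMap hS I
  refine ShortComplex.exact_of_f_is_kernel _ (KernelFork.IsLimit.ofι' _ _ fun {G} k hk => ?_)
  have hk' : (tL G).map S.f ≫ ((ModSite.sheafHomAdj S.X₂).homEquiv G I).symm k = 0 := by
    rw [← homEquiv_symm_sheafHomMap, hk, Adjunction.homEquiv_counit]
    haveI := tR_additive S.X₁
    exact (congrArg (· ≫ _) ((tR S.X₁).map_zero _ _)).trans zero_comp
  haveI := tL_additive G
  haveI : Epi ((S.map (tL G)).g) := (tL_exact G S hS).2
  refine ⟨(ModSite.sheafHomAdj S.X₃).homEquiv G I ((tL_exact G S hS).1.desc _ hk'), ?_⟩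
  refine (homEquiv_symm_app S.g _).trans ?_
  exact (congrArg _ ((tL_exact G S hS).1.g_desc _ _)).trans (Equiv.apply_symm_apply _ _)

omit [ModSite.HasSheafHom S.X₃] in
/-- Morphisms out of a flat module into `Hom(S.X₁, I)` lift, for injective `I`. -/
lemma exists_lift_of_flat (hS : S.ShortExact) (I : ModSite.Mod O) [Injective I] {G : ModSite.Mod O}
    (hG : ModSite.IsFlat G) (q : G ⟶ (ModSite.sheafHom S.X₁).obj I) :
    ∃ q', q' ≫ (ExtSupp.sheafHomMap S.f).app I = q := by
  haveI := hS.mono_f
  haveI := mono_tL_map hG S.f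
  refine ⟨(ModSite.sheafHomAdj S.X₂).homEquiv G I
    (Injective.factorThru (((ModSite.sheafHomAdj S.X₁).homEquiv G I).symm q) ((tL G).map S.f)), ?_⟩
  refine (homEquiv_symm_app S.f _).trans ?_
  exact (congrArg _ (Injective.comp_factorThru _ _)).trans (Equiv.apply_symm_apply _ _)

lemma shortExact_sheafHomMap (hS : S.ShortExact) (I : ModSite.Mod O) [Injective I] :
    (ShortComplex.mk _ _ (sheafHomMap_zero S I)).ShortExact where
  exact := exact_sheafHomMap hS I
  mono_f := mono_sheafHomMap hS I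
  epi_g := by
    obtain ⟨G, q, hG, hq⟩ := exists_flat_epi ((ModSite.sheafHom S.X₁).obj I)
    obtain ⟨q', hq'⟩ := exists_lift_of_flat hS I hG q
    haveI := hq
    exact epi_of_epi_fac hq'

omit [ModSite.HasSheafHom S.X₃] in
/-- The sections of `Hom(S.X₂, I)` surject onto those of `Hom(S.X₁, I)`. -/
lemma sheafHomMap_app_surjective (hS : S.ShortExact) (I : ModSite.Mod O) [Injective I] (U : C) :
    Function.Surjective (((ExtSupp.sheafHomMap S.f).app I).val.app (op U)) := fun s => by
  obtain ⟨q', hq'⟩ := exists_lift_of_flat hS I (isFlat_freeSheaf (O := O) U)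
    (((adjn O).homEquiv _ _).symm (PresheafOfModules.freeYonedaEquiv.symm s))
  refine ⟨PresheafOfModules.freeYonedaEquiv ((adjn O).homEquiv _ _ q'), ?_⟩
  refine (PresheafOfModules.freeYonedaEquiv_comp _ _).symm.trans ?_
  have h := congrArg ((adjn O).homEquiv _ _) hq'
  rw [Adjunction.homEquiv_naturality_right, Equiv.apply_symm_apply] at h
  exact (congrArg PresheafOfModules.freeYonedaEquiv h).trans (Equiv.apply_symm_apply _ _)

end Groth.Agent.CohDual
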