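import Groth.Agent.KoszulHZ.Depth
import Groth.Agent.QCohLib.StalkLoc
import Mathlib.RingTheory.Localization.BaseChange
import Mathlib.RingTheory.Localization.LocalizationLocalization
import Mathlib.RingTheory.Ideal.Height

/-!
# The primes of a stalk and the generisations of the point
-/

set_option autoImplicit false
set_option linter.style.haveILetI false

universe u

open CategoryTheory CategoryTheory.Limits AlgebraicGeometry TopologicalSpace

namespace Groth.Agent.CohDual.StalkPrime

variable {X : Scheme.{u}}

/-- A prime of a stalk is a generisation of the point: same height, support and depth. -/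
theorem exists_point_of_prime (x : X) (q : PrimeSpectrum (X.presheaf.stalk x)) :
    ∃ y : X, y ⤳ x ∧ ringKrullDim (X.presheaf.stalk y) = (q.asIdeal.height : WithBot ℕ∞) ∧
      ∀ (M : X.Modules) [M.IsQuasicoherent], (q ∈ Module.support (X.presheaf.stalk x) (M.presheaf.stalk x) ↔ y ∈ CohB1.support M) ∧
      LocCoh.depth (Localization.AtPrime q.asIdeal) (LocalizedModule q.asIdeal.primeCompl (M.presheaf.stalk x)) =
        LocCoh.depth (X.presheaf.stalk y) (M.presheaf.stalk y) := by
  obtain ⟨U, hU, hxU, -⟩ := exists_isAffineOpen_mem_and_subset (X := X) (x := x) (U := ⊤) trivial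
  let S := Γ(X, U)
  let p := (hU.primeIdealOf ⟨x, hxU⟩).asIdeal
  let : Algebra S (X.presheaf.stalk x) := TopCat.Presheaf.algebra_section_stalk X.presheaf ⟨x, hxU⟩
  haveI : IsLocalization.AtPrime (X.presheaf.stalk x) p := hU.isLocalization_stalk ⟨x, hxU⟩
  let Q : PrimeSpectrum S := ⟨q.asIdeal.comap (algebraMap S (X.presheaf.stalk x)), inferInstance⟩
  have hQ : Q ≤ hU.primeIdealOf ⟨x, hxU⟩ := fun a ha => by
    by_contra hap
    exact q.2.ne_top (q.asIdeal.eq_top_of_isUnit_mem ha (IsLocalization.map_units (X.presheaf.stalk x) (⟨a, hap⟩ : p.primeCompl)))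
  let y : X := hU.fromSpec Q
  have hyU : y ∈ U := by
    show hU.fromSpec Q ∈ (U : Set X)
    rw [← hU.range_fromSpec]
    exact Set.mem_range_self Q
  have hyQ : hU.primeIdealOf ⟨y, hyU⟩ = Q :=
    hU.fromSpec.isOpenEmbedding.injective (hU.fromSpec_primeIdealOf ⟨y, hyU⟩)
  have hyx : y ⤳ x := by
    have h := ((PrimeSpectrum.le_iff_specializes _ _).1 hQ).map hU.fromSpec.continuous
    rwa [hU.fromSpec_primeIdealOf ⟨x, hxU⟩] at h
  let L := Localization.AtPrime q.asIdeal
  haveI hloc : IsLocalization.AtPrime L Q.asIdeal :=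
    IsLocalization.isLocalization_isLocalization_atPrime_isLocalization p.primeCompl L q.asIdeal
  refine ⟨y, hyx, ?_, fun M _ => ?_⟩
  · let : Algebra S (X.presheaf.stalk y) := TopCat.Presheaf.algebra_section_stalk X.presheaf ⟨y, hyU⟩
    haveI : IsLocalization.AtPrime (X.presheaf.stalk y) Q.asIdeal := by
      have h := hU.isLocalization_stalk ⟨y, hyU⟩
      rwa [hyQ] at h
    rw [IsLocalization.AtPrime.ringKrullDim_eq_height Q.asIdeal (X.presheaf.stalk y),
      ← IsLocalization.AtPrime.ringKrullDim_eq_height Q.asIdeal L,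
      IsLocalization.AtPrime.ringKrullDim_eq_height q.asIdeal L]
  · let := QCohLib.germModule M x hxU
    haveI := QCohLib.isLocalizedModule_germ (M := M) hU x hxU
    haveI : IsScalarTower S (X.presheaf.stalk x) (M.presheaf.stalk x) :=
      IsScalarTower.of_algebraMap_smul fun _ _ => rfl
    let f : Γ(M, U) →ₗ[S] LocalizedModule q.asIdeal.primeCompl (M.presheaf.stalk x) :=
      ((LocalizedModule.mkLinearMap q.asIdeal.primeCompl (M.presheaf.stalk x)).restrictScalars S).comp
        (QCohLib.germLinearMap M x hxU)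
    haveI : IsScalarTower S L (LocalizedModule q.asIdeal.primeCompl (M.presheaf.stalk x)) :=
      IsScalarTower.of_algebraMap_smul fun a z => by
        rw [IsScalarTower.algebraMap_apply S (X.presheaf.stalk x) L a, algebraMap_smul, algebraMap_smul]
    haveI hf : IsLocalizedModule Q.asIdeal.primeCompl f := by
      have h1 : IsBaseChange L (LocalizedModule.mkLinearMap q.asIdeal.primeCompl (M.presheaf.stalk x)) :=
        IsLocalizedModule.isBaseChange q.asIdeal.primeCompl L _
      have h2 : IsBaseChange (X.presheaf.stalk x) (QCohLib.germLinearMap M x hxU) :=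
        IsLocalizedModule.isBaseChange p.primeCompl (X.presheaf.stalk x) _
      exact (isLocalizedModule_iff_isBaseChange Q.asIdeal.primeCompl L f).2 (h2.comp h1)
    refine ⟨?_, ?_⟩
    · rw [QCohLib.mem_support_iff_mem_moduleSupport hU y hyU, hyQ, Module.mem_support_iff, Module.mem_support_iff]
      exact ⟨fun h => (IsLocalizedModule.iso Q.asIdeal.primeCompl f).toEquiv.nontrivial,
        fun h => (IsLocalizedModule.iso Q.asIdeal.primeCompl f).symm.toEquiv.nontrivial⟩
    · rw [KoszulHZ.depth_stalk_eq M hU y hyU, hyQ]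
      exact KoszulHZ.depth_eq_localization Q.asIdeal f

end Groth.Agent.CohDual.StalkPrime
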