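import Groth.Agent.CohDual.ProjDualizing
import Groth.Agent.ProjCoh.ExtTwist
import Groth.Agent.ProjCoh.Serre
import Groth.Agent.ProjCoh.TwistEpi
import Groth.Agent.SSExist.FlatInj
import Groth.Agent.ModGroth.FinLocFree
import Groth.Agent.ModGroth.KFlatScheme
import Groth.Agent.SSExist.ModGlobal

/-!
# Negative twists as test objects: `Ext^j` and the sections of the Ext sheaves
-/

set_option autoImplicit false
set_option linter.style.haveILetI false

universe u

open CategoryTheory CategoryTheory.Limits CategoryTheory.Abelian AlgebraicGeometry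

namespace Groth.Agent.CohDual

section Abstract

universe w v u'

variable {C : Type u'} [Category.{v} C] [Abelian C] [EnoughInjectives C] [HasInjectiveResolutions C] [HasExt.{w} C]
  {T R : C ⥤ C} [R.Additive] (adj : T ⊣ R)

/-- Acyclicity as vanishing of `Ext^{>0}` out of the test objects. -/
noncomputable def extData (InG : C → Prop)
    (hinj : ∀ I : C, Injective I → ∀ G, InG G → ∀ i, Subsingleton (Ext.{w} G (R.obj I) (i + 1))) :
    AcyData T R where
  Acy M := ∀ G, InG G → ∀ i, Subsingleton (Ext.{w} G M (i + 1))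
  InK _ := True
  InG := InG
  inK _ := trivial
  acy_inj := hinj
  quot S hS h₁ h₂ _ G hG i := subsingleton_of_forall_eq 0 fun x => by
    obtain ⟨y, rfl⟩ := Ext.covariant_sequence_exact₃ _ hS x rfl ((h₁ G hG (i + 1)).elim _ _)
    rw [(h₂ G hG i).elim y 0, Ext.zero_comp]
  mid S hS h₁ h₃ _ G hG i := subsingleton_of_forall_eq 0 fun x => by
    obtain ⟨y, rfl⟩ := Ext.covariant_sequence_exact₂ _ hS x ((h₃ G hG i).elim _ _)
    rw [(h₁ G hG i).elim y 0, Ext.zero_comp]
  ofIso {A B} e h G hG i := subsingleton_of_forall_eq 0 fun x => by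
    rw [← Ext.comp_mk₀_id x, ← e.inv_hom_id, ← Ext.mk₀_comp_mk₀,
      ← Ext.comp_assoc x (Ext.mk₀ e.inv) (Ext.mk₀ e.hom) (add_zero _) (add_zero _) (by simp),
      (h G hG i).elim (x.comp (Ext.mk₀ e.inv) (add_zero _)) 0, Ext.zero_comp]
  lift S hS h₁ _ G hG φ := by
    obtain ⟨ψ, hψ⟩ := Ext.covariant_sequence_exact₃ _ hS (Ext.mk₀ φ) rfl ((h₁ G hG 0).elim _ _)
    obtain ⟨ψ, rfl⟩ := (Ext.mk₀_bijective _ _).2 ψ
    rw [Ext.mk₀_comp_mk₀] at hψ
    exact ⟨ψ, (Ext.mk₀_bijective _ _).1 hψ⟩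

include adj in
/-- `Ext^{c+1}(T G, M) ≅ Hom(G, R^{c+1} M)` for test objects. -/
theorem exists_ext_test_equiv [T.Additive] [PreservesFiniteLimits R] (InG : C → Prop)
    (hinj : ∀ I : C, Injective I → ∀ G, InG G → ∀ i, Subsingleton (Ext.{w} G (R.obj I) (i + 1))) (M : C) (c : ℕ)
    (hM : ∀ l, l ≤ c → ∀ G, InG G → ∀ i, Subsingleton (Ext.{w} G ((R.rightDerived l).obj M) (i + 1)))
    (G : C) (hG : InG G) :
    Nonempty (Ext.{w} (T.obj G) M (c + 1) ≃+ (G ⟶ (R.rightDerived (c + 1)).obj M)) := by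
  obtain ⟨e, -⟩ := exists_ext_equiv adj (extData InG hinj) c M
    ((extData InG hinj).ofIso (R.rightDerivedZeroIsoSelf.app M) (hM 0 (Nat.zero_le c)))
    fun j _ hj => hM j hj
  exact ⟨e G hG⟩

end Abstract

section Scheme

variable {X P : Scheme.{u}} (i : X ⟶ P) [HasExt.{u} P.Modules]
  [ModSite.HasSheafHom (O := P.sheaf) ((Scheme.Modules.pushforward i).obj (Coh.structureModule X))]

/-- `Hom(i_* O, I)` is acyclic for `Ext` out of flat modules. -/
theorem subsingleton_ext_homS_injective (I : P.Modules) (hI : Injective I) (G : P.Modules)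
    (hG : FlatMod.IsFlat G) (j : ℕ) : Subsingleton (Ext.{u} G ((homS i).obj I) (j + 1)) := by
  haveI : Injective (C := ModSite.Mod P.sheaf) I := hI
  haveI : HasExt.{u} (ModSite.Mod P.sheaf) := inferInstanceAs (HasExt.{u} P.Modules)
  exact SSExist.subsingleton_ext_flat (O := P.sheaf)
    (SSExist.flatInj_sheafHom (O := P.sheaf) ((Scheme.Modules.pushforward i).obj (Coh.structureModule X)) I)
    ((ModGroth.isFlat_iff_flatMod G).2 hG) j

end Scheme

open Groth.Agent.ModGroth in
/-- `Ext` out of an invertible module vanishes with the cohomology of the twist. -/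
theorem subsingleton_ext_of_tensor_inverse {P : Scheme.{u}} [HasExt.{u} P.Modules] (A B M : P.Modules)
    (hAB : Nonempty (CohB1.tensorMod A B ≅ Coh.structureModule P))
    (hBA : Nonempty (CohB1.tensorMod B A ≅ Coh.structureModule P)) (i : ℕ)
    (h : Subsingleton (Coh.HH P (CohB1.tensorMod M A) i)) : Subsingleton (Ext.{u} B M i) := by
  obtain ⟨eAB⟩ := hAB
  obtain ⟨eBA⟩ := hBA
  haveI : HasExt.{u} (ModSite.Mod P.sheaf) := inferInstanceAs (HasExt.{u} P.Modules)
  let u0 : unitObj P.sheaf ≅ ModSite.unit P.sheaf :=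
    haveI : IsIso (adjn P.sheaf).counit :=
      inferInstanceAs (IsIso (PresheafOfModules.sheafificationAdjunction (𝟙 (ModSite.ringSh P.sheaf).obj)).counit)
    (asIso (adjn P.sheaf).counit).app (ModSite.unit P.sheaf)
  exact ProjCoh.subsingleton_ext_of_inverse (O := P.sheaf) A B (eAB ≪≫ u0.symm) (eBA ≪≫ u0.symm) M i h

end Groth.Agent.CohDual
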